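/-
Stalks of quasi-coherent ideal sheaves and localisation along generisations.
-/
import Groth.Prelude.Def_IntMult
import Groth.Agent.Divisors.IdealComap
import Mathlib.AlgebraicGeometry.AffineScheme

set_option autoImplicit false
universe u

open CategoryTheory AlgebraicGeometry TopologicalSpace Opposite IntMult

namespace Groth.ParaFormal

variable {X Y : Scheme.{u}}

theorem germ_comp_spec {U : X.Opens} {x x' : X} (h : x' ⤳ x) (hx : x ∈ U) :
    (X.presheaf.stalkSpecializes h).hom.comp (X.presheaf.germ U x hx).hom =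
      (X.presheaf.germ U x' (h.mem_open U.2 hx)).hom := by
  rw [← CommRingCat.hom_comp, TopCat.Presheaf.germ_stalkSpecializes]

theorem spec_comp {x x' x'' : X} (h : x' ⤳ x) (h' : x'' ⤳ x') :
    (X.presheaf.stalkSpecializes h').hom.comp (X.presheaf.stalkSpecializes h).hom =
      (X.presheaf.stalkSpecializes (h'.trans h)).hom := by
  rw [← CommRingCat.hom_comp, TopCat.Presheaf.stalkSpecializes_comp]

/-- The stalk is computed on any affine neighbourhood. -/
theorem stalkIdeal_eq (I : X.IdealSheafData) (U : X.affineOpens) {x : X} (hx : x ∈ U.1) :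
    stalkIdeal I x = (I.ideal U).map (X.presheaf.germ U.1 x hx).hom := by
  refine le_antisymm (iSup₂_le fun U' hx' => ?_) (le_iSup₂_of_le U hx le_rfl)
  obtain ⟨W, hxW, hW⟩ := Divisors.exists_affine_le x (U.1 ⊓ U'.1) ⟨hx, hx'⟩
  have key : ∀ (V : X.affineOpens) (hxV : x ∈ V.1) (hle : W.1 ≤ V.1),
      (I.ideal V).map (X.presheaf.germ V.1 x hxV).hom = (I.ideal W).map (X.presheaf.germ W.1 x hxW).hom := by
    intro V hxV hle
    rw [← I.map_ideal (U := W) (V := V) hle, Ideal.map_map, ← CommRingCat.hom_comp]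
    erw [TopCat.Presheaf.germ_res]
  rw [key U hx (hW.trans inf_le_left), key U' hx' (hW.trans inf_le_right)]

theorem mem_ideal_of_stalk (U : X.affineOpens) (K : Ideal Γ(X, U.1)) (a : Γ(X, U.1))
    (h : ∀ (x : X) (hx : x ∈ U.1),
      X.presheaf.germ U.1 x hx a ∈ K.map (X.presheaf.germ U.1 x hx).hom) : a ∈ K := by
  by_contra ha
  have hne : K.colon {a} ≠ ⊤ := fun e => ha (by
    have h1 : (1 : Γ(X, U.1)) ∈ K.colon {a} := e ▸ Submodule.mem_top
    simpa [Submodule.mem_colon_singleton] using h1)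
  obtain ⟨M, hM, hle⟩ := Ideal.exists_le_maximal _ hne
  let p : Spec Γ(X, U.1) := ⟨M, hM.isPrime⟩
  have hx : U.2.fromSpec p ∈ U.1 := by
    change U.2.fromSpec p ∈ (U.1 : Set X)
    rw [← U.2.range_fromSpec]; exact ⟨p, rfl⟩
  let _ := TopCat.Presheaf.algebra_section_stalk X.presheaf ⟨_, hx⟩
  have := U.2.isLocalization_stalk ⟨_, hx⟩
  obtain ⟨s, hs, hsa⟩ := (IsLocalization.algebraMap_mem_map_algebraMap_iff
    (U.2.primeIdealOf ⟨_, hx⟩).asIdeal.primeCompl (X.presheaf.stalk (U.2.fromSpec p)) K a).1 (h _ hx)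
  have e : U.2.primeIdealOf ⟨_, hx⟩ = p :=
    U.2.fromSpec.isOpenEmbedding.injective (U.2.fromSpec_primeIdealOf _)
  refine hs ?_
  rw [e]
  exact hle (Submodule.mem_colon_singleton.2 hsa)

theorem ideal_eq_comap_stalk (I : X.IdealSheafData) (U : X.affineOpens) (a : Γ(X, U.1)) :
    a ∈ I.ideal U ↔ ∀ (x : X) (hx : x ∈ U.1), X.presheaf.germ U.1 x hx a ∈ stalkIdeal I x := by
  refine ⟨fun ha x hx => ?_, fun h => mem_ideal_of_stalk U _ a fun x hx => ?_⟩
  · rw [stalkIdeal_eq I U hx]; exact Ideal.mem_map_of_mem _ ha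
  · rw [← stalkIdeal_eq I U hx]; exact h x hx

theorem idealSheaf_ext {I J : X.IdealSheafData} (h : ∀ x : X, stalkIdeal I x = stalkIdeal J x) :
    I = J := by
  ext U : 2
  ext a
  simp only [ideal_eq_comap_stalk, h]

theorem stalkIdeal_spec (I : X.IdealSheafData) {x x' : X} (h : x' ⤳ x) :
    (stalkIdeal I x).map (X.presheaf.stalkSpecializes h).hom = stalkIdeal I x' := by
  obtain ⟨U, hx, -⟩ := Divisors.exists_affine_le x ⊤ trivial
  rw [stalkIdeal_eq I U hx, stalkIdeal_eq I U (h.mem_open U.1.2 hx), Ideal.map_map, germ_comp_spec]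

theorem stalkIdeal_comap (I : Y.IdealSheafData) (f : X ⟶ Y) (x : X) :
    stalkIdeal (I.comap f) x = (stalkIdeal I (f x)).map (f.stalkMap x).hom := by
  obtain ⟨U, hU, -⟩ := Divisors.exists_affine_le (f x) ⊤ trivial
  obtain ⟨V, hV, hVU⟩ := Divisors.exists_affine_le x (f ⁻¹ᵁ U.1) hU
  rw [stalkIdeal_eq _ V hV, stalkIdeal_eq I U hU, Divisors.ideal_comap_affine I f U V hVU,
    Ideal.map_map, Ideal.map_map, ← CommRingCat.hom_comp, ← CommRingCat.hom_comp,
    Scheme.Hom.germ_stalkMap, Scheme.Hom.appLE, Category.assoc, TopCat.Presheaf.germ_res]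

theorem comap_maximal_eq {U : X.Opens} (hU : IsAffineOpen U) {x : X} (hx : x ∈ U) :
    (IsLocalRing.maximalIdeal (X.presheaf.stalk x)).comap (X.presheaf.germ U x hx).hom =
      (hU.primeIdealOf ⟨x, hx⟩).asIdeal := by
  let _ := TopCat.Presheaf.algebra_section_stalk X.presheaf ⟨x, hx⟩
  have := hU.isLocalization_stalk ⟨x, hx⟩
  exact IsLocalization.AtPrime.under_maximalIdeal (X.presheaf.stalk x) _

/-- Primes of the local ring are generisations. -/
theorem exists_spec_comap_eq (x : X) (P : Ideal (X.presheaf.stalk x)) [P.IsPrime] :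
    ∃ (x' : X) (h : x' ⤳ x),
      (IsLocalRing.maximalIdeal (X.presheaf.stalk x')).comap (X.presheaf.stalkSpecializes h).hom = P := by
  obtain ⟨U, hx, -⟩ := Divisors.exists_affine_le x ⊤ trivial
  let p : Spec Γ(X, U.1) := ⟨P.comap (X.presheaf.germ U.1 x hx).hom, inferInstance⟩
  have hle : p.asIdeal ≤ (U.2.primeIdealOf ⟨x, hx⟩).asIdeal := by
    rw [← comap_maximal_eq U.2 hx]
    exact Ideal.comap_mono (IsLocalRing.le_maximalIdeal Ideal.IsPrime.ne_top')
  have hs : U.2.fromSpec p ⤳ x := by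
    have h1 : p ⤳ U.2.primeIdealOf ⟨x, hx⟩ := (PrimeSpectrum.le_iff_specializes _ _).1 hle
    have h2 := h1.map U.2.fromSpec.continuous
    rwa [U.2.fromSpec_primeIdealOf] at h2
  refine ⟨_, hs, ?_⟩
  let _ := TopCat.Presheaf.algebra_section_stalk X.presheaf ⟨x, hx⟩
  have := U.2.isLocalization_stalk ⟨x, hx⟩
  have hx' := hs.mem_open U.1.2 hx
  have e : U.2.primeIdealOf ⟨_, hx'⟩ = p :=
    U.2.fromSpec.isOpenEmbedding.injective (U.2.fromSpec_primeIdealOf _)
  have key : ∀ Q : Ideal (X.presheaf.stalk x),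
      (Q.comap (X.presheaf.germ U.1 x hx).hom).map (X.presheaf.germ U.1 x hx).hom = Q := fun Q =>
    IsLocalization.map_under (U.2.primeIdealOf ⟨x, hx⟩).asIdeal.primeCompl _ Q
  rw [← key P, ← key ((IsLocalRing.maximalIdeal _).comap _), Ideal.comap_comap, germ_comp_spec,
    comap_maximal_eq U.2 hx', e]

/-- A generisation is a localisation of the local ring. -/
theorem exists_mul_mem {x x' : X} (h : x' ⤳ x) (K : Ideal (X.presheaf.stalk x))
    (b : X.presheaf.stalk x)
    (hb : X.presheaf.stalkSpecializes h b ∈ K.map (X.presheaf.stalkSpecializes h).hom) :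
    ∃ s, IsUnit (X.presheaf.stalkSpecializes h s) ∧ s * b ∈ K := by
  obtain ⟨U, hx, -⟩ := Divisors.exists_affine_le x ⊤ trivial
  let _ := TopCat.Presheaf.algebra_section_stalk X.presheaf ⟨x, hx⟩
  have := U.2.isLocalization_stalk ⟨x, hx⟩
  set g := (X.presheaf.germ U.1 x hx).hom with hg
  set K' := K.comap g with hK'
  have hK : K'.map g = K :=
    IsLocalization.map_under (U.2.primeIdealOf ⟨x, hx⟩).asIdeal.primeCompl _ K
  obtain ⟨a, t, hat⟩ := IsLocalization.exists_mk'_eq (U.2.primeIdealOf ⟨x, hx⟩).asIdeal.primeCompl b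
  have hmul : b * g t = g a := by
    rw [← hat]; exact IsLocalization.mk'_spec (X.presheaf.stalk x) a t
  have hx' := h.mem_open U.1.2 hx
  have h2 : X.presheaf.germ U.1 x' hx' a ∈ K'.map (X.presheaf.germ U.1 x' hx').hom := by
    rw [← germ_comp_spec h hx, ← Ideal.map_map, ← hg, hK]
    have := Ideal.mul_mem_right (X.presheaf.stalkSpecializes h (g t)) _ hb
    rw [← map_mul, hmul] at this
    rw [show X.presheaf.germ U.1 x' hx' a = X.presheaf.stalkSpecializes h (g a) from
      (RingHom.congr_fun (germ_comp_spec h hx) a).symm]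
    exact this
  let _ := TopCat.Presheaf.algebra_section_stalk X.presheaf ⟨x', hx'⟩
  have := U.2.isLocalization_stalk ⟨x', hx'⟩
  obtain ⟨s, hs, hsa⟩ := (IsLocalization.algebraMap_mem_map_algebraMap_iff
    (U.2.primeIdealOf ⟨x', hx'⟩).asIdeal.primeCompl (X.presheaf.stalk x') K' a).1 h2
  refine ⟨g s, ?_, ?_⟩
  · rw [show X.presheaf.stalkSpecializes h (g s) = X.presheaf.germ U.1 x' hx' s from
      RingHom.congr_fun (germ_comp_spec h hx) s]
    exact IsLocalization.map_units (X.presheaf.stalk x') (⟨s, hs⟩ : (U.2.primeIdealOf ⟨x', hx'⟩).asIdeal.primeCompl)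
  · have h3 : g (s * a) ∈ K := hsa
    rw [map_mul, ← hmul, ← mul_assoc] at h3
    have hu : IsUnit (g t) := IsLocalization.map_units (X.presheaf.stalk x) t
    exact (Ideal.mul_unit_mem_iff_mem K hu).1 h3

end Groth.ParaFormal
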