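/-
The Ramanujam–Samuel theorem for power series rings.
-/
import Groth.Agent.Calg2.PowerSeriesNormal
import Groth.Agent.ArtfunDeform.PowerSeries
import Mathlib.RingTheory.PowerSeries.WeierstrassPreparation
import Mathlib.RingTheory.MvPowerSeries.Equiv
import Mathlib.RingTheory.MvPowerSeries.Substitution
import Mathlib.RingTheory.Polynomial.GaussLemma

set_option autoImplicit false
universe u

open IsLocalRing

namespace Groth.ParaFormal.RamanujamSamuel

open Polynomial in
/-- Over an integrally closed domain, a prime of `R[X]` avoiding the nonzero constants and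
containing a monic polynomial is principal. -/
theorem principal_of_monic_mem {R : Type u} [CommRing R] [IsDomain R] [IsIntegrallyClosed R]
    (P : Ideal R[X]) [hP : P.IsPrime] {f : R[X]} (hf : f.Monic) (hfP : f ∈ P)
    (hP0 : ∀ c : R, C c ∈ P → c = 0) : ∃ p, P = Ideal.span {p} := by
  classical
  let K := FractionRing R
  set φ := mapRingHom (algebraMap R K) with hφ
  have hsat : ∀ a, φ a ∈ P.map φ → a ∈ P := by
    let _ : Algebra R[X] K[X] := φ.toAlgebra
    have : IsLocalization ((nonZeroDivisors R).map (C : R →+* R[X])) K[X] :=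
      Polynomial.isLocalization (nonZeroDivisors R) K
    intro a ha
    obtain ⟨m, hm, hma⟩ := (IsLocalization.algebraMap_mem_map_algebraMap_iff
      ((nonZeroDivisors R).map (C : R →+* R[X])) K[X] P a).1 ha
    obtain ⟨c, hc, rfl⟩ := Submonoid.mem_map.1 hm
    exact (hP.mem_or_mem hma).resolve_left fun h => nonZeroDivisors.ne_zero hc (hP0 c h)
  have hfK : φ f ≠ 0 := (hf.map (algebraMap R K)).ne_zero
  obtain ⟨π, hπ⟩ := (IsPrincipalIdealRing.principal (P.map φ)).principal
  have hπf : π ∣ φ f := Ideal.mem_span_singleton.1 (by rw [Ideal.span, ← hπ]; exact Ideal.mem_map_of_mem φ hfP)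
  have hπ0 : π ≠ 0 := fun h => hfK (zero_dvd_iff.1 (h ▸ hπf))
  obtain ⟨p, hp⟩ := IsIntegrallyClosed.eq_map_mul_C_of_dvd K hf hπf
  have hlc : π.leadingCoeff ≠ 0 := leadingCoeff_ne_zero.2 hπ0
  have hspan : Ideal.span {φ p} = P.map φ := by
    rw [hπ]
    change Ideal.span {φ p} = Ideal.span {π}
    conv_rhs => rw [← hp]
    exact (Ideal.span_singleton_mul_right_unit (isUnit_C.2 hlc.isUnit) _).symm
  have hpm : p.Monic := by
    refine monic_of_injective (IsFractionRing.injective R K) ?_
    rw [Monic]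
    have h := congrArg leadingCoeff hp
    rw [leadingCoeff_mul, leadingCoeff_C] at h
    exact mul_right_cancel₀ hlc (h.trans (one_mul _).symm)
  refine ⟨p, le_antisymm (fun a ha => ?_) ?_⟩
  · have h := Ideal.mem_map_of_mem φ ha
    rw [← hspan, Ideal.mem_span_singleton] at h
    exact Ideal.mem_span_singleton.2 ((map_dvd_map _ (IsFractionRing.injective R K) hpm).1 h)
  · rw [Ideal.span_singleton_le_iff_mem]
    exact hsat p (hspan ▸ Ideal.mem_span_singleton_self _)

open PowerSeries in
/-- A height one prime of `R⟦X⟧` containing a series which is nonzero modulo the maximal ideal. -/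
theorem principal_core {R : Type u} [CommRing R] [IsDomain R] [IsNoetherianRing R] [IsLocalRing R]
    [IsIntegrallyClosed R] [IsAdicComplete (maximalIdeal R) R]
    (q : Ideal R⟦X⟧) [q.IsPrime] (hq : q.height = 1) {g : R⟦X⟧} (hg : g ∈ q)
    (hg0 : g.map (residue R) ≠ 0) : ∃ p, q = Ideal.span {p} := by
  obtain ⟨f, h, H⟩ := exists_isWeierstrassFactorization hg0
  let φ : Polynomial R →+* R⟦X⟧ := Polynomial.coeToPowerSeries.ringHom
  let ψ : Polynomial R →+* R⟦X⟧ ⧸ Ideal.span {g} := (Ideal.Quotient.mk _).comp φ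
  let e : (Polynomial R ⧸ Ideal.span {f}) ≃ₐ[R] R⟦X⟧ ⧸ Ideal.span {g} :=
    IsWeierstrassFactorizationAt.algEquivQuotient H
  have heψ : ∀ a, e (Ideal.Quotient.mk _ a) = ψ a := fun a => by
    simp only [e, ψ, φ, IsWeierstrassFactorizationAt.algEquivQuotient,
      Polynomial.IsDistinguishedAt.algEquivQuotient]
    rfl
  have hψs : Function.Surjective ψ := fun z => by
    obtain ⟨w, rfl⟩ := e.surjective z
    obtain ⟨a, rfl⟩ := Ideal.Quotient.mk_surjective w
    exact ⟨a, (heψ a).symm⟩
  have hψk : RingHom.ker ψ = Ideal.span {f} := by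
    ext a
    rw [RingHom.mem_ker, ← heψ, ← map_zero e, e.injective.eq_iff, Ideal.Quotient.eq_zero_iff_mem]
  have hgfh : g = φ f * h := H.eq_mul
  have hfq : φ f ∈ q := by
    rw [hgfh] at hg
    exact (Ideal.mul_unit_mem_iff_mem q H.isUnit).1 hg
  have hfm : f.Monic := H.isDistinguishedAt.monic
  set P := q.comap φ with hP
  have hqmap : (q.map (Ideal.Quotient.mk (Ideal.span {g}))).comap (Ideal.Quotient.mk _) = q := by
    rw [Ideal.comap_map_of_surjective _ Ideal.Quotient.mk_surjective, sup_eq_left,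
      ← RingHom.ker_eq_comap_bot, Ideal.mk_ker, Ideal.span_singleton_le_iff_mem]
    exact hg
  have hg_ne : g ≠ 0 := fun h0 => hg0 (by rw [h0, map_zero])
  -- the primes of `R[X]` between `(f)` and `P`
  have key : ∀ Q : Ideal (Polynomial R), Q.IsPrime → f ∈ Q → Q ≤ P →
      (Q.map ψ).comap (Ideal.Quotient.mk _) = q := by
    intro Q hQ hfQ hQP
    have : (Q.map ψ).IsPrime := Ideal.map_isPrime_of_surjective hψs
      (by rw [hψk, Ideal.span_singleton_le_iff_mem]; exact hfQ)
    set Q' := (Q.map ψ).comap (Ideal.Quotient.mk (Ideal.span {g})) with hQ'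
    have hle : Q' ≤ q := by
      conv_rhs => rw [← hqmap]
      refine Ideal.comap_mono ?_
      rw [← Ideal.map_map]
      exact Ideal.map_mono (Ideal.map_le_iff_le_comap.2 hQP)
    refine eq_of_le_of_not_lt hle fun hlt => ?_
    have hgQ : g ∈ Q' := by
      rw [hQ', Ideal.mem_comap, Ideal.Quotient.eq_zero_iff_mem.2 (Ideal.mem_span_singleton_self g)]
      exact Submodule.zero_mem _
    have h1 := Ideal.height_strict_mono_of_isPrime hlt
    rw [hq, Order.lt_one_iff] at h1
    exact hg_ne ((Submodule.eq_bot_iff _).1 (Ideal.height_eq_zero_iff_eq_bot.1 h1) g hgQ)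
  have hback : ∀ Q : Ideal (Polynomial R), f ∈ Q → ((Q.map ψ).comap (Ideal.Quotient.mk _)).comap φ = Q := by
    intro Q hfQ
    rw [Ideal.comap_comap, Ideal.comap_map_of_surjective ψ hψs, sup_eq_left, ← RingHom.ker_eq_comap_bot, hψk,
      Ideal.span_singleton_le_iff_mem]
    exact hfQ
  have hmin : P ∈ (Ideal.span {f}).minimalPrimes := by
    refine ⟨⟨inferInstance, (Ideal.span_singleton_le_iff_mem _).2 hfq⟩, fun Q hQ hQP => ?_⟩
    have hfQ := (Ideal.span_singleton_le_iff_mem _).1 hQ.2
    rw [← hback Q hfQ, key Q hQ.1 hfQ hQP]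
  have hP1 := Ideal.height_le_one_of_isPrincipal_of_mem_minimalPrimes _ P hmin
  have hP0 : ∀ c : R, Polynomial.C c ∈ P → c = 0 := by
    by_contra! hc
    obtain ⟨c, hc, hc0⟩ := hc
    set p₀ := P.comap (Polynomial.C : R →+* Polynomial R) with hp₀
    have : (p₀.map (Polynomial.C : R →+* Polynomial R)).IsPrime := Ideal.isPrime_map_C_of_isPrime
    have hlt : p₀.map (Polynomial.C : R →+* Polynomial R) < P := by
      refine lt_of_le_of_ne Ideal.map_comap_le fun e => ?_
      have h1 := Ideal.mem_map_C_iff.1 (e.symm ▸ hfq : f ∈ p₀.map (Polynomial.C : R →+* Polynomial R)) f.natDegree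
      rw [hfm.coeff_natDegree] at h1
      exact Ideal.IsPrime.ne_top' ((Ideal.eq_top_iff_one _).2 h1)
    have h2 := Ideal.height_strict_mono_of_isPrime hlt
    have h3 : (p₀.map (Polynomial.C : R →+* Polynomial R)).height ≠ 0 := fun h0 => hc0 (by
      have := (Submodule.eq_bot_iff _).1 (Ideal.height_eq_zero_iff_eq_bot.1 h0) _ (Ideal.mem_map_of_mem _ (show c ∈ p₀ from hc))
      exact Polynomial.C_eq_zero.1 this)
    exact h3 (Order.lt_one_iff.1 (h2.trans_le hP1))
  obtain ⟨p, hp⟩ := principal_of_monic_mem P hfm hfq hP0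
  refine ⟨φ p, le_antisymm ?_ ?_⟩
  · rw [← key P inferInstance hfq le_rfl]
    intro z hz
    rw [Ideal.mem_comap, hp, Ideal.map_span, Set.image_singleton, Ideal.mem_span_singleton'] at hz
    obtain ⟨a, ha⟩ := hz
    obtain ⟨a, rfl⟩ := Ideal.Quotient.mk_surjective a
    rw [show ψ p = Ideal.Quotient.mk _ (φ p) from rfl, ← map_mul, Ideal.Quotient.eq,
      Ideal.mem_span_singleton'] at ha
    obtain ⟨b, hb⟩ := ha
    have hgp : g ∈ Ideal.span {φ p} := by
      obtain ⟨w, hw⟩ := Ideal.mem_span_singleton'.1 (hp ▸ hfq : f ∈ Ideal.span {p})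
      rw [hgfh, ← hw, map_mul]
      exact Ideal.mul_mem_right _ _ (Ideal.mul_mem_left _ _ (Ideal.mem_span_singleton_self _))
    rw [show z = a * φ p - b * g by rw [hb]; ring]
    exact Ideal.sub_mem _ (Ideal.mul_mem_left _ _ (Ideal.mem_span_singleton_self _))
      (Ideal.mul_mem_left _ _ hgp)
  · rw [Ideal.span_singleton_le_iff_mem, ← Ideal.mem_comap, ← hP, hp]
    exact Ideal.mem_span_singleton_self _

section Change

open MvPowerSeries

variable {A : Type u} [CommRing A] {n : ℕ}

/-- `X_i ↦ X_i + c X_0 ^ w_i`. -/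
noncomputable def shift (w : Fin (n + 1) → ℕ) (c : A) (i : Fin (n + 1)) : MvPowerSeries (Fin (n + 1)) A :=
  if i = 0 then X 0 else X i + C c * X 0 ^ w i

theorem hasSubst_shift {w : Fin (n + 1) → ℕ} (hw : ∀ i, w i ≠ 0) (c : A) : HasSubst (shift w c) :=
  hasSubst_of_constantCoeff_zero fun i => by
    rw [shift]; split_ifs <;> simp [zero_pow (hw i)]

theorem subst_shift_shift {w : Fin (n + 1) → ℕ} (hw : ∀ i, w i ≠ 0) {c c' : A} (hc : c + c' = 0)
    (f : MvPowerSeries (Fin (n + 1)) A) : subst (shift w c') (subst (shift w c) f) = f := by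
  rw [subst_comp_subst_apply (hasSubst_shift hw c) (hasSubst_shift hw c')]
  have h : (fun i => subst (shift w c') (shift w c i)) = (X : Fin (n + 1) → MvPowerSeries (Fin (n + 1)) A) := by
    funext i
    have hC : ∀ r : A, subst (shift w c') (C r : MvPowerSeries (Fin (n + 1)) A) = C r := fun r => subst_C r
    by_cases hi : i = 0
    · subst hi
      rw [shift, if_pos rfl, subst_X (hasSubst_shift hw c'), shift, if_pos rfl]
    · have hs := hasSubst_shift hw c'
      rw [shift, if_neg hi, subst_add hs, subst_mul hs, subst_pow hs, subst_X hs, subst_X hs, hC, shift,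
        shift, if_neg hi, if_pos rfl, add_assoc, ← add_mul, ← map_add, add_comm c', hc, map_zero, zero_mul,
        add_zero]
  rw [h, subst_self]
  rfl

/-- The automorphism attached to the weights. -/
noncomputable def shiftEquiv {w : Fin (n + 1) → ℕ} (hw : ∀ i, w i ≠ 0) :
    MvPowerSeries (Fin (n + 1)) A ≃ₐ[A] MvPowerSeries (Fin (n + 1)) A :=
  AlgEquiv.ofAlgHom (substAlgHom (hasSubst_shift hw 1)) (substAlgHom (hasSubst_shift hw (-1)))
    (AlgHom.ext fun f => by
      simp only [AlgHom.comp_apply, substAlgHom_apply, AlgHom.id_apply]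
      exact subst_shift_shift hw (neg_add_cancel 1) f)
    (AlgHom.ext fun f => by
      simp only [AlgHom.comp_apply, substAlgHom_apply, AlgHom.id_apply]
      exact subst_shift_shift hw (add_neg_cancel 1) f)

theorem coeff_axis_shift {w : Fin (n + 1) → ℕ} (hw : ∀ i, w i ≠ 0) (hw0 : w 0 = 1)
    (f : MvPowerSeries (Fin (n + 1)) A) (k : ℕ) :
    coeff (Finsupp.single 0 k) (shiftEquiv hw f) =
      ∑ᶠ d : Fin (n + 1) →₀ ℕ, if ∑ i, w i * d i = k then coeff d f else 0 := by
  classical
  let r : Fin (n + 1) → MvPowerSeries (Fin (n + 1)) A := fun i => if i = 0 then X 0 else 0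
  have hr : HasSubst r := hasSubst_of_constantCoeff_zero fun i => by
    simp only [r]; split_ifs <;> simp
  have h1 : ∀ g : MvPowerSeries (Fin (n + 1)) A,
      coeff (Finsupp.single 0 k) (subst r g) = coeff (Finsupp.single 0 k) g := by
    intro g
    rw [coeff_subst hr, finsum_eq_single _ (Finsupp.single 0 k)]
    · rw [Finsupp.prod_single_index (h := fun s e => r s ^ e) (pow_zero _), show r 0 = X 0 from if_pos rfl,
        X_pow_eq, coeff_monomial_same, smul_eq_mul, mul_one]
    · intro d hd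
      by_cases hsupp : ∀ i, i ≠ 0 → d i = 0
      · have hd0 : d = Finsupp.single 0 (d 0) := by
          ext i
          by_cases hi : i = 0
          · subst hi; simp
          · rw [hsupp i hi, Finsupp.single_eq_of_ne hi]
        have hne : d 0 ≠ k := fun e => hd (by rw [hd0, e])
        rw [hd0, Finsupp.prod_single_index (h := fun s e => r s ^ e) (pow_zero _), show r 0 = X 0 from if_pos rfl, X_pow_eq,
          coeff_monomial_ne (fun e => hne (Finsupp.single_injective 0 e).symm), smul_zero]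
      · push Not at hsupp
        obtain ⟨i, hi, hdi⟩ := hsupp
        rw [Finsupp.prod, Finset.prod_eq_zero (Finsupp.mem_support_iff.2 hdi)
          (by simp [r, hi, zero_pow hdi]), map_zero, smul_zero]
  have h2 : subst r (shiftEquiv hw f) = subst (fun i => (X 0 : MvPowerSeries (Fin (n + 1)) A) ^ w i) f := by
    change subst r (substAlgHom (hasSubst_shift hw 1) f) = _
    rw [substAlgHom_apply, subst_comp_subst_apply (hasSubst_shift hw 1) hr]
    congr 1
    funext i
    by_cases hi : i = 0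
    · subst hi
      rw [shift, if_pos rfl, subst_X hr, hw0, pow_one]
      exact if_pos rfl
    · rw [shift, if_neg hi, subst_add hr, subst_mul hr, subst_pow hr, subst_X hr, subst_X hr, map_one,
        ← substAlgHom_apply hr (1 : MvPowerSeries (Fin (n + 1)) A), map_one, one_mul]
      simp [r, hi]
  have ha : HasSubst (fun i => (X 0 : MvPowerSeries (Fin (n + 1)) A) ^ w i) :=
    hasSubst_of_constantCoeff_zero fun i => by simp [zero_pow (hw i)]
  rw [← h1, h2, coeff_subst ha]
  refine finsum_congr fun d => ?_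
  rw [Finsupp.prod_fintype _ _ (fun i => pow_zero _)]
  have hprod : (∏ i, ((X 0 : MvPowerSeries (Fin (n + 1)) A) ^ w i) ^ d i) = X 0 ^ (∑ i, w i * d i) := by
    simp only [← pow_mul, Finset.prod_pow_eq_pow_sum]
  rw [hprod, X_pow_eq]
  rw [coeff_monomial, smul_eq_mul]
  by_cases he : ∑ i, w i * d i = k
  · subst he; simp
  · rw [if_neg he, if_neg (fun e => he (Finsupp.single_injective 0 e).symm), mul_zero]

end Change

theorem exists_weights {n : ℕ} (S : Set (Fin (n + 1) →₀ ℕ)) (hS : S.Nonempty) :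
    ∃ w : Fin (n + 1) → ℕ, (∀ i, w i ≠ 0) ∧ w 0 = 1 ∧
      ∃ d₀ ∈ S, ∀ d ∈ S, d ≠ d₀ → ∑ i, w i * d₀ i < ∑ i, w i * d i := by
  classical
  let key : (Fin (n + 1) →₀ ℕ) → Lex (Fin (n + 1) → ℕ) := fun d => toLex fun i => d (Fin.rev i)
  obtain ⟨d₀, hd₀, hmin⟩ := (InvImage.wf key (wellFounded_lt (α := Lex (Fin (n + 1) → ℕ)))).has_min S hS
  set M := (∑ i, d₀ i) + 1 with hM
  refine ⟨fun i => M ^ (i : ℕ), fun i => pow_ne_zero _ (Nat.succ_ne_zero _), pow_zero M, d₀, hd₀,
    fun d hd hne => ?_⟩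
  have hne' : key d ≠ key d₀ := fun e => hne (by
    ext i
    have := congrFun (toLex_inj.1 e) (Fin.rev i)
    simpa using this)
  have hlt : key d₀ < key d := lt_of_le_of_ne (not_lt.1 (hmin d hd)) hne'.symm
  obtain ⟨j, hj, hjlt⟩ := hlt
  have hjlt' : d₀ (Fin.rev j) < d (Fin.rev j) := hjlt
  have habove : ∀ i, Fin.rev j < i → d₀ i = d i := by
    intro i hi
    have := hj (Fin.rev i) (by rw [← Fin.rev_rev j]; exact Fin.rev_lt_rev.2 hi)
    simpa [key] using this
  set t := Fin.rev j
  have hlow : M * ∑ i ∈ Finset.univ.filter (fun i : Fin (n + 1) => i < t), M ^ (i : ℕ) * d₀ i ≤ M ^ (t : ℕ) * ∑ i, d₀ i := by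
    rw [Finset.mul_sum, Finset.mul_sum]
    refine (Finset.sum_le_sum fun i hi => ?_).trans
      (Finset.sum_le_sum_of_subset (Finset.subset_univ _))
    rw [← mul_assoc, ← pow_succ']
    exact Nat.mul_le_mul_right _ (Nat.pow_le_pow_right (Nat.succ_pos _) (Finset.mem_filter.1 hi).2)
  have hlow' : ∑ i ∈ Finset.univ.filter (fun i : Fin (n + 1) => i < t), M ^ (i : ℕ) * d₀ i < M ^ (t : ℕ) := by
    refine Nat.lt_of_mul_lt_mul_left (lt_of_le_of_lt hlow ?_) (a := M)
    rw [mul_comm M]
    exact Nat.mul_lt_mul_of_pos_left (Nat.lt_succ_self _) (pow_pos (Nat.succ_pos _) _)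
  calc ∑ i : Fin (n + 1), M ^ (i : ℕ) * d₀ i
      = ∑ i ∈ Finset.univ.filter (fun i : Fin (n + 1) => i < t), M ^ (i : ℕ) * d₀ i +
          ∑ i ∈ Finset.univ.filter (fun i : Fin (n + 1) => ¬ i < t), M ^ (i : ℕ) * d₀ i :=
        (Finset.sum_filter_add_sum_filter_not _ _ _).symm
    _ < M ^ (t : ℕ) + ∑ i ∈ Finset.univ.filter (fun i : Fin (n + 1) => ¬ i < t), M ^ (i : ℕ) * d₀ i :=
        Nat.add_lt_add_right hlow' _
    _ ≤ ∑ i ∈ Finset.univ.filter (fun i : Fin (n + 1) => ¬ i < t), M ^ (i : ℕ) * d i := by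
        have ht : t ∈ Finset.univ.filter (fun i : Fin (n + 1) => ¬ i < t) := by simp
        rw [← Finset.add_sum_erase _ _ ht, ← Finset.add_sum_erase _ _ ht, ← add_assoc]
        refine Nat.add_le_add ?_ (le_of_eq (Finset.sum_congr rfl fun i hi => ?_))
        · rw [add_comm, ← Nat.mul_succ]
          exact Nat.mul_le_mul_left _ hjlt'
        · obtain ⟨hit, hi⟩ := Finset.mem_erase.1 hi
          rw [habove i (lt_of_le_of_ne (not_lt.1 (Finset.mem_filter.1 hi).2) hit.symm)]
    _ ≤ _ := Finset.sum_le_sum_of_subset (Finset.subset_univ _)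

theorem isIntegrallyClosed_mvPowerSeries (A : Type u) [CommRing A] [IsDomain A] [IsNoetherianRing A]
    [IsIntegrallyClosed A] : ∀ n : ℕ, IsDomain (MvPowerSeries (Fin n) A) ∧ IsIntegrallyClosed (MvPowerSeries (Fin n) A)
  | 0 => by
    let e : MvPowerSeries (Fin 0) A ≃+* A := (MvPowerSeries.isEmptyEquiv (σ := Fin 0) (R := A)).toRingEquiv
    have := e.toMulEquiv.isDomain A
    exact ⟨inferInstance, IsIntegrallyClosed.of_equiv e.symm⟩
  | n + 1 => by
    obtain ⟨hd, hn⟩ := isIntegrallyClosed_mvPowerSeries A n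
    have := Groth.Calg2.PowerSeriesNormal.isIntegrallyClosed_powerSeries (R := MvPowerSeries (Fin n) A)
    let e : MvPowerSeries (Fin (n + 1)) A ≃+* PowerSeries (MvPowerSeries (Fin n) A) :=
      (MvPowerSeries.finSuccEquiv A n).toRingEquiv
    have := e.toMulEquiv.isDomain (PowerSeries (MvPowerSeries (Fin n) A))
    exact ⟨inferInstance, IsIntegrallyClosed.of_equiv e.symm⟩

theorem mem_map_C_of_coeff {A : Type u} [CommRing A] {σ : Type*} {m : Ideal A} (hm : m.FG)
    {f : MvPowerSeries σ A} (hf : ∀ d, MvPowerSeries.coeff d f ∈ m) :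
    f ∈ m.map (MvPowerSeries.C : A →+* MvPowerSeries σ A) := by
  obtain ⟨s, rfl⟩ := hm
  choose c _ hc using fun d => Submodule.mem_span_finset.1 (hf d)
  have e : f = ∑ a ∈ s, MvPowerSeries.C a * (show MvPowerSeries σ A from fun d => c d a) := by
    ext d
    rw [map_sum]
    refine (hc d).symm.trans (Finset.sum_congr rfl fun a _ => ?_)
    rw [MvPowerSeries.coeff_C_mul, smul_eq_mul, mul_comm]
    rfl
  rw [e]
  exact Ideal.sum_mem _ fun a ha =>
    Ideal.mul_mem_right _ _ (Ideal.mem_map_of_mem _ (Ideal.subset_span ha))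

theorem exists_equiv_regular {A : Type u} [CommRing A] [IsLocalRing A] {n : ℕ}
    (f : MvPowerSeries (Fin (n + 1)) A) (hf : ∃ d, MvPowerSeries.coeff d f ∉ maximalIdeal A) :
    ∃ e : MvPowerSeries (Fin (n + 1)) A ≃+* PowerSeries (MvPowerSeries (Fin n) A),
      PowerSeries.map (residue (MvPowerSeries (Fin n) A)) (e f) ≠ 0 := by
  obtain ⟨d₁, hd₁⟩ := hf
  obtain ⟨w, hw, hw0, d₀, hd₀, hmin⟩ :=
    exists_weights {d | MvPowerSeries.coeff d f ∉ maximalIdeal A} ⟨d₁, hd₁⟩
  set k := ∑ i, w i * d₀ i with hk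
  let e : MvPowerSeries (Fin (n + 1)) A ≃+* PowerSeries (MvPowerSeries (Fin n) A) :=
    ((shiftEquiv hw).trans (MvPowerSeries.finSuccEquiv A n)).toRingEquiv
  have hnz : PowerSeries.map (residue (MvPowerSeries (Fin n) A)) (e f) ≠ 0 := by
    intro h0
    have h1 := congrArg (PowerSeries.coeff k) h0
    rw [PowerSeries.coeff_map, map_zero, residue_eq_zero_iff, mem_maximalIdeal, mem_nonunits_iff,
      MvPowerSeries.isUnit_iff_constantCoeff, ← MvPowerSeries.coeff_zero_eq_constantCoeff_apply] at h1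
    change ¬ IsUnit (MvPowerSeries.coeff 0 (PowerSeries.coeff k
      (MvPowerSeries.finSuccEquiv A n (shiftEquiv hw f)))) at h1
    rw [MvPowerSeries.coeff_coeff_finSuccEquiv,
      show (Finsupp.cons k (0 : Fin n →₀ ℕ)) = Finsupp.single 0 k from
        Finsupp.cons_eq_single_zero_iff.2 ⟨rfl, rfl⟩, coeff_axis_shift hw hw0] at h1
    have hfin : (fun d : Fin (n + 1) →₀ ℕ =>
        if ∑ i, w i * d i = k then MvPowerSeries.coeff d f else 0).HasFiniteSupport := by
      refine Set.Finite.subset (Set.finite_Iic (Finsupp.equivFunOnFinite.symm fun _ => k)) fun d hd => ?_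
      simp only [Function.mem_support, ne_eq, ite_eq_right_iff, Classical.not_imp] at hd
      intro i
      calc d i ≤ w i * d i := Nat.le_mul_of_pos_left _ (Nat.pos_of_ne_zero (hw i))
        _ ≤ ∑ i, w i * d i := Finset.single_le_sum (f := fun i => w i * d i) (fun _ _ => Nat.zero_le _) (Finset.mem_univ i)
        _ = k := hd.1
    have h2 : residue A (∑ᶠ d : Fin (n + 1) →₀ ℕ,
        if ∑ i, w i * d i = k then MvPowerSeries.coeff d f else 0) =
        residue A (MvPowerSeries.coeff d₀ f) := by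
      rw [show (residue A : A → _) = (residue A).toAddMonoidHom from rfl,
        AddMonoidHom.map_finsum _ hfin, finsum_eq_single _ d₀ fun d hd => ?_]
      · rw [if_pos rfl]
      · by_cases hdk : ∑ i, w i * d i = k
        · rw [if_pos hdk]
          refine residue_eq_zero_iff _ |>.2 (by_contra fun hu => ?_)
          exact (hmin d hu hd).ne hdk.symm
        · rw [if_neg hdk, map_zero]
    apply hd₀
    rw [← residue_eq_zero_iff, ← h2, residue_eq_zero_iff]
    exact h1
  exact ⟨e, hnz⟩

theorem isPrincipal_heightOne (A : Type u) [CommRing A] [IsDomain A] [IsNoetherianRing A]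
    [IsLocalRing A] [IsIntegrallyClosed A] [IsAdicComplete (maximalIdeal A) A] (n : ℕ)
    (q : Ideal (MvPowerSeries (Fin n) A)) [q.IsPrime] (hq : q.height = 1)
    (hqm : ¬ q ≤ (maximalIdeal A).map (MvPowerSeries.C : A →+* MvPowerSeries (Fin n) A)) :
    Submodule.IsPrincipal q := by
  classical
  obtain ⟨f, hfq, hfm⟩ := SetLike.not_le_iff_exists.1 hqm
  obtain ⟨d₁, hd₁⟩ : ∃ d, MvPowerSeries.coeff d f ∉ maximalIdeal A := by
    by_contra! h
    exact hfm (mem_map_C_of_coeff (IsNoetherian.noetherian _) h)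
  cases n with
  | zero =>
    exfalso
    have hu : IsUnit f := by
      rw [MvPowerSeries.isUnit_iff_constantCoeff, ← MvPowerSeries.coeff_zero_eq_constantCoeff_apply,
        show (0 : Fin 0 →₀ ℕ) = d₁ from Subsingleton.elim _ _]
      exact not_not.1 hd₁
    exact Ideal.IsPrime.ne_top' (q.eq_top_of_isUnit_mem hfq hu)
  | succ n =>
    obtain ⟨e, hnz⟩ := exists_equiv_regular f ⟨d₁, hd₁⟩
    obtain ⟨hdom, hn⟩ := isIntegrallyClosed_mvPowerSeries A n
    have hc : IsAdicComplete (maximalIdeal (MvPowerSeries (Fin n) A)) (MvPowerSeries (Fin n) A) :=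
      Groth.ArtfunDeform.isAdicComplete_ps
    have hq' : (q.map e).height = 1 := by rw [RingEquiv.height_map, hq]
    have : (q.map e).IsPrime := Ideal.map_isPrime_of_equiv e
    obtain ⟨p, hp⟩ := principal_core (q.map e) hq' (Ideal.mem_map_of_mem e hfq) hnz
    refine ⟨e.symm p, ?_⟩
    change q = Ideal.span {e.symm p}
    calc q = (q.map e).map e.symm := (Ideal.map_of_equiv e).symm
      _ = _ := by rw [hp, Ideal.map_span, Set.image_singleton]

end Groth.ParaFormal.RamanujamSamuel
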