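/-
Complete formally smooth local algebras with separable residue extension are power series rings over
Cohen algebras (EGA 0_IV 19.7.2).
-/
import Groth.Agent.Ega41Flat.Cohen
import Groth.Agent.Ega41Flat.Smooth
import Groth.Agent.ParaFormal.RamanujamSamuel
import Groth.Agent.ArtfunDeform.PowerSeries

set_option autoImplicit false
universe u

open IsLocalRing

namespace Groth.ParaFormal

theorem mem_map_C_iff {A : Type u} [CommRing A] {m : Ideal A} (hm : m.FG) {n : ℕ}
    (f : MvPowerSeries (Fin n) A) :
    f ∈ m.map (MvPowerSeries.C : A →+* MvPowerSeries (Fin n) A) ↔ ∀ d, MvPowerSeries.coeff d f ∈ m := by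
  refine ⟨fun h d => ?_, fun h => RamanujamSamuel.mem_map_C_of_coeff hm h⟩
  have hle : m.map (MvPowerSeries.C : A →+* MvPowerSeries (Fin n) A) ≤
      RingHom.ker (MvPowerSeries.map (Ideal.Quotient.mk m)) := Ideal.map_le_iff_le_comap.2 fun c hc => by
    rw [Ideal.mem_comap, RingHom.mem_ker, MvPowerSeries.map_C, Ideal.Quotient.eq_zero_iff_mem.2 hc, map_zero]
  have h0 := congrArg (MvPowerSeries.coeff d) (RingHom.mem_ker.1 (hle h))
  rwa [MvPowerSeries.coeff_map, map_zero, Ideal.Quotient.eq_zero_iff_mem] at h0

set_option maxHeartbeats 1000000 in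
/-- The structure of complete formally smooth algebras. -/
theorem exists_cohen_presentation {A B : Type u} [CommRing A] [CommRing B] [IsNoetherianRing A]
    [IsLocalRing A] [IsNoetherianRing B] [IsLocalRing B] [Algebra A B] [IsLocalHom (algebraMap A B)]
    [IsAdicComplete (maximalIdeal B) B]
    (hfs : EGA41.IsFormallySmoothAdic A (maximalIdeal A) B (maximalIdeal B))
    [Algebra.IsGeometricallyReduced (ResidueField A) (ResidueField B)] :
    ∃ (A' : Type u) (_ : CommRing A') (_ : IsLocalRing A') (_ : IsNoetherianRing A')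
      (_ : IsAdicComplete (maximalIdeal A') A') (n : ℕ) (e : MvPowerSeries (Fin n) A' ≃+* B)
      (_ : Algebra A A') (_ : Module.Flat A A'),
      ((maximalIdeal A').map (MvPowerSeries.C : A' →+* MvPowerSeries (Fin n) A')).map e.toRingHom =
        (maximalIdeal A).map (algebraMap A B) ∧
      ∀ a : A, e (MvPowerSeries.C (algebraMap A A' a)) = algebraMap A B a := by
  classical
  have := Groth.Ega41Flat.flat_of_formallySmooth hfs
  obtain ⟨A', _, _, _, _, hN, hc, hflat, hmA', ⟨eK⟩⟩ := Groth.Ega41Flat.exists_cohen (A := A) (ResidueField B)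
  have hco : EGA41.IsCohenAlgebra A A' :=
    ⟨inferInstance, hN, hc, hflat, hmA', Algebra.IsGeometricallyReduced.of_injective eK.toAlgHom eK.injective⟩
  have hfs' := Groth.Agent.S2454.result hco
  let u : A' →ₐ[A] B ⧸ maximalIdeal B :=
    { (eK.toRingEquiv.toRingHom.comp (residue A') : A' →+* ResidueField B) with
      commutes' := fun a => (eK.commutes (residue A a) : _) }
  obtain ⟨ι, hι, hιu⟩ := Groth.Ega41Flat.exists_lift_local hfs' (maximalIdeal B) le_rfl u (by
    refine Ideal.map_le_iff_le_comap.2 fun x hx => ?_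
    rw [Ideal.mem_comap]
    show eK (residue A' x) ∈ _
    rw [(residue_eq_zero_iff x).2 hx, map_zero]
    exact zero_mem _)
  have hιmap : (maximalIdeal A').map ι.toRingHom = (maximalIdeal A).map (algebraMap A B) := by
    rw [← hmA', Ideal.map_map]
    exact congrArg (fun h => Ideal.map h _) (RingHom.ext ι.commutes)
  -- parameters of the fibre
  set J := (maximalIdeal A).map (algebraMap A B) with hJ
  let F := B ⧸ J
  let mk : B →+* F := Ideal.Quotient.mk J
  have : Nontrivial F := Ideal.Quotient.nontrivial_iff.mpr fun h =>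
    (maximalIdeal.isMaximal B).ne_top (top_le_iff.mp (h ▸ Groth.Ega41Flat.map_maximalIdeal_le (A := A) (B := B)))
  have : IsLocalRing F := IsLocalRing.of_surjective' mk Ideal.Quotient.mk_surjective
  have : IsRegularLocalRing F := Groth.Ega41Flat.isRegularLocalRing_fibre hfs
  have hmF : (maximalIdeal B).map mk = maximalIdeal F :=
    IsLocalRing.map_maximalIdeal_of_surjective mk Ideal.Quotient.mk_surjective
  obtain ⟨s, hscard, hs⟩ := (IsNoetherian.noetherian (maximalIdeal F)).exists_span_finset_card_eq_spanFinrank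
  have hdimF : ringKrullDim F = (s.card : ℕ) := by
    rw [hscard, ← IsRegularLocalRing.spanFinrank_maximalIdeal (R := F)]
  let tF : Fin s.card → F := fun i => (s.equivFin.symm i : F)
  have htF : Ideal.span (Set.range tF) = maximalIdeal F := by
    rw [← hs]
    refine congrArg Ideal.span (Set.ext fun x => ⟨?_, fun hx => ⟨s.equivFin ⟨x, hx⟩, by simp [tF]⟩⟩)
    rintro ⟨i, rfl⟩
    exact (s.equivFin.symm i).2
  choose t ht using fun i => Ideal.Quotient.mk_surjective (I := J) (tF i)
  have htm : ∀ i, t i ∈ maximalIdeal B := fun i => by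
    by_contra hu
    have h1 : IsUnit (mk (t i)) := (not_not.1 hu).map mk
    rw [show mk (t i) = tF i from ht i] at h1
    exact (maximalIdeal.isMaximal F).ne_top (Ideal.eq_top_of_isUnit_mem _ (htF ▸ Ideal.subset_span ⟨i, rfl⟩) h1)
  let φ := Groth.Calg2.CompleteStructure.ev ι.toRingHom t htm
  have hφC : ∀ a, φ (MvPowerSeries.C a) = ι a := Groth.Calg2.CompleteStructure.ev_C ι.toRingHom t htm
  have hφv : (Groth.SGA7.PS.varIdeal (Fin s.card) A').map (mk.comp φ) = maximalIdeal F := by
    rw [← Ideal.map_map, Groth.Calg2.CompleteStructure.map_varIdeal_ev, Ideal.map_span, ← Set.range_comp, ← htF]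
    exact congrArg Ideal.span (congrArg Set.range (funext ht))
  have hψs : Function.Surjective (mk.comp φ) := by
    have : IsHausdorff ((Groth.SGA7.PS.varIdeal (Fin s.card) A').map (mk.comp φ)) F := by
      rw [hφv]; infer_instance
    refine Groth.Calg6.surjective_of_map_varIdeal _ fun x => ?_
    obtain ⟨x, rfl⟩ := Ideal.Quotient.mk_surjective x
    obtain ⟨c, hc'⟩ := residue_surjective (eK.symm (residue B x))
    refine ⟨c, ?_⟩
    rw [hφv, RingHom.comp_apply, hφC, ← hmF, ← map_sub]
    refine Ideal.mem_map_of_mem mk (Ideal.Quotient.eq.1 ?_)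
    have h2 : Ideal.Quotient.mk (maximalIdeal B) (ι c) = eK (residue A' c) := AlgHom.congr_fun hιu c
    rw [h2, hc', eK.apply_symm_apply]
    rfl
  have hres : Function.Surjective (MvPowerSeries.map (residue A') :
      MvPowerSeries (Fin s.card) A' →+* MvPowerSeries (Fin s.card) (ResidueField A')) := fun f => by
    choose g hg using fun d => residue_surjective (MvPowerSeries.coeff d f)
    exact ⟨g, MvPowerSeries.ext fun d => by rw [MvPowerSeries.coeff_map]; exact hg d⟩
  have hker : RingHom.ker (MvPowerSeries.map (residue A')) =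
      (maximalIdeal A').map (MvPowerSeries.C : A' →+* MvPowerSeries (Fin s.card) A') := by
    ext f
    rw [mem_map_C_iff (IsNoetherian.noetherian _), RingHom.mem_ker, MvPowerSeries.ext_iff]
    simp [residue_eq_zero_iff]
  have hJmap : ((maximalIdeal A').map (MvPowerSeries.C : A' →+* MvPowerSeries (Fin s.card) A')).map φ = J := by
    rw [Ideal.map_map, ← hιmap]
    exact congrArg (fun h => Ideal.map h _) (RingHom.ext hφC)
  have hle : RingHom.ker (MvPowerSeries.map (residue A')) ≤ RingHom.ker (mk.comp φ) := fun f hf => by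
    rw [hker] at hf
    rw [RingHom.mem_ker, RingHom.comp_apply]
    exact Ideal.Quotient.eq_zero_iff_mem.2 (hJmap.le (Ideal.mem_map_of_mem φ hf))
  let ψ : MvPowerSeries (Fin s.card) (ResidueField A') →+* F := RingHom.liftOfSurjective _ hres ⟨mk.comp φ, hle⟩
  have hψ : ∀ f, ψ (MvPowerSeries.map (residue A') f) = mk (φ f) := fun f =>
    RingHom.liftOfRightInverse_comp_apply _ _ _ ⟨mk.comp φ, hle⟩ f
  have hψinj : Function.Injective ψ := by
    have : IsRegularLocalRing (MvPowerSeries (Fin s.card) (ResidueField A')) :=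
      Groth.Calg6.isRegularLocalRing_mvPowerSeries _ _
    have := Groth.Ega4Algebra1.isDomain_of_isRegularLocalRing (MvPowerSeries (Fin s.card) (ResidueField A'))
    have hsurj : Function.Surjective ψ := fun y => by
      obtain ⟨f, rfl⟩ := hψs y
      exact ⟨_, hψ f⟩
    refine Groth.Ega41Flat.injective_of_ringKrullDim_eq ψ hsurj ?_
    rw [Groth.Ega41Flat.ringKrullDim_mvPowerSeries_eq, ringKrullDim_eq_zero_of_field, zero_add, hdimF]
  -- the isomorphism
  have : IsAdicComplete (maximalIdeal (MvPowerSeries (Fin s.card) A')) (MvPowerSeries (Fin s.card) A') :=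
    Groth.ArtfunDeform.isAdicComplete_ps
  have hAPS : ∀ a : A, algebraMap A (MvPowerSeries (Fin s.card) A') a = MvPowerSeries.C (algebraMap A A' a) :=
    fun a => by rw [MvPowerSeries.algebraMap_apply]
  have : IsLocalHom (algebraMap A (MvPowerSeries (Fin s.card) A')) := ⟨fun a ha => by
    rw [hAPS, MvPowerSeries.isUnit_iff_constantCoeff, MvPowerSeries.constantCoeff_C] at ha
    exact isUnit_of_map_unit _ a ha⟩
  have : IsNoetherianRing (MvPowerSeries (Fin s.card) A') := inferInstance
  have hcomm : ∀ a : A, φ (algebraMap A (MvPowerSeries (Fin s.card) A') a) = algebraMap A B a := fun a => by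
    rw [hAPS, hφC]; exact ι.commutes a
  let φa : MvPowerSeries (Fin s.card) A' →ₐ[A] B := { φ with commutes' := hcomm }
  have hloc : (maximalIdeal (MvPowerSeries (Fin s.card) A')).map φa.toRingHom ≤ maximalIdeal B := by
    refine Ideal.map_le_iff_le_comap.2 fun f hf => ?_
    rw [Ideal.mem_comap, mem_maximalIdeal]
    intro hu
    have h1 : IsUnit (mk (φ f)) := hu.map mk
    rw [← hψ] at h1
    have h2 : MvPowerSeries.map (residue A') f ∈ maximalIdeal _ := by
      rw [mem_maximalIdeal, mem_nonunits_iff, MvPowerSeries.isUnit_iff_constantCoeff, MvPowerSeries.constantCoeff_map]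
      rw [mem_maximalIdeal, mem_nonunits_iff, MvPowerSeries.isUnit_iff_constantCoeff] at hf
      rw [isUnit_iff_ne_zero, not_not, residue_eq_zero_iff, mem_maximalIdeal]
      exact hf
    have hbij : Function.Bijective ψ := ⟨hψinj, fun y => (hψs y).elim fun g hg => ⟨_, (hψ g).trans hg⟩⟩
    refine h2 ?_
    have := h1.map (RingEquiv.ofBijective ψ hbij).symm
    rwa [show (RingEquiv.ofBijective ψ hbij).symm (ψ (MvPowerSeries.map (residue A') f)) = _ from
      (RingEquiv.ofBijective ψ hbij).symm_apply_apply _] at this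
  have hJ' : (maximalIdeal A).map (algebraMap A (MvPowerSeries (Fin s.card) A')) =
      (maximalIdeal A').map (MvPowerSeries.C : A' →+* MvPowerSeries (Fin s.card) A') := by
    rw [← hmA', Ideal.map_map]
    exact congrArg (fun h => Ideal.map h _) (RingHom.ext hAPS)
  have hbij : Function.Bijective φa := by
    refine Groth.Ega41Flat.bijective_of_flat (maximalIdeal A) le_rfl φa hloc (fun y => ?_) fun x hx => ?_
    · obtain ⟨f, hf⟩ := hψs (mk y)
      exact ⟨f, Ideal.Quotient.eq.1 hf⟩
    · rw [hJ', ← hker, RingHom.mem_ker]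
      refine hψinj ?_
      rw [map_zero, hψ]
      exact Ideal.Quotient.eq_zero_iff_mem.2 hx
  exact ⟨A', inferInstance, inferInstance, hN, hc, s.card, RingEquiv.ofBijective φ hbij, inferInstance, hflat, hJmap,
    fun a => (hAPS a).symm ▸ hcomm a⟩

end Groth.ParaFormal
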