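/-
Commutative algebra for descending ideals along faithfully flat local homomorphisms.
-/
import Groth.Agent.PicAux.Hartogs
import Mathlib.RingTheory.Regular.Flat
import Mathlib.RingTheory.Flat.FaithfullyFlat.Algebra
import Mathlib.RingTheory.Ideal.AssociatedPrime.Finiteness

set_option autoImplicit false
universe u

open IsLocalRing

namespace Groth.ParaFormal.DescentDivAlg

theorem dvd_pow_of_mul {B : Type*} [CommRing B] {s t : B} (hs : ∀ x : B, s * x = 0 → x = 0)
    (h : ∀ x : B, s ∣ t * x → s ∣ x) :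
    ∀ (n : ℕ) (x : B), s ^ n ∣ t * x → s ^ n ∣ x
  | 0, x, _ => by simp
  | n + 1, x, ⟨w, hw⟩ => by
    obtain ⟨x', rfl⟩ := h x ⟨s ^ n * w, by rw [hw]; ring⟩
    have h0 : t * x' - s ^ n * w = 0 := hs _ (by linear_combination hw)
    obtain ⟨z, rfl⟩ := dvd_pow_of_mul hs h n x' ⟨w, sub_eq_zero.1 h0⟩
    exact ⟨z, by ring⟩

/-- An element killed into a principal ideal by powers of a regular pair lies in it. -/
theorem mem_span_of_regular_pair {B : Type*} [CommRing B] {h s t b : B}
    (hh : ∀ x : B, h * x = 0 → x = 0) (hs : ∀ x : B, s * x = 0 → x = 0)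
    (ht : ∀ x : B, s ∣ t * x → s ∣ x) {n m : ℕ}
    (h1 : s ^ n * b ∈ Ideal.span {h}) (h2 : t ^ m * b ∈ Ideal.span {h}) : b ∈ Ideal.span {h} := by
  rw [Ideal.mem_span_singleton] at *
  obtain ⟨c, hu⟩ := h1
  obtain ⟨v, hv⟩ := h2
  have key : t ^ m * c - s ^ n * v = 0 := hh _ (by linear_combination s ^ n * hv - t ^ m * hu)
  have hd : ∀ (k : ℕ) (x : B), s ^ n ∣ t ^ k * x → s ^ n ∣ x := by
    intro k
    induction k with
    | zero => simp
    | succ k ih =>
      intro x hx
      exact ih x (dvd_pow_of_mul hs ht n _ (by rwa [← mul_assoc, ← pow_succ']))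
  obtain ⟨w, rfl⟩ := hd m c ⟨v, sub_eq_zero.1 key⟩
  have hsn : ∀ (k : ℕ) (x : B), s ^ k * x = 0 → x = 0 := by
    intro k
    induction k with
    | zero => simp
    | succ k ih => intro x hx; exact ih x (hs _ (by rw [← mul_assoc, ← pow_succ', hx]))
  exact ⟨w, sub_eq_zero.1 (hsn n (b - h * w) (by linear_combination hu))⟩

variable {A B : Type u} [CommRing A] [CommRing B]

theorem regular_pair_map (φ : A →+* B) (hφ : φ.Flat) {s t : A}
    (h : RingTheory.Sequence.IsWeaklyRegular A [s, t]) :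
    (∀ x : B, φ s * x = 0 → x = 0) ∧ ∀ x : B, φ s ∣ φ t * x → φ s ∣ x := by
  algebraize [φ]
  have h2 := h.of_flat (S := B)
  simp only [List.map_cons, List.map_nil, RingTheory.Sequence.isWeaklyRegular_cons_iff] at h2
  obtain ⟨hs, ht, -⟩ := h2
  refine ⟨fun x hx => hs (by simpa [RingHom.algebraMap_toAlgebra] using hx), fun x hx => ?_⟩
  obtain ⟨y, hy⟩ := hx
  have h0 : φ t • (Submodule.Quotient.mk x : QuotSMulTop (φ s) B) = φ t • 0 := by
    rw [smul_zero, ← Submodule.Quotient.mk_smul, Submodule.Quotient.mk_eq_zero, smul_eq_mul, hy,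
      Submodule.mem_smul_pointwise_iff_exists]
    exact ⟨y, trivial, rfl⟩
  have h1 := ht h0
  rw [Submodule.Quotient.mk_eq_zero, Submodule.mem_smul_pointwise_iff_exists] at h1
  obtain ⟨z, -, hz⟩ := h1
  exact ⟨z, hz.symm⟩

theorem colon_map_of_flat (φ : A →+* B) (hφ : φ.Flat) (I : Ideal A) {s : A}
    (hs : ∀ a, s * a ∈ I → a ∈ I) {b : B} (hb : φ s * b ∈ I.map φ) : b ∈ I.map φ := by
  algebraize [φ]
  have reg : IsSMulRegular (A ⧸ I) s := by
    rw [isSMulRegular_iff_right_eq_zero_of_smul]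
    intro q hq
    obtain ⟨a, rfl⟩ := Ideal.Quotient.mk_surjective q
    rw [Algebra.smul_def, Ideal.Quotient.algebraMap_eq, ← map_mul, Ideal.Quotient.eq_zero_iff_mem] at hq
    exact Ideal.Quotient.eq_zero_iff_mem.2 (hs a hq)
  have h2 := reg.of_flat_of_isBaseChange (TensorProduct.isBaseChange A (A ⧸ I) B)
  let e := (Algebra.TensorProduct.quotIdealMapEquivTensorQuot B I).toLinearEquiv
  have h3 : φ s • e (Ideal.Quotient.mk (I.map φ) b) = φ s • 0 := by
    rw [smul_zero, ← map_smul]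
    convert map_zero e
    rw [Algebra.smul_def, Ideal.Quotient.algebraMap_eq]
    exact ((map_mul (Ideal.Quotient.mk (I.map φ)) _ _).symm.trans (Ideal.Quotient.eq_zero_iff_mem.2 hb))
  have h4 : e (Ideal.Quotient.mk (I.map φ) b) = 0 := h2 h3
  exact Ideal.Quotient.eq_zero_iff_mem.1 (e.map_eq_zero_iff.1 h4)

theorem comap_map_of_flat_local [IsLocalRing A] [IsLocalRing B] (φ : A →+* B) [IsLocalHom φ]
    (hφ : φ.Flat) (I : Ideal A) : (I.map φ).comap φ = I := by
  algebraize [φ]
  have : IsLocalHom (algebraMap A B) := ‹IsLocalHom φ›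
  have : Module.FaithfullyFlat A B := Module.FaithfullyFlat.of_flat_of_isLocalHom
  exact Ideal.comap_map_eq_self_of_faithfullyFlat I

theorem exists_regular_mod [IsLocalRing A] [IsNoetherianRing A] (I : Ideal A)
    (hsat : ∀ a : A, (∀ c ∈ maximalIdeal A, c * a ∈ I) → a ∈ I) :
    ∃ s ∈ maximalIdeal A, ∀ a, s * a ∈ I → a ∈ I := by
  by_contra! hne
  have hsub : (maximalIdeal A : Set A) ⊆
      ⋃ p ∈ associatedPrimes A (A ⧸ I), (p : Set A) := by
    intro s hs
    rw [biUnion_associatedPrimes_eq_compl_regular]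
    intro hreg
    obtain ⟨a, ha, ha'⟩ := hne s hs
    refine ha' (Ideal.Quotient.eq_zero_iff_mem.1 ?_)
    have : s • Ideal.Quotient.mk I a = s • 0 := by
      rw [smul_zero, Algebra.smul_def, Ideal.Quotient.algebraMap_eq, ← map_mul]
      exact Ideal.Quotient.eq_zero_iff_mem.2 ha
    exact hreg this
  rw [← (associatedPrimes.finite A (A ⧸ I)).coe_toFinset] at hsub
  obtain ⟨p, hp, hmp⟩ := (Ideal.subset_union_prime (f := fun p : Ideal A => p) ⊤ ⊤
    (fun p hp _ _ => ((associatedPrimes.finite A (A ⧸ I)).mem_toFinset.1 hp).isPrime)).1 hsub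
  rw [Set.Finite.mem_toFinset] at hp
  have hpm : p = maximalIdeal A :=
    le_antisymm (le_maximalIdeal hp.isPrime.ne_top) hmp
  obtain ⟨q, hq⟩ := (isAssociatedPrime_iff.1 hp).2
  obtain ⟨a, rfl⟩ := Ideal.Quotient.mk_surjective q
  have ha : a ∈ I := hsat a fun c hc => by
    rw [← hpm, hq] at hc
    have h := hc
    simp only [Submodule.mem_colon_singleton, Submodule.mem_bot, Algebra.smul_def,
      Ideal.Quotient.algebraMap_eq, ← map_mul, Ideal.Quotient.eq_zero_iff_mem] at h
    exact h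
  apply hp.isPrime.ne_top
  rw [hq, Ideal.eq_top_iff_one, Submodule.mem_colon_singleton, one_smul, Submodule.mem_bot]
  exact Ideal.Quotient.eq_zero_iff_mem.2 ha

end Groth.ParaFormal.DescentDivAlg
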