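/-
A finite module with an endomorphism which is projective away from a regular pair is free,
provided the characteristic polynomial is a unit at zero.
-/
import Groth.Agent.ParaFormal.DescentDivAlg
import Mathlib.LinearAlgebra.Matrix.Charpoly.Basic
import Mathlib.LinearAlgebra.Matrix.Charpoly.Coeff
import Mathlib.LinearAlgebra.Matrix.ToLin
import Mathlib.RingTheory.Flat.EquationalCriterion
import Mathlib.RingTheory.Noetherian.Basic

set_option autoImplicit false
universe u

namespace Groth.ParaFormal.CharGlue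

open Polynomial

variable {W : Type u} [CommRing W] {M : Type u} [AddCommGroup M] [Module W M]

/-- If relations in `M` become trivial after multiplication by powers of `x`, then a surjection from
a free module has a section up to a power of `x`. -/
theorem exists_split [IsNoetherianRing W] (x : W) {N : ℕ} (p : (Fin N → W) →ₗ[W] M)
    (hp : Function.Surjective p)
    (hrel : ∀ {l : ℕ} (f : Fin l → W) (z : Fin l → M), ∑ i, f i • z i = 0 →
      ∃ (k l' : ℕ) (a : Fin l → Fin l' → W) (y : Fin l' → M),
        (∀ i, x ^ k • z i = ∑ j, a i j • y j) ∧ ∀ j, ∑ i, f i * a i j = 0) :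
    ∃ (k : ℕ) (σ : M →ₗ[W] (Fin N → W)), ∀ m, p (σ m) = x ^ k • m := by
  classical
  obtain ⟨s, hs⟩ := IsNoetherian.noetherian (LinearMap.ker p)
  set e : Fin N → M := fun l => p (Pi.single l 1) with he
  have key : ∀ P : Finset (Fin N → W), (P : Set (Fin N → W)) ⊆ LinearMap.ker p →
      ∃ (k l' : ℕ) (a : Fin N → Fin l' → W) (y : Fin l' → M),
        (∀ i, x ^ k • e i = ∑ j, a i j • y j) ∧ ∀ r ∈ P, ∀ j, ∑ i, r i * a i j = 0 := by
    intro P
    induction P using Finset.induction with
    | empty =>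
      exact fun _ => ⟨0, N, fun i j => if i = j then 1 else 0, e, fun i => by simp, by simp⟩
    | insert q P hq ih =>
      intro hP
      rw [Finset.coe_insert, Set.insert_subset_iff] at hP
      obtain ⟨k, l', a, y, hy, ha⟩ := ih hP.2
      have h0 : ∑ j, (∑ i, q i * a i j) • y j = 0 := by
        have h1 : ∑ i, q i • (x ^ k • e i) = 0 := by
          simp only [he, ← map_smul, smul_comm (q _) (x ^ k), ← map_sum]
          have : ∑ i, x ^ k • q i • (Pi.single i 1 : Fin N → W) = x ^ k • q := by
            rw [← Finset.smul_sum]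
            congr 1
            ext j
            simp [Finset.sum_apply, Pi.single_apply]
          rw [this, map_smul, show p q = 0 from hP.1, smul_zero]
        rw [← h1]
        simp only [hy, Finset.smul_sum, smul_smul, Finset.sum_smul]
        exact Finset.sum_comm
      obtain ⟨k', l'', b, y', hy', hb⟩ := hrel _ y h0
      refine ⟨k' + k, l'', fun i j' => ∑ j, a i j * b j j', y', fun i => ?_, fun r hr j' => ?_⟩
      · rw [pow_add, mul_smul, hy i, Finset.smul_sum]
        simp only [smul_comm (x ^ k') (a i _), hy', Finset.smul_sum, smul_smul, Finset.sum_smul]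
        exact Finset.sum_comm
      · simp only [Finset.mul_sum, ← mul_assoc]
        rw [Finset.sum_comm]
        rcases Finset.mem_insert.1 hr with rfl | hr
        · simp only [← Finset.sum_mul]
          exact hb j'
        · simp only [← Finset.sum_mul, ha r hr, zero_mul, Finset.sum_const_zero]
  obtain ⟨k, l', a, y, hy, ha⟩ := key s (fun r hr => hs ▸ Submodule.subset_span hr)
  choose w hw using fun j => hp (y j)
  let φ : (Fin N → W) →ₗ[W] (Fin N → W) :=
    Fintype.linearCombination W fun i => ∑ j, a i j • w j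
  have hker : LinearMap.ker p ≤ LinearMap.ker φ := by
    rw [← hs, Submodule.span_le]
    intro r hr
    rw [SetLike.mem_coe, LinearMap.mem_ker]
    simp only [φ, Fintype.linearCombination_apply, Finset.smul_sum, smul_smul]
    rw [Finset.sum_comm]
    simp only [← Finset.sum_smul, ha r hr, zero_smul, Finset.sum_const_zero]
  let σ : M →ₗ[W] (Fin N → W) := (Submodule.liftQ _ φ hker).comp (p.quotKerEquivOfSurjective hp).symm.toLinearMap
  have hσ : ∀ v, σ (p v) = φ v := fun v => by
    simp only [σ, LinearMap.comp_apply, LinearEquiv.coe_coe]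
    rw [show (p.quotKerEquivOfSurjective hp).symm (p v) = Submodule.Quotient.mk v from
      (p.quotKerEquivOfSurjective hp).symm_apply_eq.2 rfl]
    rfl
  refine ⟨k, σ, fun m => ?_⟩
  obtain ⟨v, rfl⟩ := hp m
  rw [hσ]
  simp only [φ, Fintype.linearCombination_apply, map_sum, map_smul, hw, ← hy, he]
  rw [← map_smul p (x ^ k) v]
  conv_rhs => rw [show v = ∑ i, v i • (Pi.single i 1 : Fin N → W) from pi_eq_sum_univ' v]
  simp only [Finset.smul_sum, map_sum, map_smul, smul_comm (x ^ k)]

theorem nzd_pow {x : W} (hx : ∀ z : W, x * z = 0 → z = 0) : ∀ (k : ℕ) (z : W), x ^ k * z = 0 → z = 0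
  | 0, z, h => by simpa using h
  | k + 1, z, h => nzd_pow hx k z (hx _ (by rw [← mul_assoc, ← pow_succ', h]))

theorem dvd_of_pow_mul {X Y : W} (hX : ∀ z, X * z = 0 → z = 0) (hXY : ∀ z, X ∣ Y * z → X ∣ z) :
    ∀ (k n : ℕ) (z : W), X ^ n ∣ Y ^ k * z → X ^ n ∣ z
  | 0, n, z, h => by simpa using h
  | k + 1, n, z, h => dvd_of_pow_mul hX hXY k n z
      (DescentDivAlg.dvd_pow_of_mul hX hXY n _ (by rwa [← mul_assoc, ← pow_succ']))

theorem dvd_of_pair {x y : W} (hx : ∀ z, x * z = 0 → z = 0) (hxy : ∀ z, x ∣ y * z → x ∣ z)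
    (a b : ℕ) (z : W) (h : x ^ a ∣ y ^ b * z) : x ^ a ∣ z :=
  dvd_of_pow_mul hx hxy b a z h

theorem charpoly_eq_of_conj {N : ℕ} (A A' P Q : Matrix (Fin N) (Fin N) W) {d : W}
    (hd : ∀ z, d * z = 0 → z = 0) (hA : A' * A = d • (1 : Matrix (Fin N) (Fin N) W))
    (h : A * P = Q * A) : P.charpoly = Q.charpoly := by
  have h1 : A.map Polynomial.C * P.charmatrix = Q.charmatrix * A.map Polynomial.C := by
    simp only [Matrix.charmatrix, mul_sub, sub_mul, RingHom.mapMatrix_apply]
    rw [← Matrix.map_mul, ← Matrix.map_mul, h]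
    congr 1
    exact (Matrix.scalar_commute _ (fun r => Commute.all _ _) _).eq.symm
  have h2 := congrArg Matrix.det h1
  rw [Matrix.det_mul, Matrix.det_mul, show (A.map Polynomial.C).det = Polynomial.C A.det from
    (RingHom.map_det Polynomial.C A).symm] at h2
  have h3 : Polynomial.C A.det * (P.charpoly - Q.charpoly) = 0 := by
    rw [mul_sub, sub_eq_zero]
    exact h2.trans (mul_comm _ _)
  rw [← sub_eq_zero]
  ext i
  rw [coeff_zero]
  refine nzd_pow hd N _ ?_
  have hdet : A'.det * A.det = d ^ N := by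
    rw [← Matrix.det_mul, hA, Matrix.det_smul, Matrix.det_one, mul_one, Fintype.card_fin]
  rw [← hdet, mul_assoc, ← Polynomial.coeff_C_mul, h3, coeff_zero, mul_zero]

theorem coeff_charpoly_smul {N : ℕ} (Y : W) (G : Matrix (Fin N) (Fin N) W)
    (hY : ∀ z, Y * z = 0 → z = 0) {i : ℕ} (hi : i ≤ N) :
    (Y • G).charpoly.coeff i = Y ^ (N - i) * G.charpoly.coeff i := by
  have h : (Y • G).charpoly.comp (C Y * Polynomial.X) = C (Y ^ N) * G.charpoly := by
    rw [Matrix.charpoly, ← Polynomial.coe_compRingHom_apply, RingHom.map_det,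
      show C (Y ^ N) * G.charpoly = ((C Y : W[X]) • G.charmatrix).det by
        rw [Matrix.det_smul, Fintype.card_fin, map_pow]; rfl]
    congr 1
    ext a b
    by_cases hab : a = b
    · subst hab
      simp [Matrix.charmatrix_apply_eq, mul_sub]
    · simp [Matrix.charmatrix_apply_ne _ _ _ hab]
  have h' := congrArg (fun q : W[X] => q.coeff i) h
  simp only [comp_C_mul_X_coeff, coeff_C_mul] at h'
  refine sub_eq_zero.1 (nzd_pow hY i _ ?_)
  rw [mul_sub, sub_eq_zero, mul_comm, h', ← mul_assoc, ← pow_add, Nat.add_sub_cancel' hi]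

/-- The key criterion: `p` is injective. -/
theorem injective_of_sections {N : ℕ} (p : (Fin N → W) →ₗ[W] M) (hp : Function.Surjective p)
    (u : M →ₗ[W] M) {x y : W} (hx : ∀ z, x * z = 0 → z = 0) (hy : ∀ z, y * z = 0 → z = 0)
    (hxy : ∀ z, x ∣ y * z → x ∣ z) (hxM : ∀ m : M, x • m = 0 → m = 0) {a b : ℕ}
    (σ σ' : M →ₗ[W] (Fin N → W)) (hσ : ∀ m, p (σ m) = x ^ a • m) (hσ' : ∀ m, p (σ' m) = y ^ b • m)
    (hunit : ∀ χ : W[X], χ.Monic → χ.natDegree = N → Polynomial.aeval u χ = 0 →
      IsUnit (χ.coeff 0)) : Function.Injective p := by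
  classical
  rcases subsingleton_or_nontrivial W with hW | hW
  · exact fun v w _ => Subsingleton.elim v w
  set X := x ^ a with hX
  set Y := y ^ b with hY
  set G : (Fin N → W) →ₗ[W] (Fin N → W) := σ.comp (u.comp p) with hG
  set G' : (Fin N → W) →ₗ[W] (Fin N → W) := σ'.comp (u.comp p) with hG'
  set g : (Fin N → W) →ₗ[W] (Fin N → W) := (X * Y) • LinearMap.id + (X • σ' - Y • σ).comp p with hg
  set g' : (Fin N → W) →ₗ[W] (Fin N → W) := (X * Y) • LinearMap.id - (X • σ' - Y • σ).comp p with hg'
  have hpk : ∀ m, p ((X • σ' - Y • σ) m) = 0 := fun m => by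
    simp only [LinearMap.sub_apply, LinearMap.smul_apply, map_sub, map_smul, hσ, hσ', smul_smul,
      mul_comm X Y, sub_self]
  have hgg : g'.comp g = ((X * Y) * (X * Y)) • LinearMap.id := by
    refine LinearMap.ext fun v => ?_
    simp only [hg, hg', LinearMap.comp_apply, LinearMap.add_apply, LinearMap.sub_apply,
      LinearMap.smul_apply, LinearMap.id_apply, map_add, map_smul, smul_add]
    have h0 : p (X • σ' (p v) - Y • σ (p v)) = 0 := by simpa using hpk (p v)
    simp only [h0, map_zero, smul_zero, sub_zero]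
    module
  have hconj : g.comp (Y • G) = (X • G').comp g := by
    refine LinearMap.ext fun v => ?_
    have h1 : p (g v) = (X * Y) • p v := by
      simp only [hg, LinearMap.add_apply, LinearMap.smul_apply, LinearMap.id_apply, map_add, map_smul,
        LinearMap.comp_apply, hpk, add_zero]
    have h2 : g (σ (u (p v))) = (X * X) • σ' (u (p v)) := by
      simp only [hg, LinearMap.add_apply, LinearMap.smul_apply, LinearMap.id_apply, LinearMap.comp_apply,
        LinearMap.sub_apply, hσ, map_smul]
      module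
    simp only [LinearMap.comp_apply, LinearMap.smul_apply, map_smul, hG, hG', h1, h2, smul_smul]
    congr 1
    ring
  set Gm := LinearMap.toMatrix' G with hGm
  set Gm' := LinearMap.toMatrix' G' with hGm'
  have hnX : ∀ z, X * z = 0 → z = 0 := nzd_pow hx a
  have hnY : ∀ z, Y * z = 0 → z = 0 := nzd_pow hy b
  have hcp : (Y • Gm).charpoly = (X • Gm').charpoly := by
    refine charpoly_eq_of_conj (LinearMap.toMatrix' g) (LinearMap.toMatrix' g') _ _
      (d := (X * Y) * (X * Y)) (fun z hz => hnY _ (hnX _ (hnY _ (hnX _ ?_)))) ?_ ?_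
    · rw [← hz]; ring
    · rw [← LinearMap.toMatrix'_comp, hgg, map_smul, LinearMap.toMatrix'_id]
    · rw [hGm, hGm', ← map_smul, ← map_smul, ← LinearMap.toMatrix'_comp, ← LinearMap.toMatrix'_comp, hconj]
  have hdvd : ∀ i, ∃ c, i ≤ N → Gm.charpoly.coeff i = X ^ (N - i) * c := fun i => by
    by_cases hi : i ≤ N
    · obtain ⟨c, hc⟩ : X ^ (N - i) ∣ Gm.charpoly.coeff i := by
        rw [hX, ← pow_mul]
        refine dvd_of_pow_mul hx hxy (b * (N - i)) _ _ ⟨Gm'.charpoly.coeff i, ?_⟩
        rw [pow_mul, pow_mul, ← hX, ← hY, ← coeff_charpoly_smul Y Gm hnY hi,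
          ← coeff_charpoly_smul X Gm' hnX hi, hcp]
      exact ⟨c, fun _ => hc⟩
    · exact ⟨0, fun h => absurd h hi⟩
  choose c hc using hdvd
  have hdeg : Gm.charpoly.natDegree = N := by rw [Matrix.charpoly_natDegree_eq_dim, Fintype.card_fin]
  have hcN : c N = 1 := by
    have := hc N le_rfl
    rw [Nat.sub_self, pow_zero, one_mul] at this
    rw [← this]
    have hm := (Matrix.charpoly_monic Gm).coeff_natDegree
    rwa [hdeg] at hm
  let χ : W[X] := Polynomial.X ^ N + ∑ i ∈ Finset.range N, C (c i) * Polynomial.X ^ i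
  have hlt : (∑ i ∈ Finset.range N, C (c i) * Polynomial.X ^ i).degree < (N : WithBot ℕ) := by
    refine (degree_sum_le _ _).trans_lt ((Finset.sup_lt_iff (WithBot.bot_lt_coe _)).2 fun i hi => ?_)
    exact (degree_C_mul_X_pow_le _ _).trans_lt (WithBot.coe_lt_coe.2 (Finset.mem_range.1 hi))
  have hχm : χ.Monic := monic_X_pow_add hlt
  have hχd : χ.natDegree = N := natDegree_eq_of_degree_eq_some (by
    rw [degree_add_eq_left_of_degree_lt (by rwa [degree_X_pow]), degree_X_pow])
  have hχc : ∀ i ≤ N, χ.coeff i = c i := by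
    intro i hi
    simp only [χ, coeff_add, coeff_X_pow, finsetSum_coeff, coeff_C_mul, mul_ite, mul_one, mul_zero,
      Finset.sum_ite_eq, Finset.mem_range]
    rcases hi.lt_or_eq with h | h
    · simp [h.ne, h]
    · simp [h, hcN]
  have hpG : ∀ v, p (G v) = X • u (p v) := fun v => hσ _
  have hpow : ∀ (i : ℕ) v, p ((G ^ i) v) = X ^ i • (u ^ i) (p v) := by
    intro i
    induction i with
    | zero => simp
    | succ i ih =>
      intro v
      rw [pow_succ', pow_succ', pow_succ', Module.End.mul_apply, Module.End.mul_apply, hpG, ih,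
        map_smul, smul_smul]
  have hCH : Polynomial.aeval G Gm.charpoly = 0 := by
    have := congrArg (Matrix.toLinAlgEquiv' (R := W)) (Matrix.aeval_self_charpoly Gm)
    rw [map_zero, ← Polynomial.aeval_algHom_apply] at this
    rwa [show Matrix.toLinAlgEquiv' (R := W) Gm = G from Matrix.toLin'_toMatrix' G] at this
  have hχ0 : Polynomial.aeval u χ = 0 := by
    refine LinearMap.ext fun m => ?_
    obtain ⟨v, rfl⟩ := hp m
    refine (fun h => ?_) (show X ^ N • (Polynomial.aeval u χ) (p v) = 0 from ?_)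
    · have : ∀ (k : ℕ) (m : M), x ^ k • m = 0 → m = 0 := by
        intro k
        induction k with
        | zero => simp
        | succ k ih => intro m hm; exact ih m (hxM _ (by rw [smul_smul, ← pow_succ', hm]))
      rw [hX, ← pow_mul] at h
      exact this _ _ h
    have h0 := congrArg (fun f => p (f v)) hCH
    rw [Polynomial.aeval_eq_sum_range, hdeg] at h0
    simp only [LinearMap.sum_apply, LinearMap.smul_apply, map_sum, map_smul, hpow,
      LinearMap.zero_apply, map_zero] at h0
    rw [← h0, Polynomial.aeval_eq_sum_range, hχd]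
    simp only [LinearMap.sum_apply, LinearMap.smul_apply, Finset.smul_sum]
    refine Finset.sum_congr rfl fun i hi => ?_
    have hi' : i ≤ N := Nat.le_of_lt_succ (Finset.mem_range.1 hi)
    rw [hχc i hi', hc i hi', smul_smul, smul_smul]
    congr 1
    rw [mul_comm (X ^ (N - i)) (c i), mul_assoc, ← pow_add, Nat.sub_add_cancel hi', mul_comm]
  have hu0 := hunit χ hχm hχd hχ0
  rw [hχc 0 (Nat.zero_le _)] at hu0
  have hdet : Gm.det = (-1) ^ N * (X ^ N * c 0) := by
    rw [Matrix.det_eq_sign_charpoly_coeff, hc 0 (Nat.zero_le _), Fintype.card_fin, Nat.sub_zero]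
  refine (injective_iff_map_eq_zero p).2 fun v hv => ?_
  have hGv : Gm.mulVec v = 0 := by
    rw [hGm, LinearMap.toMatrix'_mulVec]
    simp only [hG, LinearMap.comp_apply, hv, map_zero]
  have h4 := congrArg (fun w => Gm.adjugate.mulVec w) hGv
  simp only [Matrix.mulVec_mulVec, Matrix.adjugate_mul, Matrix.smul_mulVec, Matrix.one_mulVec,
    Matrix.mulVec_zero] at h4
  funext i
  have h5 : Gm.det * v i = 0 := by simpa using congrFun h4 i
  rw [hdet] at h5
  obtain ⟨w, hw⟩ := hu0
  have h6 : X ^ N * v i = 0 := by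
    have h7 : X ^ N * v i * ↑w = 0 := by
      have := congrArg (fun z => (-1 : W) ^ N * z) h5
      simp only [mul_zero, ← mul_assoc, ← mul_pow, mul_neg, neg_neg, one_mul, one_pow] at this
      rw [hw, ← this]; ring
    exact w.isUnit.mul_left_eq_zero.1 h7
  exact nzd_pow hnX N _ h6

/-- The one-dimensional case. -/
theorem injective_of_principal_maximal [IsLocalRing W] [IsNoetherianRing W] {ϖ : W}
    (hϖ : IsLocalRing.maximalIdeal W = Ideal.span {ϖ}) {N : ℕ} (p : (Fin N → W) →ₗ[W] M)
    (hM : ∀ m : M, ϖ ≠ 0 → ϖ • m = 0 → m = 0)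
    (hmin : ∀ v, p v = 0 → ∀ i, v i ∈ IsLocalRing.maximalIdeal W) :
    Function.Injective p := by
  refine (injective_iff_map_eq_zero p).2 fun v hv => ?_
  have key : ∀ k, ∃ w, v = ϖ ^ k • w ∧ p w = 0 := by
    intro k
    induction k with
    | zero => exact ⟨v, by simp, hv⟩
    | succ k ih =>
      obtain ⟨w, hw, hw0⟩ := ih
      have h := hmin w hw0
      simp only [hϖ, Ideal.mem_span_singleton] at h
      choose z hz using h
      have hz' : w = ϖ • z := funext hz
      by_cases h0 : ϖ = 0
      · exact ⟨0, by rw [hw, hz', h0, zero_smul, smul_zero, smul_zero], map_zero p⟩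
      refine ⟨z, by rw [hw, hz', smul_smul, pow_succ], hM _ h0 ?_⟩
      rw [← map_smul, ← hz', hw0]
  funext i
  have h1 : v i ∈ ⨅ k : ℕ, IsLocalRing.maximalIdeal W ^ k := by
    refine (Submodule.mem_iInf _).2 fun k => ?_
    obtain ⟨w, hw, -⟩ := key k
    rw [hw, Pi.smul_apply, smul_eq_mul, hϖ, Ideal.span_singleton_pow]
    exact Ideal.mul_mem_right _ _ (Ideal.mem_span_singleton_self _)
  rw [Ideal.iInf_pow_eq_bot_of_isLocalRing _ (IsLocalRing.maximalIdeal.isMaximal W).ne_top] at h1
  exact h1

end Groth.ParaFormal.CharGlue
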