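import Groth.Prelude.Def_ParaF
import Groth.Agent.Misc7.DepthTwoExtend
import Groth.Agent.PicAux.UFDSpec
import Groth.Agent.PicAux.Cocycle
import Groth.Agent.RefRank.Algebra
import Mathlib.RingTheory.Ideal.KrullsHeightTheorem
import Mathlib.RingTheory.Ideal.UFD
import Mathlib.AlgebraicGeometry.Properties

/-!
# Normal local rings of dimension at least two and their punctured spectra
-/

universe u

open CategoryTheory AlgebraicGeometry TopologicalSpace IsLocalRing

namespace Groth.ParaFormal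

open RingTheory.Sequence in
/-- A normal Noetherian local domain of dimension at least two has a regular pair in its maximal ideal. -/
theorem exists_pair_of_normal (A : Type u) [CommRing A] [IsDomain A] [IsNoetherianRing A]
    [IsLocalRing A] [IsIntegrallyClosed A] (hdim : (2 : WithBot ℕ∞) ≤ ringKrullDim A) :
    ∃ a b : A, a ∈ maximalIdeal A ∧ b ∈ maximalIdeal A ∧ IsWeaklyRegular A [a, b] := by
  have hne : maximalIdeal A ≠ ⊥ := fun h => by
    rw [ringKrullDim_eq_zero_of_isField (IsLocalRing.isField_iff_maximalIdeal_eq.2 h)] at hdim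
    norm_num at hdim
  obtain ⟨a, ha, ha0⟩ := Submodule.exists_mem_ne_zero_of_ne_bot hne
  suffices h : ∃ b ∈ maximalIdeal A, ∀ y : A, a ∣ b * y → a ∣ y by
    obtain ⟨b, hb, hreg⟩ := h
    refine ⟨a, b, ha, hb, ?_⟩
    rw [isWeaklyRegular_cons_iff, isWeaklyRegular_singleton_iff]
    refine ⟨fun u v h => mul_left_cancel₀ ha0 h, ?_⟩
    rw [isSMulRegular_iff_right_eq_zero_of_smul]
    intro m hm
    obtain ⟨m, rfl⟩ := Submodule.Quotient.mk_surjective _ m
    rw [← Submodule.Quotient.mk_smul, Submodule.Quotient.mk_eq_zero,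
      Submodule.mem_smul_pointwise_iff_exists] at hm
    obtain ⟨c, -, hc⟩ := hm
    obtain ⟨w, hw⟩ := hreg m ⟨c, hc.symm⟩
    exact (Submodule.Quotient.mk_eq_zero _).2
      ((Submodule.mem_smul_pointwise_iff_exists _ _ _).2 ⟨w, trivial, hw.symm⟩)
  by_contra! hno
  let M := A ⧸ Ideal.span {a}
  have hsub : (maximalIdeal A : Set A) ⊆ ⋃ q ∈ associatedPrimes A M, (q : Set A) := by
    rw [biUnion_associatedPrimes_eq_zero_divisors]
    intro b hb
    obtain ⟨y, hby, hy⟩ := hno b hb
    exact ⟨Ideal.Quotient.mk _ y,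
      fun h => hy (Ideal.mem_span_singleton.1 (Ideal.Quotient.eq_zero_iff_mem.1 h)),
      Ideal.Quotient.eq_zero_iff_mem.2 (Ideal.mem_span_singleton.2 hby)⟩
  have hfin := associatedPrimes.finite A M
  obtain ⟨q, hq, hle⟩ := (Ideal.subset_union_prime_finite hfin ⊥ ⊥
    (fun i hi _ _ => (hfin.mem_toFinset.1 (by simpa using hi)).isPrime)).1 (by simpa using hsub)
  obtain ⟨hqp, z, hz⟩ := isAssociatedPrime_iff.mp (hfin.mem_toFinset.1 (by simpa using hq) : IsAssociatedPrime q M)
  obtain ⟨y, rfl⟩ := Ideal.Quotient.mk_surjective z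
  have hqm : q = maximalIdeal A := le_antisymm (le_maximalIdeal hqp.ne_top) hle
  have hcol : ∀ r : A, r ∈ q ↔ a ∣ r * y := fun r => by
    rw [hz, Submodule.mem_colon_singleton, Submodule.mem_bot]
    exact Ideal.Quotient.eq_zero_iff_mem.trans Ideal.mem_span_singleton
  have hy : ¬ a ∣ y := fun hd => hqp.ne_top
    ((Ideal.eq_top_iff_one _).mpr ((hcol 1).mpr (by rwa [one_mul])))
  have hht := Groth.RefRank.height_eq_one_of_colon hne ha0 hy fun r hr => (hcol r).mp (hqm ▸ hr)
  rw [← IsLocalRing.maximalIdeal_height_eq_ringKrullDim, hht] at hdim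
  norm_num at hdim

/-- Functions on the punctured spectrum of a normal local ring of dimension at least two extend. -/
theorem bijective_restrict_punctured (A : Type u) [CommRing A] [IsDomain A] [IsNoetherianRing A]
    [IsLocalRing A] [IsIntegrallyClosed A] (hdim : (2 : WithBot ℕ∞) ≤ ringKrullDim A) :
    Function.Bijective ((Spec (CommRingCat.of A)).presheaf.map
      (homOfLE (le_top : FEt.puncturedSpec A ≤ ⊤)).op) := by
  have : QuasiCompact (FEt.puncturedSpec A).ι := inferInstance
  obtain ⟨a, b, ha, hb, hab⟩ := exists_pair_of_normal A hdim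
  have hZ : ∀ z : ↥(Spec (CommRingCat.of A)), z ∉ FEt.puncturedSpec A →
      ∃ a b : (Spec (CommRingCat.of A)).presheaf.stalk z,
        a ∈ IsLocalRing.maximalIdeal _ ∧ b ∈ IsLocalRing.maximalIdeal _ ∧
        RingTheory.Sequence.IsWeaklyRegular ((Spec (CommRingCat.of A)).presheaf.stalk z) [a, b] := by
    intro z hz
    obtain rfl : z = IsLocalRing.closedPoint A := not_not.1 hz
    let L := (Spec (CommRingCat.of A)).presheaf.stalk (IsLocalRing.closedPoint A)
    let _ : Algebra A L := StructureSheaf.stalkAlgebra A (IsLocalRing.closedPoint A)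
    have : IsLocalization.AtPrime L (IsLocalRing.maximalIdeal A) :=
      StructureSheaf.IsLocalization.to_stalk A (IsLocalRing.closedPoint A)
    let e : A ≃ₐ[A] L := IsLocalization.atUnits A (IsLocalRing.maximalIdeal A).primeCompl
      (fun x hx => not_not.1 fun h => hx (mem_nonunits_iff.2 h))
    have he : ∀ x ∈ IsLocalRing.maximalIdeal A, e x ∈ IsLocalRing.maximalIdeal L := fun x hx hu => hx (by
      simpa using hu.map e.symm)
    exact ⟨e a, e b, he a ha, he b hb, (e.toLinearEquiv.toAddEquiv.isWeaklyRegular_congr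
      (List.Forall₂.cons (fun y => map_mul e a y) (List.Forall₂.cons (fun y => map_mul e b y) List.Forall₂.nil))).1 hab⟩
  exact Groth.Misc7.DepthTwo.bijective_restrict hZ (isAffineOpen_top _) (by rw [top_inf_eq]) _

/-- Near a prime with factorial local ring, a prime of height one is generated by one element. -/
theorem exists_local_generator {A : Type u} [CommRing A] [IsDomain A] [IsNoetherianRing A]
    (p y : Ideal A) [p.IsPrime] [y.IsPrime] (hp : p.height = 1)
    (h : p ≤ y → UniqueFactorizationMonoid (Localization.AtPrime y)) :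
    ∃ f ∈ p, f ≠ 0 ∧ ∃ g ∉ y, ∀ x ∈ p, ∃ c, g * x = c * f := by
  classical
  by_cases hle : p ≤ y
  swap
  · obtain ⟨f, hf, hfy⟩ := SetLike.not_le_iff_exists.1 hle
    exact ⟨f, hf, fun e => hfy (e ▸ y.zero_mem), f, hfy, fun x _ => ⟨x, mul_comm _ _⟩⟩
  have := h hle
  let L := Localization.AtPrime y
  have hd : Disjoint (y.primeCompl : Set A) (p : Set A) :=
    Set.disjoint_left.2 fun x hx hx' => hx (hle hx')
  have : (p.map (algebraMap A L)).IsPrime :=
    IsLocalization.isPrime_of_isPrime_disjoint y.primeCompl L p ‹_› hd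
  have hP : (p.map (algebraMap A L)).height = 1 :=
    (IsLocalization.height_map_of_disjoint y.primeCompl p hd).trans hp
  obtain ⟨z, hz⟩ := UniqueFactorizationMonoid.isPrincipal_of_height_eq_one hP
  obtain ⟨f, s, rfl⟩ := IsLocalization.exists_mk'_eq y.primeCompl z
  have hf : f ∈ p := by
    have : IsLocalization.mk' L f s ∈ p.map (algebraMap A L) := hz ▸ Submodule.mem_span_singleton_self _
    obtain ⟨m, hm, hmf⟩ := (IsLocalization.mk'_mem_map_algebraMap_iff y.primeCompl L _ _ _).1 this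
    exact (‹p.IsPrime›.mem_or_mem hmf).resolve_left fun hmp => hm (hle hmp)
  have hf0 : f ≠ 0 := by
    rintro rfl
    refine Ideal.ne_bot_of_height_eq_one hP ?_
    rw [hz, IsLocalization.mk'_zero]
    exact Ideal.span_singleton_zero
  refine ⟨f, hf, hf0, ?_⟩
  have key : ∀ x ∈ p, ∃ g ∉ y, ∃ c, g * x = c * f := by
    intro x hx
    have h1 : algebraMap A L x ∈ p.map (algebraMap A L) := Ideal.mem_map_of_mem _ hx
    rw [hz, Submodule.mem_span_singleton] at h1
    obtain ⟨w, hw⟩ := h1
    obtain ⟨c, t, rfl⟩ := IsLocalization.exists_mk'_eq y.primeCompl w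
    rw [smul_eq_mul, ← IsLocalization.mk'_mul, IsLocalization.mk'_eq_iff_eq_mul, ← map_mul] at hw
    exact ⟨_, (t * s).2, c, by rw [IsLocalization.injective L y.primeCompl_le_nonZeroDivisors hw, mul_comm]⟩
  obtain ⟨S, hS⟩ := IsNoetherian.noetherian p
  have hmem : ∀ x ∈ S, x ∈ p := fun x hx => hS ▸ Submodule.subset_span hx
  choose g hg c hc using key
  refine ⟨∏ x ∈ S.attach, g x.1 (hmem x.1 x.2), fun hy => ?_, fun x hx => ?_⟩
  · obtain ⟨x, -, hx⟩ := Ideal.IsPrime.prod_mem_iff.1 hy
    exact hg _ _ hx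
  have : p ≤ (Ideal.span {f}).colon {∏ x ∈ S.attach, g x.1 (hmem x.1 x.2)} := by
    rw [← hS, Submodule.span_le]
    intro x hx
    rw [SetLike.mem_coe, Submodule.mem_colon_singleton, smul_eq_mul, Ideal.mem_span_singleton]
    refine dvd_trans ⟨c x (hmem x hx), ?_⟩
      (mul_dvd_mul_left x (Finset.dvd_prod_of_mem _ (Finset.mem_attach S ⟨x, hx⟩)))
    rw [mul_comm, hc, mul_comm]
  have h2 := this hx
  rw [Submodule.mem_colon_singleton, smul_eq_mul, Ideal.mem_span_singleton] at h2
  obtain ⟨d, hd⟩ := h2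
  exact ⟨d, by rw [mul_comm, hd, mul_comm]⟩

section

open Groth.PicAux

variable {A : Type u} [CommRing A] {U : (Spec (CommRingCat.of A)).Opens}

/-- Elements of the ring as functions on an open of an open subscheme of the spectrum. -/
noncomputable def phi (U : (Spec (CommRingCat.of A)).Opens) (V : (U : Scheme.{u}).Opens) :
    A →+* Γ((U : Scheme.{u}), V) :=
  (resX (U : Scheme.{u}) (le_top : V ≤ ⊤)).comp
    ((U.ι.appTop.hom).comp (Scheme.ΓSpecIso (CommRingCat.of A)).inv.hom)

theorem resX_phi {V W : (U : Scheme.{u}).Opens} (h : W ≤ V) (a : A) :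
    resX (U : Scheme.{u}) h (phi U V a) = phi U W a := by
  simp [phi]

theorem mem_basicOpen_phi_iff {V : (U : Scheme.{u}).Opens} {z : (U : Scheme.{u})} (hz : z ∈ V)
    (a : A) : z ∈ (U : Scheme.{u}).basicOpen (phi U V a) ↔ a ∉ z.1.asIdeal := by
  change z ∈ (U : Scheme.{u}).basicOpen ((U : Scheme.{u}).presheaf.map (homOfLE le_top).op
    (U.ι.appTop ((Scheme.ΓSpecIso (CommRingCat.of A)).inv a))) ↔ _
  rw [Scheme.basicOpen_res, ← Scheme.preimage_basicOpen_top]
  change (z ∈ V ∧ z.1 ∈ (Spec (CommRingCat.of A)).basicOpen _) ↔ _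
  refine (and_iff_right hz).trans ?_
  exact ((SetLike.ext_iff.1 (basicOpen_eq_of_affine (R := CommRingCat.of A) a) z.1)).trans
    (PrimeSpectrum.mem_basicOpen a z.1)

theorem isUnit_phi {V : (U : Scheme.{u}).Opens} {a : A} (h : ∀ z ∈ V, a ∉ z.1.asIdeal) :
    IsUnit (phi U V a) := by
  refine ((U : Scheme.{u}).toRingedSpace).isUnit_of_isUnit_germ V _ fun z hz => ?_
  exact ((U : Scheme.{u}).mem_basicOpen _ z hz).1 ((mem_basicOpen_phi_iff hz a).2 (h z hz))

/-- Elements with nonzero restriction to the integral scheme `U` can be cancelled on every open. -/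
theorem phi_mul_cancel [IsIntegral (U : Scheme.{u})] (hinj : Function.Injective (phi U ⊤))
    {V : (U : Scheme.{u}).Opens} {a : A} (ha : a ≠ 0) {x y : Γ((U : Scheme.{u}), V)}
    (h : phi U V a * x = phi U V a * y) : x = y := by
  by_cases hV : Nonempty (V : Set (U : Scheme.{u}))
  · have : Nonempty V := hV
    refine mul_left_cancel₀ (fun h0 => ha (hinj ?_)) h
    apply map_injective_of_isIntegral (U : Scheme.{u}) (homOfLE (le_top : V ≤ ⊤))
    rw [map_zero, map_zero]
    exact (resX_phi le_top a).trans h0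
  · have := subsingleton_sections_of_isEmpty (V := V) fun z hz => hV ⟨⟨z, hz⟩⟩
    exact Subsingleton.elim _ _

end

section

open Groth.PicAux

variable {A : Type u} [CommRing A] [IsDomain A] [IsNoetherianRing A]
  {U : (Spec (CommRingCat.of A)).Opens} [IsIntegral (U : Scheme.{u})]

/-- If every invertible module on a big open is trivial and the local rings there are factorial,
a prime of height one is principal. -/
theorem isPrincipal_of_picTrivial (hbij : Function.Bijective (phi U ⊤))
    (hufd : ∀ z ∈ U, UniqueFactorizationMonoid (Localization.AtPrime z.asIdeal))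
    (hpic : ParaF.PicTrivial (U : Scheme.{u})) (p : Ideal A) [hpp : p.IsPrime] (hp : p.height = 1)
    (hpU : (⟨p, hpp⟩ : PrimeSpectrum A) ∈ U) : p.IsPrincipal := by
  classical
  choose f hf hf0 g hg hgen using fun z : (U : Scheme.{u}) =>
    exists_local_generator p z.1.asIdeal hp fun _ => hufd z.1 z.2
  let W : ((U : Scheme.{u}) : Type u) → (U : Scheme.{u}).Opens := fun a =>
    (U : Scheme.{u}).basicOpen (phi U ⊤ (g a))
  have hmemW : ∀ a z, z ∈ W a ↔ g a ∉ z.1.asIdeal := fun a z => mem_basicOpen_phi_iff (V := ⊤) trivial _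
  have hW : iSup W = ⊤ := eq_top_iff.2 fun z _ => Opens.mem_iSup.2 ⟨z, (hmemW z z).2 (hg z)⟩
  choose c hc using hgen
  have hgu : ∀ a (V : (U : Scheme.{u}).Opens), V ≤ W a → IsUnit (phi U V (g a)) := fun a V hV =>
    isUnit_phi fun z hz => (hmemW a z).1 (hV hz)
  let η : ∀ a b, Γ((U : Scheme.{u}), W a ⊓ W b) := fun a b =>
    phi U (W a ⊓ W b) (c b (f a) (hf a)) * ↑(hgu b (W a ⊓ W b) inf_le_right).unit⁻¹
  have hη : ∀ a b, η a b * phi U _ (f b) = phi U _ (f a) := by
    intro a b
    refine (hgu b (W a ⊓ W b) inf_le_right).mul_left_cancel ?_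
    calc phi U _ (g b) * (η a b * phi U _ (f b))
        = phi U _ (g b) * ↑(hgu b (W a ⊓ W b) inf_le_right).unit⁻¹ *
            (phi U _ (c b (f a) (hf a)) * phi U _ (f b)) := by simp only [η]; ring
      _ = phi U _ (g b) * phi U _ (f a) := by
        rw [IsUnit.mul_val_inv, one_mul, ← map_mul, ← hc b (f a) (hf a), map_mul]
  have hres : ∀ a b (V : (U : Scheme.{u}).Opens) (h : V ≤ W a ⊓ W b),
      resX _ h (η a b) * phi U V (f b) = phi U V (f a) := fun a b V h => by
    rw [← resX_phi h, ← resX_phi h, ← map_mul, hη]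
  have hunit : ∀ a b, IsUnit (η a b) := fun a b => by
    refine IsUnit.of_mul_eq_one (resX _ (inf_comm (W a) (W b)).le (η b a))
      (phi_mul_cancel hbij.1 (hf0 a) ?_)
    rw [mul_one, ← mul_assoc, mul_comm (phi U _ (f a)), mul_assoc, mul_comm (phi U _ (f a)),
      hres b a, hη]
  obtain ⟨L, s, hs, hL, hrel⟩ := exists_module_of_cocycle W η hW hunit fun a b d =>
    phi_mul_cancel hbij.1 (hf0 d) (by
      rw [mul_comm, hres, mul_comm, mul_assoc, hres, hres])
  obtain ⟨t, ht⟩ := nonempty_iso_structure_iff.1 (hpic L hL)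
  choose h hh using fun a => (ht.res (le_top : W a ≤ ⊤)).exists_unit (hs a)
  have hhrel : ∀ a b, resX _ (inf_le_left : W a ⊓ W b ≤ W a) (h a : Γ((U : Scheme.{u}), W a)) =
      η a b * resX _ (inf_le_right : W a ⊓ W b ≤ W b) (h b : Γ((U : Scheme.{u}), W b)) := by
    intro a b
    refine ht.smul_inj le_top ?_
    have := hrel a b
    rw [hh a, hh b] at this
    simpa only [res_smul, res_res, mul_smul] using this
  obtain ⟨t₀, ht₀, -⟩ := resX_glue W (fun _ => le_top) hW.ge
    (fun a => phi U (W a) (f a) * ↑(h a)⁻¹) fun a b => by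
      refine ((h a).isUnit.map (resX _ inf_le_left)).mul_right_cancel ?_
      rw [map_mul, map_mul, resX_phi, resX_phi, mul_assoc, ← map_mul, Units.inv_mul, map_one,
        mul_one, hhrel a b, mul_assoc, ← mul_assoc (resX _ inf_le_right _) (η a b),
        mul_comm (resX _ inf_le_right _) (η a b), mul_assoc (η a b), ← map_mul, Units.inv_mul,
        map_one, mul_one, mul_comm, hη]
  obtain ⟨T, rfl⟩ := hbij.2 t₀
  have hT : ∀ a, phi U (W a) T * (h a : Γ((U : Scheme.{u}), W a)) = phi U (W a) (f a) := by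
    intro a
    rw [← resX_phi (le_top : W a ≤ ⊤), ht₀ a, mul_assoc, Units.inv_mul, mul_one]
  refine ⟨T, le_antisymm (fun x hx => ?_) ((Ideal.span_singleton_le_iff_mem _).2 ?_)⟩
  · have hw : ∀ a, phi U (W a) T * (phi U (W a) (c a x hx) * ↑(hgu a (W a) le_rfl).unit⁻¹ *
        (h a : Γ((U : Scheme.{u}), W a))) = phi U (W a) x := by
      intro a
      calc _ = ↑(hgu a (W a) le_rfl).unit⁻¹ * (phi U (W a) (c a x hx) * phi U (W a) (f a)) := by
            rw [← hT a]; ring
        _ = _ := by rw [← map_mul, ← hc a x hx, map_mul, ← mul_assoc, IsUnit.val_inv_mul, one_mul]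
    have hT0 : T ≠ 0 := by
      rintro rfl
      have := hT ⟨⟨p, hpp⟩, hpU⟩
      rw [map_zero, zero_mul] at this
      refine hf0 ⟨⟨p, hpp⟩, hpU⟩ (hbij.1 ?_)
      have hne : Nonempty (W ⟨⟨p, hpp⟩, hpU⟩) := ⟨⟨_, (hmemW _ _).2 (hg _)⟩⟩
      apply map_injective_of_isIntegral (U : Scheme.{u})
        (homOfLE (le_top : W ⟨⟨p, hpp⟩, hpU⟩ ≤ ⊤))
      rw [map_zero]
      exact (resX_phi le_top _).trans this.symm
    obtain ⟨w₀, hw₀, -⟩ := resX_glue W (fun _ => le_top) hW.ge
      (fun a => phi U (W a) (c a x hx) * ↑(hgu a (W a) le_rfl).unit⁻¹ *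
        (h a : Γ((U : Scheme.{u}), W a))) fun a b =>
      phi_mul_cancel hbij.1 hT0 (by
        nth_rw 1 [← resX_phi (inf_le_left : W a ⊓ W b ≤ W a) T]
        nth_rw 1 [← resX_phi (inf_le_right : W a ⊓ W b ≤ W b) T]
        rw [← map_mul, ← map_mul, hw, hw, resX_phi, resX_phi])
    obtain ⟨w, rfl⟩ := hbij.2 w₀
    refine Ideal.mem_span_singleton'.2 ⟨w, hbij.1 ?_⟩
    refine resX_ext W (fun _ => le_top) hW.ge fun a => ?_
    rw [map_mul, map_mul, hw₀ a, resX_phi, resX_phi, mul_comm, hw]
  · by_contra hTp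
    let a : (U : Scheme.{u}) := ⟨⟨p, hpp⟩, hpU⟩
    have ha : a ∈ W a := (hmemW a a).2 (hg a)
    have h1 : a ∈ (U : Scheme.{u}).basicOpen (phi U (W a) (f a)) := by
      rw [← hT a, Scheme.basicOpen_mul, Scheme.basicOpen_of_isUnit _ (h a).isUnit]
      exact ⟨(mem_basicOpen_phi_iff ha T).2 hTp, ha⟩
    exact (mem_basicOpen_phi_iff ha (f a)).1 h1 (hf a)

end

end Groth.ParaFormal
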