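import Groth.Prelude.Def_ParaF
import Groth.Agent.PicAux.OpenBij
import Groth.Agent.PicAux.PushPull
import Groth.Agent.PicAux.PicLaw

/-!
# Formal properties of parafactorial pairs
-/

set_option autoImplicit false
universe u

open CategoryTheory AlgebraicGeometry Opposite TopologicalSpace

namespace Groth.ParaFormal

open Groth.PicAux

variable {X : Scheme.{u}}

/-- Functions extend uniquely across the complement of `C`. -/
def HartX (C : X.Opens) : Prop :=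
  ∀ V : X.Opens, Function.Bijective (resX X (inf_le_left : V ⊓ C ≤ V))

/-- Invertible modules extend along `j`. -/
def Ext {U V : Scheme.{u}} (j : U ⟶ V) : Prop :=
  ∀ L : U.Modules, PicF.IsInvertible L →
    ∃ M : V.Modules, PicF.IsInvertible M ∧ Nonempty ((Scheme.Modules.pullback j).obj M ≅ L)

theorem invRestrictEquiv_snd_iff {U V : Scheme.{u}} (j : U ⟶ V) [IsOpenImmersion j] :
    (∀ L₀ : U.Modules, PicF.IsInvertible L₀ →
      ∃ L : V.Modules, PicF.IsInvertible L ∧ Nonempty (L.restrict j ≅ L₀)) ↔ Ext j := by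
  refine forall₂_congr fun L _ => exists_congr fun M => and_congr_right fun _ => ⟨?_, ?_⟩
  · exact fun ⟨e⟩ => ⟨((Scheme.Modules.restrictFunctorIsoPullback j).app M).symm ≪≫ e⟩
  · exact fun ⟨e⟩ => ⟨(Scheme.Modules.restrictFunctorIsoPullback j).app M ≪≫ e⟩

theorem isInvertible_structure (Y : Scheme.{u}) : PicF.IsInvertible (Coh.structureModule Y) :=
  (isInvertible_iff_exists_gen _).2 fun _ => ⟨⊤, oneSec _ ⊤, trivial, gen_oneSec ⊤⟩

theorem pair_iff (X : Scheme.{u}) (Y : Closeds ↥X) :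
    ParaF.IsParafactorialPair X Y ↔
      HartX Y.compl ∧ ∀ V : X.Opens, Ext (X.homOfLE (inf_le_left : V ⊓ Y.compl ≤ V)) := by
  refine ⟨fun h => ⟨fun V => ?_, fun V => (invRestrictEquiv_snd_iff _).1 (h V).2⟩,
    fun ⟨h1, h2⟩ V => ⟨fun L L' _ hL' => ?_, (invRestrictEquiv_snd_iff _).2 (h2 V)⟩⟩
  · exact resX_bijective_of_pair V
      ((h V).1 _ _ (isInvertible_structure _) (isInvertible_structure _))
  · exact restrict_map_bijective (secBij_of_isInvertible (funBij_homOfLE h1 V) hL')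

/-- Invertible modules with isomorphic pullbacks along composable maps. -/
noncomputable def pullbackPullback {U V W : Scheme.{u}} (f : U ⟶ V) (g : V ⟶ W) (M : W.Modules) :
    (Scheme.Modules.pullback f).obj ((Scheme.Modules.pullback g).obj M) ≅
      (Scheme.Modules.pullback (f ≫ g)).obj M :=
  (Scheme.Modules.pullbackComp f g).app M

theorem ext_of_square {U U' V V' : Scheme.{u}} {j : U ⟶ V} {j' : U' ⟶ V'} (eU : U' ≅ U) (eV : V' ≅ V)
    (h : j' ≫ eV.hom = eU.hom ≫ j) (hj : Ext j) : Ext j' := by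
  intro L' hL'
  obtain ⟨M, hM, ⟨e⟩⟩ := hj ((Scheme.Modules.pullback eU.inv).obj L') (isInvertible_pullback _ hL')
  exact ⟨(Scheme.Modules.pullback eV.hom).obj M, isInvertible_pullback _ hM,
    ⟨pullbackPullback j' eV.hom M ≪≫ (Scheme.Modules.pullbackCongr h).app M ≪≫
      (pullbackPullback eU.hom j M).symm ≪≫ (Scheme.Modules.pullback eU.hom).mapIso e ≪≫
      pullbackPullback eU.hom eU.inv L' ≪≫ (Scheme.Modules.pullbackCongr eU.hom_inv_id).app L' ≪≫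
      (Scheme.Modules.pullbackId U').app L'⟩⟩

theorem ext_of_isIso {U V : Scheme.{u}} (j : U ⟶ V) [IsIso j] : Ext j := fun L hL =>
  ⟨(Scheme.Modules.pullback (inv j)).obj L, isInvertible_pullback _ hL,
    ⟨pullbackPullback j (inv j) L ≪≫ (Scheme.Modules.pullbackCongr (IsIso.hom_inv_id j)).app L ≪≫
      (Scheme.Modules.pullbackId U).app L⟩⟩

theorem ext_congr {B B' V : X.Opens} (e : B = B') (h : B ≤ V) (h' : B' ≤ V) :
    Ext (X.homOfLE h) ↔ Ext (X.homOfLE h') := by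
  subst e
  exact Iff.rfl

/-- Every point has a neighbourhood whose trace carries a basis. -/
def LocGen {U V : Scheme.{u}} (j : U ⟶ V) : Prop :=
  ∀ L : U.Modules, PicF.IsInvertible L → ∀ x : V, ∃ O : V.Opens, x ∈ O ∧
    ∃ e : Γ(L, j ⁻¹ᵁ O), Gen L (j ⁻¹ᵁ O) e

theorem locGen_of_ext {U V : Scheme.{u}} {j : U ⟶ V} (h : Ext j) : LocGen j := by
  intro L hL x
  obtain ⟨M, hM, ⟨e⟩⟩ := h L hL
  obtain ⟨O, s, hx, hs⟩ := (isInvertible_iff_exists_gen M).1 hM x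
  exact ⟨O, hx, _, (hs.pull j).map e.hom⟩

theorem ext_of_locGen {U V : Scheme.{u}} {j : U ⟶ V}
    (hf : ∀ O : V.Opens, Function.Bijective (j.app O)) (h : LocGen j) : Ext j := by
  intro L hL
  choose O hO e he using h L hL
  obtain ⟨h1, h2⟩ := pushforward_invertible_and_counit j hf (L := L) O
    (eq_top_iff.2 fun x _ => Opens.mem_iSup.2 ⟨x, hO x⟩) e he
  exact ⟨_, h1, ⟨@asIso _ _ _ _ _ h2⟩⟩

theorem app_bijective {C : X.Opens} (h : HartX C) (V : X.Opens) (O : (V : Scheme.{u}).Opens) :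
    Function.Bijective ((X.homOfLE (inf_le_left : V ⊓ C ≤ V)).app O) := by
  rw [Scheme.homOfLE_app]
  have hs : (V ⊓ C).ι ''ᵁ ((X.homOfLE (inf_le_left : V ⊓ C ≤ V)) ⁻¹ᵁ O) = V.ι ''ᵁ O ⊓ C := by
    ext x
    constructor
    · rintro ⟨z, hz, rfl⟩
      exact ⟨⟨X.homOfLE (inf_le_left : V ⊓ C ≤ V) z, hz, by
          change ((X.homOfLE (inf_le_left : V ⊓ C ≤ V) z).1 : X) = z.1
          simp⟩,
        z.2.2⟩
    · rintro ⟨⟨v, hv, rfl⟩, hC⟩
      refine ⟨⟨V.ι v, v.2, hC⟩, ?_, rfl⟩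
      change (X.homOfLE (inf_le_left : V ⊓ C ≤ V)) ⟨V.ι v, v.2, hC⟩ ∈ O
      have hv' : (X.homOfLE (inf_le_left : V ⊓ C ≤ V)) ⟨V.ι v, v.2, hC⟩ = v :=
        Subtype.ext (congr($(Scheme.homOfLE_ι X (inf_le_left : V ⊓ C ≤ V)) ⟨V.ι v, v.2, hC⟩))
      exact hv'.symm ▸ hv
  exact (resX_bijective_congr _ inf_le_left hs).2 (h (V.ι ''ᵁ O))

/-- A basis of a restricted module is a basis on the image. -/
theorem gen_of_restrict {U : Scheme.{u}} (h : U ⟶ X) [IsOpenImmersion h] {L : X.Modules}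
    {W : U.Opens} {s : Γ(L, h ''ᵁ W)} (hs : Gen (L.restrict h) W (s : Γ(L.restrict h, W))) :
    Gen L (h ''ᵁ W) s := by
  intro A hA
  obtain ⟨B, rfl⟩ : ∃ B : U.Opens, h ''ᵁ B = A :=
    ⟨h ⁻¹ᵁ A, by
      rw [Scheme.Hom.image_preimage_eq_opensRange_inf, inf_eq_right]
      exact hA.trans (h.image_le_opensRange _)⟩
  have hB : B ≤ W := (h.image_le_image_iff _ _).1 hA
  have := (hs B hB).comp (ConcreteCategory.bijective_of_isIso (h.appIso B).hom)
  refine (congrArg Function.Bijective (funext fun r => ?_)).mp this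
  change (h.appIso B).inv ((h.appIso B).hom r) • res L (h.image_mono hB) s = _
  rw [show (h.appIso B).inv ((h.appIso B).hom r) = r from congr($((h.appIso B).hom_inv_id) r)]

/-- Lifting isomorphisms along a bijection on morphisms. -/
theorem iso_of_bijective {𝒞 : Type*} [Category 𝒞] {𝒟 : Type*} [Category 𝒟] (F : 𝒞 ⥤ 𝒟) {A B : 𝒞}
    (hAB : Function.Bijective (F.map : (A ⟶ B) → _)) (hBA : Function.Bijective (F.map : (B ⟶ A) → _))
    (hAA : Function.Injective (F.map : (A ⟶ A) → _)) (hBB : Function.Injective (F.map : (B ⟶ B) → _))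
    (e : F.obj A ≅ F.obj B) : Nonempty (A ≅ B) := by
  obtain ⟨φ, hφ⟩ := hAB.2 e.hom
  obtain ⟨ψ, hψ⟩ := hBA.2 e.inv
  exact ⟨⟨φ, ψ, hAA (by simp [hφ, hψ]), hBB (by simp [hφ, hψ])⟩⟩

/-- The square identifying an open of an open subscheme with an open of `X`. -/
theorem ext_homOfLE_iff (W C : X.Opens) (V : (W : Scheme.{u}).Opens) :
    Ext ((W : Scheme.{u}).homOfLE (inf_le_left : V ⊓ W.ι ⁻¹ᵁ C ≤ V)) ↔
      Ext (X.homOfLE (inf_le_left : W.ι ''ᵁ V ⊓ C ≤ W.ι ''ᵁ V)) := by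
  have he : W.ι ''ᵁ (V ⊓ W.ι ⁻¹ᵁ C) = W.ι ''ᵁ V ⊓ C := by
    ext x
    constructor
    · rintro ⟨y, ⟨hy, hy'⟩, rfl⟩
      exact ⟨⟨y, hy, rfl⟩, hy'⟩
    · rintro ⟨⟨y, hy, rfl⟩, hC⟩
      exact ⟨y, ⟨hy, hC⟩, rfl⟩
  let a := W.ι.isoImage (V ⊓ W.ι ⁻¹ᵁ C)
  let b := W.ι.isoImage V
  let c := X.isoOfEq he
  have sq : ((W : Scheme.{u}).homOfLE (inf_le_left : V ⊓ W.ι ⁻¹ᵁ C ≤ V)) ≫ b.hom =
      (a ≪≫ c).hom ≫ X.homOfLE (inf_le_left : W.ι ''ᵁ V ⊓ C ≤ W.ι ''ᵁ V) := by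
    rw [← cancel_mono (W.ι ''ᵁ V).ι]
    simp only [a, b, c, Iso.trans_hom, Category.assoc, Scheme.homOfLE_ι, Scheme.isoOfEq_hom_ι,
      Scheme.Hom.isoImage_hom_ι]
    rw [← Category.assoc, Scheme.homOfLE_ι]
  refine ⟨fun h => ext_of_square (a ≪≫ c).symm b.symm ?_ h, fun h => ext_of_square (a ≪≫ c) b sq h⟩
  rw [Iso.symm_hom, Iso.symm_hom, Iso.eq_inv_comp, ← Category.assoc, Iso.comp_inv_eq, sq]

theorem resX_open_iff (W C : X.Opens) (V : (W : Scheme.{u}).Opens) :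
    Function.Bijective (resX (W : Scheme.{u}) (inf_le_left : V ⊓ W.ι ⁻¹ᵁ C ≤ V)) ↔
      Function.Bijective (resX X (inf_le_left : W.ι ''ᵁ V ⊓ C ≤ W.ι ''ᵁ V)) := by
  refine resX_bijective_congr (W.ι.image_mono inf_le_left) inf_le_left ?_
  ext x
  constructor
  · rintro ⟨y, ⟨hy, hy'⟩, rfl⟩
    exact ⟨⟨y, hy, rfl⟩, hy'⟩
  · rintro ⟨⟨y, hy, rfl⟩, hC⟩
    exact ⟨y, ⟨hy, hC⟩, rfl⟩

theorem hart_of_cover {ι : Type*} (W : ι → X.Opens) (hW : iSup W = ⊤) (C : X.Opens)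
    (h : ∀ i (V : X.Opens), V ≤ W i → Function.Bijective (resX X (inf_le_left : V ⊓ C ≤ V))) :
    HartX C := by
  intro V
  have hc : ∀ O : X.Opens, O ≤ ⨆ i, O ⊓ W i := fun O => le_iSup_inf hW O
  have hinj : ∀ (O : X.Opens), Function.Injective (resX X (inf_le_left : O ⊓ C ≤ O)) := fun O a b hab => by
    refine resX_ext (fun i => O ⊓ W i) (fun _ => inf_le_left) (hc O) fun i => (h i _ inf_le_right).1 ?_
    have := congrArg (resX X (inf_le_inf_right C (inf_le_left : O ⊓ W i ≤ O))) hab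
    simpa only [resX_resX] using this
  refine ⟨hinj V, fun t => ?_⟩
  choose y hy using fun i => (h i (V ⊓ W i) inf_le_right).2 (resX X (inf_le_inf_right C inf_le_left) t)
  obtain ⟨z, hz, -⟩ := resX_glue (fun i => V ⊓ W i) (fun _ => inf_le_left) (hc V) y fun i j => by
    refine hinj _ ?_
    have e1 := congrArg (resX X (inf_le_inf_right C (inf_le_left : (V ⊓ W i) ⊓ (V ⊓ W j) ≤ V ⊓ W i))) (hy i)
    have e2 := congrArg (resX X (inf_le_inf_right C (inf_le_right : (V ⊓ W i) ⊓ (V ⊓ W j) ≤ V ⊓ W j))) (hy j)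
    simp only [resX_resX] at e1 e2 ⊢
    rw [e1, e2]
  refine ⟨z, resX_ext (fun i => (V ⊓ W i) ⊓ C) (fun i => inf_le_inf_right C inf_le_left) ?_ fun i => ?_⟩
  · rintro v ⟨hvV, hvC⟩
    obtain ⟨i, hi⟩ := Opens.mem_iSup.1 (hc V hvV)
    exact Opens.mem_iSup.2 ⟨i, hi, hvC⟩
  · rw [resX_resX, ← hy i, ← hz i, resX_resX]

end Groth.ParaFormal
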