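/-
Ideals which are locally principal on the punctured spectrum and saturated, and parafactoriality
of normal local rings through them.
-/
import Groth.Agent.ParaFormal.NormalUFD
import Groth.Agent.ParaFormal.DescentDivAlg
import Groth.Agent.PicAux.GenLocal
import Groth.Agent.S2824

set_option autoImplicit false
universe u

open CategoryTheory AlgebraicGeometry TopologicalSpace IsLocalRing Groth.PicAux

namespace Groth.ParaFormal

/-- An ideal which is locally principal on the punctured spectrum and saturated. -/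
structure Good {R : Type u} [CommRing R] [IsLocalRing R] (I : Ideal R) : Prop where
  ne_bot : I ≠ ⊥
  loc : ∀ z : Ideal R, z.IsPrime → z ≠ maximalIdeal R →
    ∃ β ∈ I, ∃ s ∉ z, ∀ b ∈ I, ∃ c, s * b = c * β
  sat : ∀ b : R, (∀ c ∈ maximalIdeal R, c * b ∈ I) → b ∈ I

namespace Good

variable {R : Type u} [CommRing R] [IsDomain R] [IsNoetherianRing R] [IsLocalRing R]

theorem height_of_colon [IsIntegrallyClosed R] {I : Ideal R} (hI : Good I) (Q : Ideal R) [Q.IsPrime]
    {y : R} (hy : y ∉ I) (hQ : ∀ r, r ∈ Q ↔ r * y ∈ I) : Q.height = 1 ∧ I ≤ Q := by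
  have hIQ : I ≤ Q := fun b hb => (hQ b).2 (I.mul_mem_right _ hb)
  refine ⟨?_, hIQ⟩
  have hQm : Q ≠ maximalIdeal R := fun e => hy (hI.sat y fun c hc => (hQ c).1 (e ▸ hc))
  obtain ⟨β, hβ, s, hs, hgen⟩ := hI.loc Q inferInstance hQm
  have hβ0 : β ≠ 0 := by
    rintro rfl
    obtain ⟨b, hb, hb0⟩ := Submodule.exists_mem_ne_zero_of_ne_bot hI.ne_bot
    obtain ⟨c, hc⟩ := hgen b hb
    rw [mul_zero] at hc
    exact hb0 ((mul_eq_zero.1 hc).resolve_left fun h => hs (h ▸ Q.zero_mem))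
  let L := Localization.AtPrime Q
  have : IsIntegrallyClosed L :=
    isIntegrallyClosed_of_isLocalization L Q.primeCompl Q.primeCompl_le_nonZeroDivisors
  have hinj : Function.Injective (algebraMap R L) :=
    IsLocalization.injective L Q.primeCompl_le_nonZeroDivisors
  rw [show Q.height = (maximalIdeal L).height from WithBot.coe_inj.1
    ((IsLocalization.AtPrime.ringKrullDim_eq_height Q L).symm.trans
      (IsLocalRing.maximalIdeal_height_eq_ringKrullDim (R := L)).symm)]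
  refine Groth.RefRank.height_eq_one_of_colon (b := algebraMap R L β) (y := algebraMap R L y) ?_
    (fun e => hβ0 (hinj (e.trans (map_zero _).symm))) ?_ ?_
  · intro e
    have := (IsLocalization.AtPrime.to_map_mem_maximal_iff L Q β).2 (hIQ hβ)
    rw [e, Submodule.mem_bot] at this
    exact hβ0 (hinj (this.trans (map_zero _).symm))
  · rintro ⟨w, hw⟩
    obtain ⟨c, t, rfl⟩ := IsLocalization.exists_mk'_eq Q.primeCompl w
    rw [IsLocalization.mul_mk'_eq_mk'_of_mul, IsLocalization.eq_mk'_iff_mul_eq, ← map_mul] at hw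
    exact t.2 ((hQ _).2 (by rw [mul_comm (t : R) y, hinj hw]; exact I.mul_mem_right _ hβ))
  · intro q hq
    obtain ⟨r, t, rfl⟩ := IsLocalization.exists_mk'_eq Q.primeCompl q
    rw [IsLocalization.AtPrime.mk'_mem_maximal_iff L Q] at hq
    obtain ⟨c, hc⟩ := hgen _ ((hQ r).1 hq)
    refine ⟨IsLocalization.mk' L c (t * (⟨s, hs⟩ : Q.primeCompl)), ?_⟩
    rw [mul_comm (IsLocalization.mk' L r t), IsLocalization.mul_mk'_eq_mk'_of_mul,
      IsLocalization.mul_mk'_eq_mk'_of_mul, IsLocalization.mk'_eq_iff_eq, Submonoid.coe_mul]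
    congr 1
    linear_combination (t : R) * hc

/-- Zero divisors modulo a good ideal lie in a prime of height one containing it. -/
theorem exists_height_one [IsIntegrallyClosed R] {I : Ideal R} (hI : Good I) {s y : R} (hy : y ∉ I)
    (hsy : s * y ∈ I) : ∃ Q : Ideal R, Q.IsPrime ∧ Q.height = 1 ∧ I ≤ Q ∧ s ∈ Q := by
  have hs : s ∈ {r : R | ∃ m : R ⧸ I, m ≠ 0 ∧ r • m = 0} :=
    ⟨Ideal.Quotient.mk I y, fun e => hy (Ideal.Quotient.eq_zero_iff_mem.1 e), by
      rw [Algebra.smul_def, Ideal.Quotient.algebraMap_eq, ← map_mul]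
      exact Ideal.Quotient.eq_zero_iff_mem.2 hsy⟩
  rw [← biUnion_associatedPrimes_eq_zero_divisors] at hs
  obtain ⟨Q, hQ, hsQ⟩ := Set.mem_iUnion₂.1 hs
  obtain ⟨hQp, m, hm⟩ := isAssociatedPrime_iff.1 hQ
  obtain ⟨z, rfl⟩ := Ideal.Quotient.mk_surjective m
  have hQ' : ∀ r, r ∈ Q ↔ r * z ∈ I := fun r => by
    rw [hm, Submodule.mem_colon_singleton, Submodule.mem_bot, Algebra.smul_def,
      Ideal.Quotient.algebraMap_eq, ← map_mul, Ideal.Quotient.eq_zero_iff_mem]
  have hz : z ∉ I := fun h => hQp.ne_top ((Ideal.eq_top_iff_one _).2 ((hQ' 1).2 (by rwa [one_mul])))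
  obtain ⟨h1, h2⟩ := height_of_colon hI Q hz hQ'
  exact ⟨Q, hQp, h1, h2, hsQ⟩

/-- Principal ideals of a normal local ring of dimension at least two are saturated. -/
theorem dvd_of_forall [IsIntegrallyClosed R] (hdim : (2 : WithBot ℕ∞) ≤ ringKrullDim R) {s z : R}
    (hs : s ≠ 0) (h : ∀ c ∈ maximalIdeal R, s ∣ c * z) : s ∣ z := by
  obtain ⟨a, b, ha, hb, hab⟩ := exists_pair_of_normal R hdim
  obtain ⟨hA, hB⟩ := DescentDivAlg.regular_pair_map (RingHom.id R) (RingHom.Flat.id R) hab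
  refine Ideal.mem_span_singleton.1 (DescentDivAlg.mem_span_of_regular_pair (n := 1) (m := 1)
    (fun x hx => (mul_eq_zero.1 hx).resolve_left hs) hA hB ?_ ?_)
  · rw [pow_one]; exact Ideal.mem_span_singleton.2 (h a ha)
  · rw [pow_one]; exact Ideal.mem_span_singleton.2 (h b hb)

/-- Rescaling a good ideal. -/
theorem exists_scale [IsIntegrallyClosed R] (hdim : (2 : WithBot ℕ∞) ≤ ringKrullDim R) {I : Ideal R}
    (hI : Good I) {h s : R} (hh : h ≠ 0) (hs : s ≠ 0)
    (hle : ∀ b ∈ I, h ∣ s * b) :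
    ∃ I' : Ideal R, Good I' ∧ (∀ c, c ∈ I' ↔ ∃ b ∈ I, h * c = s * b) ∧
      (I'.IsPrincipal → I.IsPrincipal) := by
  let I' : Ideal R := Submodule.comap (LinearMap.mulLeft R h) (Submodule.map (LinearMap.mulLeft R s) I)
  have hmem : ∀ c, c ∈ I' ↔ ∃ b ∈ I, h * c = s * b := fun c => by
    simp [I', eq_comm]
  refine ⟨I', ⟨?_, fun z hz hzm => ?_, fun b hb => ?_⟩, hmem, fun hp => ?_⟩
  · intro e
    obtain ⟨b, hb, hb0⟩ := Submodule.exists_mem_ne_zero_of_ne_bot hI.ne_bot
    obtain ⟨c, hc⟩ := hle b hb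
    have := (hmem c).2 ⟨b, hb, hc.symm⟩
    rw [e, Submodule.mem_bot] at this
    rw [this, mul_zero] at hc
    exact (mul_ne_zero hs hb0) hc
  · obtain ⟨β, hβ, t, ht, hgen⟩ := hI.loc z hz hzm
    obtain ⟨β', hβ'⟩ := hle β hβ
    refine ⟨β', (hmem β').2 ⟨β, hβ, hβ'.symm⟩, t, ht, fun c hc => ?_⟩
    obtain ⟨b, hb, hc⟩ := (hmem c).1 hc
    obtain ⟨d, hd⟩ := hgen b hb
    exact ⟨d, mul_left_cancel₀ hh (by linear_combination t * hc + s * hd + d * hβ')⟩
  · rw [hmem]
    have key : ∀ c ∈ maximalIdeal R, ∃ e ∈ I, h * (c * b) = s * e := fun c hc => (hmem _).1 (hb c hc)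
    obtain ⟨b₁, hb₁⟩ : s ∣ h * b := dvd_of_forall hdim hs fun c hc => by
      obtain ⟨e, -, he⟩ := key c hc
      exact ⟨e, by rw [← he]; ring⟩
    refine ⟨b₁, hI.sat b₁ fun c hc => ?_, hb₁⟩
    obtain ⟨e, he, hce⟩ := key c hc
    rwa [show c * b₁ = e from mul_left_cancel₀ hs (by linear_combination hce - c * hb₁)]
  · obtain ⟨c, hc⟩ := hp.principal
    obtain ⟨b, hb, hbc⟩ := (hmem c).1 (hc ▸ Submodule.mem_span_singleton_self c)
    refine ⟨b, le_antisymm (fun a ha => ?_) ((Submodule.span_singleton_le_iff_mem _ _).2 hb)⟩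
    obtain ⟨a', ha'⟩ := hle a ha
    obtain ⟨d, hd⟩ := Submodule.mem_span_singleton.1 (hc ▸ (hmem a').2 ⟨a, ha, ha'.symm⟩ : a' ∈ _)
    refine Submodule.mem_span_singleton.2 ⟨d, mul_left_cancel₀ hs ?_⟩
    rw [smul_eq_mul] at hd ⊢
    linear_combination -ha' + h * hd - d * hbc

/-- A good ideal contained in principal primes of height one only is principal. -/
theorem isPrincipal_of_heightOne [IsIntegrallyClosed R] (hdim : (2 : WithBot ℕ∞) ≤ ringKrullDim R)
    (I : Ideal R) (hI : Good I)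
    (h : ∀ Q : Ideal R, Q.IsPrime → Q.height = 1 → I ≤ Q → Q.IsPrincipal) : I.IsPrincipal := by
  induction I using IsNoetherian.induction with
  | hgt I ih =>
    by_cases htop : I = ⊤
    · exact htop ▸ top_isPrincipal
    have : Nontrivial (R ⧸ I) := Ideal.Quotient.nontrivial_iff.2 htop
    obtain ⟨Q, hQ⟩ := associatedPrimes.nonempty R (R ⧸ I)
    obtain ⟨hQp, m, hm⟩ := isAssociatedPrime_iff.1 hQ
    obtain ⟨z, rfl⟩ := Ideal.Quotient.mk_surjective m
    have hQ' : ∀ r, r ∈ Q ↔ r * z ∈ I := fun r => by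
      rw [hm, Submodule.mem_colon_singleton, Submodule.mem_bot, Algebra.smul_def,
        Ideal.Quotient.algebraMap_eq, ← map_mul, Ideal.Quotient.eq_zero_iff_mem]
    have hz : z ∉ I := fun h => hQp.ne_top ((Ideal.eq_top_iff_one _).2 ((hQ' 1).2 (by rwa [one_mul])))
    obtain ⟨hQ1, hIQ⟩ := height_of_colon hI Q hz hQ'
    obtain ⟨π, hπ⟩ := (h Q hQp hQ1 hIQ).principal
    have hπ0 : π ≠ 0 := fun e => Ideal.ne_bot_of_height_eq_one hQ1 (by rw [hπ, e]; simp)
    have hdvd : ∀ b ∈ I, π ∣ 1 * b := fun b hb => by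
      rw [one_mul]
      exact Ideal.mem_span_singleton.1 (by have := hIQ hb; rwa [hπ] at this)
    obtain ⟨I', hI', hmem, hp⟩ := hI.exists_scale hdim hπ0 one_ne_zero hdvd
    have hle : I ≤ I' := fun b hb => (hmem b).2 ⟨π * b, Ideal.mul_mem_left _ _ hb, (one_mul _).symm⟩
    refine hp (ih I' (lt_of_le_of_ne hle fun e => hI.ne_bot ?_) hI' fun Q' hQ' hQ'1 hle' => h Q' hQ' hQ'1 (hle.trans hle'))
    have hπm : π ∈ maximalIdeal R := le_maximalIdeal hQp.ne_top (hπ ▸ Submodule.mem_span_singleton_self π)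
    refine Submodule.eq_bot_of_le_smul_of_le_jacobson_bot (Ideal.span {π}) I (IsNoetherian.noetherian I)
      (fun b hb => ?_) (((Ideal.span_singleton_le_iff_mem _).2 hπm).trans (maximalIdeal_le_jacobson _))
    obtain ⟨c, hc⟩ := hdvd b hb
    rw [smul_eq_mul, Ideal.mem_span_singleton_mul]
    exact ⟨c, e ▸ (hmem c).2 ⟨b, hb, hc.symm⟩, by rw [← one_mul b, hc]⟩

/-- Twist a good ideal so that it is not contained in a given prime. -/
theorem exists_not_le [IsIntegrallyClosed R] (hdim : (2 : WithBot ℕ∞) ≤ ringKrullDim R) {I : Ideal R}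
    (hI : Good I) (r : Ideal R) [r.IsPrime] (hr : r ≠ maximalIdeal R) :
    ∃ I' : Ideal R, Good I' ∧ ¬ I' ≤ r ∧ (I'.IsPrincipal → I.IsPrincipal) := by
  obtain ⟨β, hβ, s, hs, hgen⟩ := hI.loc r inferInstance hr
  have hs0 : s ≠ 0 := fun e => hs (e ▸ r.zero_mem)
  have hβ0 : β ≠ 0 := by
    rintro rfl
    obtain ⟨b, hb, hb0⟩ := Submodule.exists_mem_ne_zero_of_ne_bot hI.ne_bot
    obtain ⟨c, hc⟩ := hgen b hb
    rw [mul_zero] at hc
    exact hb0 ((mul_eq_zero.1 hc).resolve_left hs0)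
  obtain ⟨I', hI', hmem, hp⟩ := hI.exists_scale hdim hβ0 hs0 fun b hb => by
    obtain ⟨c, hc⟩ := hgen b hb
    exact ⟨c, by rw [hc, mul_comm]⟩
  exact ⟨I', hI', fun hle => hs (hle ((hmem s).2 ⟨β, hβ, mul_comm _ _⟩)), hp⟩

end Good

section Reduction

variable {R : Type u} [CommRing R]

local notation "U" => FEt.puncturedSpec R

theorem phi_top_eq [IsLocalRing R] (V : (U : Scheme.{u}).Opens) (a : R) :
    phi U V a = resX (Spec (CommRingCat.of R)) (le_top : (U).ι ''ᵁ V ≤ ⊤)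
      ((Scheme.ΓSpecIso (CommRingCat.of R)).inv a) := by
  have e : phi U ⊤ a = resX (Spec (CommRingCat.of R)) (le_top : (U).ι ''ᵁ ⊤ ≤ ⊤)
      ((Scheme.ΓSpecIso (CommRingCat.of R)).inv a) := by
    simp [phi, resX_self]
    rfl
  rw [← resX_phi (le_top : V ≤ ⊤), e]
  exact resX_resX (X := Spec (CommRingCat.of R)) le_top ((U).ι.image_mono le_top) _

theorem exists_num [IsLocalRing R] {g : R} {x : Γ((U : Scheme.{u}), (U : Scheme.{u}).basicOpen (phi U ⊤ g))}
    (hg : g ∈ maximalIdeal R) : ∃ (k : ℕ) (a : R), phi U _ (g ^ k) * x = phi U _ a := by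
  let S := Spec (CommRingCat.of R)
  let W := (U : Scheme.{u}).basicOpen (phi U ⊤ g)
  have heq : (U).ι ''ᵁ W = PrimeSpectrum.basicOpen g := by
    apply TopologicalSpace.Opens.ext
    ext z
    constructor
    · rintro ⟨z, hz, rfl⟩
      exact (mem_basicOpen_phi_iff (V := ⊤) trivial g).1 hz
    · intro hz
      have hzU : z ∈ U := fun hc => hz (by rw [show z = closedPoint R from hc]; exact hg)
      exact ⟨⟨z, hzU⟩, (mem_basicOpen_phi_iff (V := ⊤) trivial g).2 hz, rfl⟩
  let y : (Spec.structureSheaf R).obj.obj (Opposite.op (PrimeSpectrum.basicOpen g)) := resX S heq.ge x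
  obtain ⟨k, a, hka⟩ := IsLocalization.Away.surj (x := g) y
  have halg : ∀ b : R, algebraMap R ((Spec.structureSheaf R).obj.obj (Opposite.op (PrimeSpectrum.basicOpen g))) b =
      resX S (le_top : (PrimeSpectrum.basicOpen g : S.Opens) ≤ ⊤) ((Scheme.ΓSpecIso (CommRingCat.of R)).inv b) :=
    fun b => rfl
  rw [halg, halg] at hka
  refine ⟨k, a, ?_⟩
  have aux : ∀ (O₁ O₂ : S.Opens) (e : O₁ = O₂) (x : Γ(S, O₁)) (b c : Γ(S, ⊤)),
      resX S e.ge x * resX S (le_top : O₂ ≤ ⊤) b = resX S le_top c →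
      resX S (le_top : O₁ ≤ ⊤) b * x = resX S le_top c := by
    intro O₁ O₂ e x b c h
    subst e
    rw [resX_self] at h
    rw [mul_comm, h]
  refine ((congrArg (· * x) (phi_top_eq W _)).trans (aux _ _ heq x _ _ ?_)).trans (phi_top_eq W a).symm
  rw [map_pow, map_pow]
  exact hka

/-- A normal local ring of dimension at least two all of whose good ideals are principal is parafactorial. -/
theorem isParafactorial_of_good [IsDomain R] [IsNoetherianRing R] [IsLocalRing R] [IsIntegrallyClosed R]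
    (hdim : (2 : WithBot ℕ∞) ≤ ringKrullDim R) (hgood : ∀ I : Ideal R, Good I → I.IsPrincipal) :
    ParaF.IsParafactorialLocalRing R := by
  classical
  have hbij := bijective_restrict_punctured R hdim
  rw [Groth.Agent.S2824.result]
  refine ⟨hbij, fun L hL => ?_⟩
  have hphi : Function.Bijective (phi U ⊤) := by
    have hb := (resX_bijective_congr le_top le_top (Scheme.Opens.ι_image_top _).symm).1 hbij
    have h := hb.comp (ConcreteCategory.bijective_of_isIso (Scheme.ΓSpecIso (CommRingCat.of R)).inv)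
    exact ⟨fun a b hab => h.1 ((phi_top_eq ⊤ a).symm.trans (hab.trans (phi_top_eq ⊤ b))),
      fun y => (h.2 y).imp fun a ha => (phi_top_eq ⊤ a).trans ha⟩
  have hm0 : maximalIdeal R ≠ ⊥ := fun e => by
    rw [ringKrullDim_eq_zero_of_isField (IsLocalRing.isField_iff_maximalIdeal_eq.2 e)] at hdim
    norm_num at hdim
  have hη0 : (⟨⊥, Ideal.isPrime_bot⟩ : PrimeSpectrum R) ∈ U := fun hc =>
    hm0 (congrArg PrimeSpectrum.asIdeal hc).symm
  have hne : Nonempty (U : Scheme.{u}) := ⟨⟨_, hη0⟩⟩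
  have : IsIntegral (U : Scheme.{u}) := isIntegral_of_isOpenImmersion (U).ι
  obtain ⟨V, e, -, hmem, he⟩ := exists_gen_cover hL
  have hbas : ∀ z : (U : Scheme.{u}), ∃ g : R, g ∈ maximalIdeal R ∧ g ∉ z.1.asIdeal ∧
      (U : Scheme.{u}).basicOpen (phi U ⊤ g) ≤ V z := by
    intro z
    obtain ⟨_, ⟨c, rfl⟩, hzc, hcV⟩ := PrimeSpectrum.isTopologicalBasis_basic_opens.exists_subset_of_mem_open
      (show z.1 ∈ SetLike.coe ((U).ι ''ᵁ V z) from ⟨z, hmem z, rfl⟩)
      ((U).ι ''ᵁ V z).isOpen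
    refine ⟨c, ?_, hzc, fun w hw => ?_⟩
    · by_contra hc
      obtain ⟨w, -, hw⟩ := hcV (a := closedPoint R) hc
      exact w.2 hw
    · obtain ⟨w', hw', e'⟩ := hcV (a := w.1) ((mem_basicOpen_phi_iff (V := ⊤) trivial c).1 hw)
      rwa [← (U).ι.isOpenEmbedding.injective e']
  choose g₀ hgm hg₀ hgV using hbas
  have hcompact : CompactSpace (U : Scheme.{u}) := by
    have : QuasiCompact (U).ι := inferInstance
    exact QuasiCompact.compactSpace_of_compactSpace (U).ι
  obtain ⟨S, hS⟩ := CompactSpace.elim_nhds_subcover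
    (fun z : (U : Scheme.{u}) => ((U : Scheme.{u}).basicOpen (phi U ⊤ (g₀ z)) : Set (U : Scheme.{u})))
    fun z => ((U : Scheme.{u}).basicOpen _).2.mem_nhds ((mem_basicOpen_phi_iff (V := ⊤) trivial _).2 (hg₀ z))
  let g : S → R := fun i => g₀ i.1
  let W : S → (U : Scheme.{u}).Opens := fun i => (U : Scheme.{u}).basicOpen (phi U ⊤ (g i))
  have hcov : ∀ z : (U : Scheme.{u}), ∃ i, z ∈ W i := fun z => by
    obtain ⟨a, ha, hza⟩ := Set.mem_iUnion₂.1 (hS.ge (Set.mem_univ z))
    exact ⟨⟨a, ha⟩, hza⟩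
  have hmemW : ∀ i z, z ∈ W i ↔ g i ∉ z.1.asIdeal := fun i z => mem_basicOpen_phi_iff (V := ⊤) trivial _
  let ε : ∀ i, Γ(L, W i) := fun i => res L (hgV i.1) (e i.1)
  have hε : ∀ i, Gen L (W i) (ε i) := fun i => (he i.1).res (hgV i.1)
  choose η hη using fun i j : S => (hε j).exists_coeff (inf_le_right : W i ⊓ W j ≤ W j) (res L inf_le_left (ε i))
  have hηu : ∀ i j, IsUnit (η i j) := fun i j =>
    ((hε j).res inf_le_right).isUnit_of_smul (hη i j ▸ (hε i).res inf_le_left)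
  have hco : ∀ i j l (O : (U : Scheme.{u}).Opens) (hi : O ≤ W i) (hj : O ≤ W j) (hl : O ≤ W l),
      resX _ (le_inf hi hl) (η i l) = resX _ (le_inf hi hj) (η i j) * resX _ (le_inf hj hl) (η j l) := by
    intro i j l O hi hj hl
    refine (hε l).smul_inj hl ?_
    have h1 := congrArg (res L (le_inf hi hl)) (hη i l)
    have h2 := congrArg (res L (le_inf hi hj)) (hη i j)
    have h3 := congrArg (res L (le_inf hj hl)) (hη j l)
    simp only [res_smul, res_res] at h1 h2 h3 ⊢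
    rw [mul_smul, ← h3, ← h2, ← h1]
  -- clear the denominators
  have hgg : ∀ i j, W i ⊓ W j = (U : Scheme.{u}).basicOpen (phi U ⊤ (g i * g j)) := fun i j => by
    rw [map_mul, Scheme.basicOpen_mul]
  have hnum : ∀ i j, ∃ (k : ℕ) (a : R),
      phi U (W i ⊓ W j) ((g i * g j) ^ k) * η i j = phi U (W i ⊓ W j) a := fun i j => by
    obtain ⟨k, a, hka⟩ := exists_num (g := g i * g j) (x := resX _ (hgg i j).ge (η i j))
      (Ideal.mul_mem_left _ _ (hgm _))
    refine ⟨k, a, ?_⟩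
    have := congrArg (resX _ (hgg i j).le) hka
    simpa only [map_mul, resX_phi, resX_resX, resX_self] using this
  choose k a hka using hnum
  have hgW : ∀ z ∈ (Finset.univ : Finset S), g z ≠ 0 := fun i _ h0 => by
    have := hg₀ i.1
    exact this ((show g₀ i.1 = 0 from h0).symm ▸ Ideal.zero_mem _)
  have hg0 : ∀ i, g i ≠ 0 := fun i => hgW i (Finset.mem_univ i)
  obtain ⟨i₀, -⟩ := hcov hne.some
  set d : S → R := fun i => (g i * g i₀) ^ k i i₀ with hd
  set h : S → R := fun i => a i i₀ * ∏ j ∈ Finset.univ.erase i, d j with hh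
  set D : R := ∏ j, d j with hD
  let η₀ : (U : Scheme.{u}) := ⟨⟨⊥, Ideal.isPrime_bot⟩, hη0⟩
  have hη₀ : ∀ i, η₀ ∈ W i := fun i => (hmemW i η₀).2 (by simpa [η₀] using hg0 i)
  have hinj : ∀ (O : (U : Scheme.{u}).Opens), η₀ ∈ O → Function.Injective (phi U O) := fun O hO => by
    have : Nonempty O := ⟨⟨η₀, hO⟩⟩
    intro a b hab
    exact hphi.1 (map_injective_of_isIntegral (U : Scheme.{u}) (homOfLE (le_top : O ≤ ⊤))
      ((resX_phi le_top a).trans (hab.trans (resX_phi le_top b).symm)))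
  -- `h i = D • γ i`
  have hhD : ∀ i, phi U (W i ⊓ W i₀) (h i) = η i i₀ * phi U _ D := fun i => by
    rw [hD, ← Finset.mul_prod_erase Finset.univ d (Finset.mem_univ i), hh]
    simp only [map_mul]
    rw [← hka i i₀]
    ring
  have hrel : ∀ i j, phi U (W i ⊓ W j) (h i) = η i j * phi U _ (h j) := by
    intro i j
    have hne3 : Nonempty (W i ⊓ W j ⊓ W i₀ : (U : Scheme.{u}).Opens) := ⟨⟨η₀, ⟨hη₀ i, hη₀ j⟩, hη₀ i₀⟩⟩
    refine map_injective_of_isIntegral (U : Scheme.{u}) (homOfLE (inf_le_left : W i ⊓ W j ⊓ W i₀ ≤ W i ⊓ W j)) ?_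
    change resX _ inf_le_left (phi U (W i ⊓ W j) (h i)) = resX _ inf_le_left (η i j * phi U _ (h j))
    have h1 := congrArg (resX _ (inf_le_inf_right (W i₀) inf_le_left : W i ⊓ W j ⊓ W i₀ ≤ W i ⊓ W i₀)) (hhD i)
    have h2 := congrArg (resX _ (inf_le_inf_right (W i₀) inf_le_right : W i ⊓ W j ⊓ W i₀ ≤ W j ⊓ W i₀)) (hhD j)
    simp only [map_mul, resX_phi] at h1 h2 ⊢
    rw [h1, h2, hco i j i₀ _ (inf_le_left.trans inf_le_left) (inf_le_left.trans inf_le_right) inf_le_right]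
    ring
  have hh0 : ∀ i, h i ≠ 0 := fun i h0 => by
    have h1 := hhD i
    rw [h0, map_zero, eq_comm, (hηu i i₀).mul_right_eq_zero, ← map_zero (phi U (W i ⊓ W i₀))] at h1
    exact Finset.prod_ne_zero_iff.2 (fun j _ => pow_ne_zero _ (mul_ne_zero (hg0 j) (hg0 i₀)))
      (hinj (W i ⊓ W i₀) ⟨hη₀ i, hη₀ i₀⟩ h1)
  have hrelR : ∀ i j, (g i * g j) ^ k i j * h i = a i j * h j := fun i j => by
    refine hinj (W i ⊓ W j) ⟨hη₀ i, hη₀ j⟩ ?_
    rw [map_mul (phi U _), map_mul (phi U _) (a i j) (h j), hrel i j, ← mul_assoc, hka]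
  let I : Ideal R :=
    { carrier := {b | ∀ j, ∃ (n : ℕ) (c : R), g j ^ n * b = c * h j}
      zero_mem' := fun j => ⟨0, 0, by simp⟩
      add_mem' := by
        intro b b' hb hb' j
        obtain ⟨n, c, hc⟩ := hb j
        obtain ⟨n', c', hc'⟩ := hb' j
        exact ⟨n + n', g j ^ n' * c + g j ^ n * c', by
          rw [pow_add]; linear_combination g j ^ n' * hc + g j ^ n * hc'⟩
      smul_mem' := by
        intro r b hb j
        obtain ⟨n, c, hc⟩ := hb j
        exact ⟨n, r * c, by rw [smul_eq_mul]; linear_combination r * hc⟩ }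
  have hImem : ∀ b, b ∈ I ↔ ∀ j, ∃ (n : ℕ) (c : R), g j ^ n * b = c * h j := fun b => Iff.rfl
  have hβ : ∀ i, ∃ K : ℕ, g i ^ K * h i ∈ I := fun i =>
    ⟨Finset.univ.sup fun j => k i j, (hImem _).2 fun j => by
      obtain ⟨m, hm⟩ := Nat.exists_eq_add_of_le (Finset.le_sup (f := fun j => k i j) (Finset.mem_univ j))
      refine ⟨k i j, g i ^ m * a i j, ?_⟩
      rw [hm, pow_add]
      have := hrelR i j
      rw [mul_pow] at this
      linear_combination g i ^ m * this⟩
  choose K hK using hβ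
  have hI : Good I := by
    refine ⟨fun hb => ?_, fun z hz hzm => ?_, fun b hb j => ?_⟩
    · have := hK i₀
      rw [hb, Submodule.mem_bot] at this
      exact mul_ne_zero (pow_ne_zero _ (hg0 i₀)) (hh0 i₀) this
    · have hzU : (⟨z, hz⟩ : PrimeSpectrum R) ∈ U := fun hc => hzm (congrArg PrimeSpectrum.asIdeal hc)
      obtain ⟨i, hi⟩ := hcov ⟨_, hzU⟩
      have hgi : g i ∉ z := (hmemW i _).1 hi
      have hiff : ∀ b, ∃ n, b ∈ I → ∃ c, g i ^ n * b = c * h i := fun b => by
        by_cases hb : b ∈ I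
        · obtain ⟨n, c, hc⟩ := (hImem b).1 hb i
          exact ⟨n, fun _ => ⟨c, hc⟩⟩
        · exact ⟨0, fun h' => absurd h' hb⟩
      obtain ⟨T, hT⟩ := IsNoetherian.noetherian I
      choose n hn using hiff
      let N := T.sup n
      refine ⟨g i ^ K i * h i, hK i, g i ^ (K i + N), fun hc => hgi (hz.mem_of_pow_mem _ hc), ?_⟩
      suffices hle : I ≤ (Ideal.span {g i ^ K i * h i}).colon {g i ^ (K i + N)} by
        intro b hb
        have := hle hb
        rw [Submodule.mem_colon_singleton, smul_eq_mul, Ideal.mem_span_singleton'] at this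
        obtain ⟨c, hc⟩ := this
        exact ⟨c, by rw [hc, mul_comm]⟩
      rw [← hT, Submodule.span_le]
      intro b hb
      rw [SetLike.mem_coe, Submodule.mem_colon_singleton, smul_eq_mul, Ideal.mem_span_singleton']
      obtain ⟨c, hc⟩ := hn b (hT ▸ Submodule.subset_span hb)
      obtain ⟨m, hm⟩ := Nat.exists_eq_add_of_le (Finset.le_sup (f := n) hb)
      refine ⟨g i ^ m * c, ?_⟩
      rw [show N = n b + m from hm, pow_add, pow_add]
      linear_combination -(g i ^ K i * g i ^ m) * hc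
    · obtain ⟨n, c, hc⟩ := (hImem _).1 (hb (g j) (hgm _)) j
      exact ⟨n + 1, c, by rw [← hc, pow_succ, mul_assoc]⟩
  obtain ⟨t, ht⟩ := (hgood I hI).principal
  have hu : ∀ i, ∃ w : Γ((U : Scheme.{u}), W i), IsUnit w ∧ phi U (W i) t = w * phi U (W i) (h i) := by
    intro i
    obtain ⟨n, c, hc⟩ := (hImem t).1 (ht ▸ Submodule.mem_span_singleton_self t) i
    obtain ⟨c', hc'⟩ := Submodule.mem_span_singleton.1 (ht ▸ hK i : g i ^ K i * h i ∈ _)
    rw [smul_eq_mul] at hc'
    have hgu : IsUnit (phi U (W i) (g i)) := isUnit_phi fun z hz => (hmemW i z).1 hz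
    refine ⟨phi U (W i) c * ↑(hgu.pow n).unit⁻¹, ?_, ?_⟩
    · refine IsUnit.mul ?_ (Units.isUnit _)
      refine isUnit_of_mul_isUnit_left (y := phi U (W i) c') ?_
      have heq : c * c' = g i ^ (n + K i) :=
        mul_right_cancel₀ (hh0 i) (by rw [pow_add]; linear_combination g i ^ n * hc' - c' * hc)
      rw [← map_mul, heq, map_pow]
      exact hgu.pow _
    · have h2 := congrArg (phi U (W i)) hc
      rw [map_mul, map_mul, map_pow] at h2
      refine (hgu.pow n).mul_left_cancel (h2.trans ?_)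
      have h3 := (hgu.pow n).mul_val_inv
      linear_combination (-(phi U (W i) c * phi U (W i) (h i))) * h3
  choose w hwu hw using hu
  obtain ⟨s, hs, -⟩ := res_glue (M := L) W (fun _ => le_top) (fun z _ => Opens.mem_iSup.2 (hcov z))
    (fun i => w i • ε i) fun i j => by
      simp only [res_smul]
      rw [hη i j, ← mul_smul]
      congr 1
      refine phi_mul_cancel hphi.1 (hh0 j) ?_
      have h1 := congrArg (resX _ (inf_le_left : W i ⊓ W j ≤ W i)) (hw i)
      have h2 := congrArg (resX _ (inf_le_right : W i ⊓ W j ≤ W j)) (hw j)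
      simp only [map_mul, resX_phi] at h1 h2
      rw [hrel i j] at h1
      linear_combination h2 - h1
  refine nonempty_iso_structure_iff.2 ⟨s, Gen.of_cover W (fun _ => le_top) (fun z _ => Opens.mem_iSup.2 (hcov z)) fun i => ?_⟩
  rw [hs i]
  exact (hε i).smul_unit (hwu i)

end Reduction

end Groth.ParaFormal
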