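/-
Good ideals of a flat local algebra with one-dimensional fibre are principal.
-/
import Groth.Agent.ParaFormal.GoodIdeal
import Groth.Agent.ParaFormal.CharGlue
import Groth.Agent.Calg4.CompletionFlat
import Mathlib.RingTheory.DiscreteValuationRing.TFAE
import Mathlib.RingTheory.AdicCompletion.LocalRing

set_option autoImplicit false
universe u

open IsLocalRing Polynomial

namespace Groth.ParaFormal.FibreCurve

theorem sub_aeval_modByMonic_mem {A B : Type u} [CommRing A] [CommRing B] [Algebra A B] (J : Ideal B)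
    (u : B) {μ : A[X]} (hμ : μ.Monic) (h : aeval u μ ∈ J) (P : A[X]) :
    aeval u P - aeval u (P %ₘ μ) ∈ J := by
  have e : P - P %ₘ μ = μ * (P /ₘ μ) := sub_eq_of_eq_add' (modByMonic_add_div P μ).symm
  rw [← map_sub, e, map_mul]
  exact J.mul_mem_right _ h

theorem exists_shift {A B : Type u} [CommRing A] [CommRing B] [Algebra A B] (J : Ideal B) (t : B)
    (c : A) (hspan : ∀ z : B, ∃ P : A[X], z - aeval t P ∈ J)
    (hmon : ∃ P : A[X], P.Monic ∧ aeval t P ∈ J) :
    (∀ z : B, ∃ P : A[X], z - aeval (t - algebraMap A B c) P ∈ J) ∧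
      ∃ P : A[X], P.Monic ∧ aeval (t - algebraMap A B c) P ∈ J := by
  have e : ∀ P : A[X], aeval (t - algebraMap A B c) (P.comp (X + C c)) = aeval t P := fun P => by
    rw [aeval_comp, map_add, aeval_X, aeval_C, sub_add_cancel]
  refine ⟨fun z => ?_, ?_⟩
  · obtain ⟨P, hP⟩ := hspan z
    exact ⟨P.comp (X + C c), by rwa [e]⟩
  · obtain ⟨P, hP, hP'⟩ := hmon
    exact ⟨P.comp (X + C c), hP.comp_X_add_C c, by rwa [e]⟩

theorem pow_mulLeft_eq {A B : Type u} [CommRing A] [CommRing B] [Algebra A B] (u : B) (P : A[X]) (m : B) :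
    aeval (LinearMap.mulLeft A u) P m = aeval u P * m := by
  rw [show LinearMap.mulLeft A u = Algebra.lmul A B u from rfl, Polynomial.aeval_algHom_apply]
  rfl

theorem colon_aux {W C : Type u} [CommRing W] [CommRing C] [IsNoetherianRing W] [Algebra W C]
    [Module.Flat W C] (𝔟 : Ideal W) (y : W) (c : C)
    (h : algebraMap W C y * c ∈ 𝔟.map (algebraMap W C)) :
    c ∈ (𝔟.colon {y}).map (algebraMap W C) := by
  obtain ⟨n, b, hb⟩ := Submodule.fg_iff_exists_fin_generating_family.mp (IsNoetherian.noetherian 𝔟)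
  rw [← hb, Ideal.submodule_span_eq, Ideal.map_span, ← Set.range_comp, Ideal.mem_span_range_iff_exists_fun] at h
  obtain ⟨e, he⟩ := h
  have hrel : ∑ i, (Fin.cons y (fun i => -b i) : Fin (n + 1) → W) i • (Fin.cons c e : Fin (n + 1) → C) i = 0 := by
    rw [Fin.sum_univ_succ]
    simp only [Fin.cons_zero, Fin.cons_succ, Algebra.smul_def, map_neg, neg_mul, Finset.sum_neg_distrib]
    rw [← he, ← sub_eq_add_neg, sub_eq_zero]
    exact Finset.sum_congr rfl fun i _ => mul_comm _ _
  obtain ⟨k, a, v, hv, ha⟩ := Module.Flat.isTrivialRelation_of_sum_smul_eq_zero (R := W) (M := C) hrel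
  have h0 := hv 0
  rw [Fin.cons_zero] at h0
  rw [h0]
  refine Ideal.sum_mem _ fun j _ => ?_
  rw [Algebra.smul_def]
  refine Ideal.mul_mem_right _ _ (Ideal.mem_map_of_mem _ ?_)
  rw [Submodule.mem_colon_singleton, smul_eq_mul, ← hb, Ideal.submodule_span_eq,
    Ideal.mem_span_range_iff_exists_fun]
  refine ⟨fun i => a i.succ j, ?_⟩
  have hj := ha j
  rw [Fin.sum_univ_succ] at hj
  simp only [Fin.cons_zero, Fin.cons_succ, neg_mul, Finset.sum_neg_distrib] at hj
  rw [mul_comm, eq_of_sub_eq_zero (sub_eq_add_neg (y * a 0 j) _ |>.trans hj)]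
  exact Finset.sum_congr rfl fun i _ => mul_comm _ _

theorem nzd_all {W C : Type u} [CommRing W] [CommRing C] [IsNoetherianRing W] [IsNoetherianRing C]
    [IsLocalRing W] [IsLocalRing C] [Algebra W C] [Module.Flat W C] [IsLocalHom (algebraMap W C)]
    (α : C) (h : ∀ z, α * z ∈ (maximalIdeal W).map (algebraMap W C) → z ∈ (maximalIdeal W).map (algebraMap W C)) :
    ∀ (𝔟 : Ideal W) (z : C), α * z ∈ 𝔟.map (algebraMap W C) → z ∈ 𝔟.map (algebraMap W C) := by
  set g := algebraMap W C with hg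
  have step : ∀ (𝔟 : Ideal W), ∀ k, maximalIdeal W ^ k ≤ 𝔟 → ∀ z, α * z ∈ Ideal.map g 𝔟 → z ∈ Ideal.map g 𝔟 := by
    intro 𝔟
    induction 𝔟 using IsNoetherian.induction with
    | hgt 𝔟 ih =>
      intro k hk z hz
      by_cases htop : 𝔟 = ⊤
      · rw [htop, Ideal.map_top]; trivial
      classical
      have hex : ∃ j, maximalIdeal W ^ j ≤ 𝔟 := ⟨k, hk⟩
      obtain ⟨j, hj⟩ : ∃ j, Nat.find hex = j + 1 := by
        refine Nat.exists_eq_succ_of_ne_zero fun h0 => htop ?_
        have := Nat.find_spec hex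
        rwa [h0, pow_zero, Ideal.one_eq_top, top_le_iff] at this
      obtain ⟨y, hy, hy'⟩ := SetLike.not_le_iff_exists.1 (Nat.find_min hex (by rw [hj]; exact Nat.lt_succ_self j))
      have hmy : ∀ c ∈ maximalIdeal W, c * y ∈ 𝔟 := fun c hc => by
        have := Nat.find_spec hex
        rw [hj, pow_succ'] at this
        exact this (Ideal.mul_mem_mul hc hy)
      have hcol : Submodule.colon 𝔟 {y} = maximalIdeal W := by
        refine le_antisymm (le_maximalIdeal fun e => hy' ?_) fun c hc => ?_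
        · have h1 : (1 : W) ∈ Submodule.colon 𝔟 {y} := e ▸ Submodule.mem_top
          rwa [Submodule.mem_colon_singleton, one_smul] at h1
        · rw [Submodule.mem_colon_singleton]; exact hmy c hc
      have hlt : 𝔟 < 𝔟 ⊔ Ideal.span {y} :=
        lt_of_le_of_ne le_sup_left fun e => hy' (e ▸ Submodule.mem_sup_right (Ideal.mem_span_singleton_self y))
      have hz' := ih _ hlt k (hk.trans le_sup_left) z (Ideal.map_mono le_sup_left hz)
      rw [Ideal.map_sup, Ideal.map_span, Set.image_singleton] at hz'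
      obtain ⟨p, hp, q, hq, rfl⟩ := Submodule.mem_sup.1 hz'
      obtain ⟨w, rfl⟩ := Ideal.mem_span_singleton'.1 hq
      have hw : g y * (α * w) ∈ Ideal.map g 𝔟 := by
        have := sub_mem hz (Ideal.mul_mem_left _ α hp)
        convert this using 1
        ring
      have h1 := colon_aux 𝔟 y _ hw
      rw [hcol] at h1
      refine add_mem hp ?_
      have h2 : ∀ c ∈ (maximalIdeal W).map g, c * g y ∈ Ideal.map g 𝔟 := by
        intro c hc
        have : (maximalIdeal W).map g * Ideal.map g (Ideal.span {y}) ≤ Ideal.map g 𝔟 := by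
          rw [← Ideal.map_mul]
          refine Ideal.map_mono (Ideal.mul_le.2 fun c hc d hd => ?_)
          obtain ⟨e, rfl⟩ := Ideal.mem_span_singleton'.1 hd
          rw [mul_left_comm]
          exact Ideal.mul_mem_left 𝔟 _ (hmy c hc)
        exact this (Ideal.mul_mem_mul hc (Ideal.mem_map_of_mem g (Ideal.mem_span_singleton_self y)))
      exact h2 w (h w h1)
  intro 𝔟 z hz
  have hloc : (maximalIdeal W).map g ≤ maximalIdeal C := ((local_hom_TFAE g).out 0 2).mp ‹_›
  have key : Ideal.Quotient.mk (Ideal.map g 𝔟) z ∈ ⨅ k : ℕ, maximalIdeal C ^ k • (⊤ : Submodule C (C ⧸ Ideal.map g 𝔟)) := by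
    refine (Submodule.mem_iInf _).2 fun k => ?_
    have h1 := step (𝔟 ⊔ maximalIdeal W ^ k) k le_sup_right z (Ideal.map_mono le_sup_left hz)
    rw [Ideal.map_sup, Ideal.map_pow] at h1
    obtain ⟨p, hp, q, hq, rfl⟩ := Submodule.mem_sup.1 h1
    rw [map_add, Ideal.Quotient.eq_zero_iff_mem.2 hp, zero_add,
      show Ideal.Quotient.mk (Ideal.map g 𝔟) q = q • (1 : C ⧸ Ideal.map g 𝔟) by
        rw [Algebra.smul_def, mul_one, Ideal.Quotient.algebraMap_eq]]
    exact Submodule.smul_mem_smul (Ideal.pow_right_mono hloc k hq) Submodule.mem_top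
  rw [Ideal.iInf_pow_smul_eq_bot_of_isLocalRing _ (maximalIdeal.isMaximal C).ne_top, Submodule.mem_bot] at key
  exact Ideal.Quotient.eq_zero_iff_mem.1 key

theorem relations_aux {R W C : Type u} [CommRing R] [CommRing W] [CommRing C] [IsDomain R] [IsNoetherianRing R]
    [IsLocalRing R] [Algebra W C] [Module.Flat W C] {I : Ideal R}
    (hI : Good I) (a : R) (ha0 : a ≠ 0) (haI : a ∈ I) (f : R →+* C)
    (hnzd : ∀ (𝔟 : Ideal W) (z : C), f a * z ∈ 𝔟.map (algebraMap W C) → z ∈ 𝔟.map (algebraMap W C))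
    (hnzd0 : ∀ z, f a * z = 0 → z = 0) (xR : R) (xW : W) (hx : algebraMap W C xW = f xR)
    (hxm : xR ∈ maximalIdeal R)
    {l : ℕ} (φ : Fin l → W) (z : Fin l → C ⧸ I.map f) (hz : ∑ i, φ i • z i = 0) :
    ∃ (k l' : ℕ) (α : Fin l → Fin l' → W) (y : Fin l' → C ⧸ I.map f),
      (∀ i, xW ^ k • z i = ∑ j, α i j • y j) ∧ ∀ j, ∑ i, φ i * α i j = 0 := by
  set g := algebraMap W C with hg
  choose zc hzc using fun i => Ideal.Quotient.mk_surjective (z i)
  set P : Ideal R := (Ideal.span {a}).colon (I : Set R) with hPdef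
  have hPmem : ∀ c, c ∈ P ↔ ∀ b ∈ I, a ∣ c * b := fun c => by
    simp only [P, Submodule.mem_colon, smul_eq_mul, Ideal.mem_span_singleton, SetLike.mem_coe]
  set Z : Ideal R := (I * P).colon {a} with hZdef
  have hrad : maximalIdeal R ≤ Z.radical := by
    rw [Ideal.radical_eq_sInf]
    refine le_sInf fun q ⟨hle, hq⟩ => ?_
    by_contra hne
    obtain ⟨β, hβ, s, hs, hgen⟩ := hI.loc q hq fun e => hne e.ge
    obtain ⟨c, hc⟩ := hgen a haI
    have hcP : c ∈ P := (hPmem c).2 fun b hb => by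
      obtain ⟨d, hd⟩ := hgen b hb
      refine ⟨d, mul_left_cancel₀ (fun e => hs (e ▸ q.zero_mem) : s ≠ 0) ?_⟩
      linear_combination c * hd - d * hc
    exact hs (hle (Submodule.mem_colon_singleton.2 (by
      rw [smul_eq_mul, hc, mul_comm c β]; exact Ideal.mul_mem_mul hβ hcP)))
  obtain ⟨k, hk⟩ := Ideal.exists_pow_le_of_le_radical_of_fg hrad (IsNoetherian.noetherian _)
  have hxk : xR ^ k * a ∈ I * P := Submodule.mem_colon_singleton.1 (hk (Ideal.pow_mem_pow hxm k))
  set 𝔞 : Ideal W := Ideal.span (Set.range φ) with h𝔞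
  set z₀ := ∑ i, g (φ i) * zc i with hz₀
  have hz₀I : z₀ ∈ I.map f := by
    rw [← Ideal.Quotient.eq_zero_iff_mem, ← hz, hz₀, map_sum]
    refine Finset.sum_congr rfl fun i _ => ?_
    rw [map_mul, hzc, Algebra.smul_def]
    rfl
  have hz₀a : z₀ ∈ 𝔞.map g := Ideal.sum_mem _ fun i _ =>
    Ideal.mul_mem_right _ _ (Ideal.mem_map_of_mem _ (Ideal.subset_span ⟨i, rfl⟩))
  have key : ∀ e ∈ I * P, f e * z₀ ∈ Ideal.span {f a} * (𝔞.map g * I.map f) := by
    intro e he
    refine Submodule.mul_induction_on he (fun i hi j hj => ?_) (fun u v hu hv => ?_)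
    · have h1 : f j * z₀ ∈ Ideal.span {f a} := by
        have : Ideal.span {j} * I ≤ Ideal.span {a} := Ideal.mul_le.2 fun c hc b hb => by
          obtain ⟨c', rfl⟩ := Ideal.mem_span_singleton'.1 hc
          rw [mul_assoc]
          exact Ideal.mul_mem_left _ _ (Ideal.mem_span_singleton.2 ((hPmem j).1 hj b hb))
        have h2 := Ideal.map_mono (f := f) this
        simp only [Ideal.map_mul, Ideal.map_span, Set.image_singleton] at h2
        exact h2 (Ideal.mul_mem_mul (Ideal.mem_span_singleton_self _) hz₀I)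
      obtain ⟨w, hw⟩ := Ideal.mem_span_singleton'.1 h1
      have hwa : w ∈ 𝔞.map g := hnzd 𝔞 w (by
        rw [mul_comm, hw]; exact Ideal.mul_mem_left _ _ hz₀a)
      have e : f (i * j) * z₀ = f a * (w * f i) := by rw [map_mul, mul_assoc, ← hw]; ring
      rw [e]
      exact Ideal.mul_mem_mul (Ideal.mem_span_singleton_self (f a))
        (Ideal.mul_mem_mul hwa (Ideal.mem_map_of_mem f hi))
    · rw [map_add, add_mul]; exact add_mem hu hv
  obtain ⟨v, hv, hveq⟩ := Ideal.mem_span_singleton_mul.1 (key _ hxk)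
  have hxz : g xW ^ k * z₀ = v := by
    rw [hx, ← map_pow, ← sub_eq_zero]
    refine hnzd0 _ ?_
    rw [mul_sub, hveq, map_mul]
    ring
  rw [h𝔞, Ideal.map_span, ← Set.range_comp, ← smul_eq_mul] at hv
  obtain ⟨w, hw, hvw⟩ := Groth.Calg1.exists_sum_of_mem_span_smul (g ∘ φ) (I.map f) v hv
  have hrel : ∑ i, φ i • (g xW ^ k * zc i - w i) = 0 := by
    have : ∑ i, g (φ i) * (g xW ^ k * zc i) = ∑ i, g (φ i) * w i := by
      simp only [smul_eq_mul, Function.comp_apply] at hvw
      rw [← hvw, ← hxz, hz₀, Finset.mul_sum]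
      exact Finset.sum_congr rfl fun i _ => by ring
    simp only [Algebra.smul_def, mul_sub, Finset.sum_sub_distrib]
    rw [sub_eq_zero]
    exact this
  obtain ⟨l', α, e, he, hα⟩ := Module.Flat.isTrivialRelation_of_sum_smul_eq_zero (R := W) (M := C) hrel
  refine ⟨k, l', α, fun j => Ideal.Quotient.mk _ (e j), fun i => ?_, hα⟩
  have h := congrArg (Ideal.Quotient.mk (I.map f)) (he i)
  rw [map_sub, Ideal.Quotient.eq_zero_iff_mem.2 (hw i), sub_zero, map_mul, hzc, map_pow, map_sum] at h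
  rw [Algebra.smul_def, map_pow]
  refine Eq.trans ?_ (h.trans (Finset.sum_congr rfl fun j _ => ?_))
  · rfl
  · rw [Algebra.smul_def, Algebra.smul_def, map_mul]; rfl

theorem hausdorff_aux {W C : Type u} [CommRing W] [CommRing C] [IsNoetherianRing C] [IsLocalRing W]
    [IsLocalRing C] [Algebra W C] (h : (maximalIdeal W).map (algebraMap W C) ≤ maximalIdeal C)
    (J : Ideal C) : IsHausdorff (maximalIdeal W) (C ⧸ J) := by
  refine ⟨fun x hx => ?_⟩
  have key : x ∈ ⨅ n : ℕ, maximalIdeal C ^ n • (⊤ : Submodule C (C ⧸ J)) := by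
    refine (Submodule.mem_iInf _).2 fun n => ?_
    refine Submodule.smul_induction_on (SModEq.zero.1 (hx n)) (fun c hc y _ => ?_) (fun a b ha hb => add_mem ha hb)
    rw [← algebraMap_smul C c y]
    refine Submodule.smul_mem_smul ?_ Submodule.mem_top
    exact Ideal.pow_right_mono h n (Ideal.map_pow (algebraMap W C) _ n ▸ Ideal.mem_map_of_mem _ hc)
  rw [Ideal.iInf_pow_smul_eq_bot_of_isLocalRing _ (maximalIdeal.isMaximal C).ne_top, Submodule.mem_bot] at key
  exact key

theorem smul_top_mem {W Ĉ : Type u} [CommRing W] [CommRing Ĉ] [Algebra W Ĉ] (𝔞 : Ideal W) (J : Ideal Ĉ)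
    {z : Ĉ} (hz : z ∈ 𝔞.map (algebraMap W Ĉ) ⊔ J) :
    Ideal.Quotient.mk J z ∈ (𝔞 • ⊤ : Submodule W (Ĉ ⧸ J)) := by
  rw [Ideal.smul_top_eq_map, Submodule.restrictScalars_mem]
  obtain ⟨p, hp, q, hq, rfl⟩ := Submodule.mem_sup.1 hz
  rw [map_add, Ideal.Quotient.eq_zero_iff_mem.2 hq, add_zero,
    show algebraMap W (Ĉ ⧸ J) = (Ideal.Quotient.mk J).comp (algebraMap W Ĉ) from rfl, ← Ideal.map_map]
  exact Ideal.mem_map_of_mem _ hp

theorem maximalIdeal_principal (A : Type u) [CommRing A] [IsDomain A] [IsNoetherianRing A] [IsLocalRing A]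
    [IsIntegrallyClosed A] (h : ¬ (2 : WithBot ℕ∞) ≤ ringKrullDim A) :
    ∃ ϖ, maximalIdeal A = Ideal.span {ϖ} := by
  by_cases hf : IsField A
  · exact ⟨0, by rw [IsLocalRing.isField_iff_maximalIdeal_eq.1 hf, Ideal.span_singleton_zero]⟩
  have : Ring.KrullDimLE 1 A := by
    rw [Ring.krullDimLE_iff, ← IsLocalRing.maximalIdeal_height_eq_ringKrullDim]
    rw [← IsLocalRing.maximalIdeal_height_eq_ringKrullDim, not_le] at h
    exact WithBot.coe_le_coe.2 (ENat.lt_coe_add_one_iff.1 (show (maximalIdeal A).height < (1 : ℕ) + 1 by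
      have h' : (maximalIdeal A).height < 2 := WithBot.coe_lt_coe.1 h
      exact_mod_cast h'))
  have huniq : IsIntegrallyClosed A ∧ ∃! P : Ideal A, P ≠ ⊥ ∧ P.IsPrime :=
    ⟨inferInstance, maximalIdeal A, ⟨fun e => hf (IsLocalRing.isField_iff_maximalIdeal_eq.2 e), inferInstance⟩,
      fun P hP => IsLocalRing.eq_maximalIdeal (Ring.krullDimLE_one_iff_of_noZeroDivisors.mp inferInstance P hP.1 hP.2)⟩
  have hpr : (maximalIdeal A).IsPrincipal := ((IsDiscreteValuationRing.TFAE A hf).out 3 4).1 huniq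
  obtain ⟨ϖ, hϖ⟩ := hpr.principal
  exact ⟨ϖ, hϖ⟩

theorem isPrincipal_descend {R C : Type u} [CommRing R] [CommRing C] [IsLocalRing R] [IsLocalRing C]
    (f : R →+* C) [IsLocalHom f] (hf : f.Flat) (I : Ideal R) (η : C)
    (h : I.map f = Ideal.span {η}) (hη : ∀ z, η * z = 0 → z = 0) : I.IsPrincipal := by
  by_cases hex : ∃ b ∈ I, ∃ d, IsUnit d ∧ f b = d * η
  · obtain ⟨b, hb, d, hd, hbd⟩ := hex
    refine ⟨b, ?_⟩
    change I = Ideal.span {b}
    rw [← DescentDivAlg.comap_map_of_flat_local f hf I, ← DescentDivAlg.comap_map_of_flat_local f hf (Ideal.span {b}),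
      h, Ideal.map_span, Set.image_singleton, hbd, Ideal.span_singleton_mul_left_unit hd]
  · exfalso
    have hle : I.map f ≤ maximalIdeal C * Ideal.span {η} := Ideal.map_le_iff_le_comap.2 fun b hb => by
      obtain ⟨d, hd⟩ := Ideal.mem_span_singleton'.1 (h.le (Ideal.mem_map_of_mem f hb))
      rw [Ideal.mem_comap, ← hd]
      exact Ideal.mul_mem_mul (fun hu => hex ⟨b, hb, d, hu, hd.symm⟩) (Ideal.mem_span_singleton_self η)
    rw [h, Ideal.span_singleton_le_iff_mem, Ideal.mem_mul_span_singleton] at hle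
    obtain ⟨e, he, hee⟩ := hle
    exact (isUnit_one_sub_self_of_mem_nonunits e he).ne_zero (hη _ (by linear_combination -hee))

variable {R' R : Type u} [CommRing R'] [CommRing R] [IsDomain R'] [IsDomain R] [IsNoetherianRing R']
  [IsNoetherianRing R] [IsLocalRing R'] [IsLocalRing R] [IsIntegrallyClosed R'] [IsIntegrallyClosed R]
  [Algebra R' R] [Module.Flat R' R] [IsLocalHom (algebraMap R' R)]

set_option maxHeartbeats 800000 in
theorem isPrincipal_aux (r : Ideal R) [hr : r.IsPrime] (hrdef : r = (maximalIdeal R').map (algebraMap R' R))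
    (u : R) (hu : IsUnit u)
    (hspan : ∀ a ∉ r, ∀ z : R, ∃ P : R'[X], z - aeval u P ∈ Ideal.span {a} ⊔ r)
    (hmon : ∀ a ∉ r, ∃ P : R'[X], P.Monic ∧ aeval u P ∈ Ideal.span {a} ⊔ r)
    (hP : ∀ Q : Ideal R, Q.IsPrime → Q.height = 1 → ∀ s : R', s ≠ 0 → algebraMap R' R s ∈ Q → Q ≤ r)
    (I : Ideal R) (hI : Good I) (hIr : ¬ I ≤ r) : I.IsPrincipal := by
  classical
  by_cases htop : I = ⊤
  · exact htop ▸ top_isPrincipal
  obtain ⟨a, haI, har⟩ := SetLike.not_le_iff_exists.1 hIr
  have ha0 : a ≠ 0 := fun e => har (e ▸ r.zero_mem)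
  have hrm : r ≤ maximalIdeal R := le_maximalIdeal hr.ne_top
  have hJm : I ⊔ r ≤ maximalIdeal R := sup_le (le_maximalIdeal htop) hrm
  have haJ : Ideal.span {a} ⊔ r ≤ I ⊔ r :=
    sup_le_sup_right ((Ideal.span_singleton_le_iff_mem _).2 haI) _
  -- the fibre algebra
  have hex : ∃ n, ∃ P : R'[X], P.Monic ∧ P.natDegree = n ∧ aeval u P ∈ I ⊔ r := by
    obtain ⟨P, h1, h2⟩ := hmon a har
    exact ⟨_, P, h1, rfl, haJ h2⟩
  set N := Nat.find hex with hN
  obtain ⟨μ, hμ, hμN, hμJ⟩ := Nat.find_spec hex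
  rw [← hN] at hμN
  have hmin : ∀ P : R'[X], P.Monic → P.natDegree < N → aeval u P ∉ I ⊔ r := fun P h1 h2 h3 =>
    Nat.find_min hex h2 ⟨P, h1, rfl, h3⟩
  have hr_mem : ∀ c ∈ maximalIdeal R', algebraMap R' R c ∈ r := fun c hc =>
    hrdef ▸ Ideal.mem_map_of_mem _ hc
  have hindep : ∀ P : R'[X], (∀ j, N ≤ j → P.coeff j = 0) → aeval u P ∈ I ⊔ r →
      ∀ j, P.coeff j ∈ maximalIdeal R' := by
    intro P hdeg hPJ
    by_contra! hne
    obtain ⟨j, hj⟩ := hne
    have hjN : j < N := by
      by_contra h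
      exact hj (by rw [hdeg j (not_lt.1 h)]; exact Submodule.zero_mem _)
    let S := (Finset.range N).filter fun j => P.coeff j ∉ maximalIdeal R'
    have hS : S.Nonempty := ⟨j, Finset.mem_filter.2 ⟨Finset.mem_range.2 hjN, hj⟩⟩
    set i := S.max' hS with hi
    obtain ⟨hiN, hci⟩ := Finset.mem_filter.1 (S.max'_mem hS)
    rw [← hi, Finset.mem_range] at hiN
    rw [← hi] at hci
    obtain ⟨w, hw⟩ := not_not.1 hci
    let P' : R'[X] := ∑ j ∈ Finset.range i, C (↑w⁻¹ * P.coeff j) * Polynomial.X ^ j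
    have hdeg' : P'.degree < (i : WithBot ℕ) := by
      refine (degree_sum_le _ _).trans_lt ((Finset.sup_lt_iff (WithBot.bot_lt_coe _)).2 fun j hj => ?_)
      exact (degree_C_mul_X_pow_le _ _).trans_lt (WithBot.coe_lt_coe.2 (Finset.mem_range.1 hj))
    have hP'd : (Polynomial.X ^ i + P').natDegree = i := natDegree_eq_of_degree_eq_some (by
      rw [degree_add_eq_left_of_degree_lt (by rwa [degree_X_pow]), degree_X_pow])
    refine hmin _ (monic_X_pow_add hdeg') (hP'd.le.trans_lt hiN) ?_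
    have e1 : aeval u (C (↑w⁻¹ : R') * P) ∈ I ⊔ r := by
      rw [map_mul]; exact Ideal.mul_mem_left _ _ hPJ
    have hd : (C (↑w⁻¹ : R') * P).natDegree < N := by
      refine lt_of_le_of_lt (natDegree_C_mul_le _ _) ?_
      by_contra h
      have := hdeg P.natDegree (not_lt.1 h)
      rw [← Polynomial.leadingCoeff, leadingCoeff_eq_zero] at this
      exact hj (by rw [this, coeff_zero]; exact Submodule.zero_mem _)
    have hhigh : ∑ j ∈ Finset.Ico i.succ N, (C (↑w⁻¹ : R') * P).coeff j • u ^ j ∈ I ⊔ r := by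
      refine Ideal.sum_mem _ fun j hj' => ?_
      rw [coeff_C_mul, Algebra.smul_def]
      refine Ideal.mul_mem_right _ _ (Submodule.mem_sup_right (hr_mem _ (Ideal.mul_mem_left _ _ ?_)))
      by_contra hjm
      rw [Finset.mem_Ico] at hj'
      have hjS : j ∈ S := Finset.mem_filter.2 ⟨Finset.mem_range.2 hj'.2, hjm⟩
      exact absurd (S.le_max' j hjS) (not_le.2 (hi ▸ Nat.lt_of_succ_le hj'.1))
    rw [aeval_eq_sum_range' hd, ← Finset.sum_range_add_sum_Ico _ (Nat.succ_le_of_lt hiN),
      Submodule.add_mem_iff_left _ hhigh] at e1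
    rw [Finset.sum_range_succ, coeff_C_mul, ← hw, Units.inv_mul, one_smul] at e1
    simp only [map_add, map_pow, aeval_X, P', map_sum, map_mul, aeval_C]
    simp only [coeff_C_mul, Algebra.smul_def, map_mul] at e1
    rw [add_comm]
    exact e1
  have hN0 : N ≠ 0 := fun h0 => by
    have h1 : μ = 1 := eq_one_of_monic_natDegree_zero hμ (hμN.trans h0)
    rw [h1, map_one] at hμJ
    exact (maximalIdeal.isMaximal R).ne_top ((Ideal.eq_top_iff_one _).2 (hJm hμJ))
  have hunit : ∀ P : R'[X], P.Monic → P.natDegree = N → aeval u P ∈ I ⊔ r →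
      P.coeff 0 ∉ maximalIdeal R' := by
    intro P hPm hPd hPJ h0
    have e : aeval u P = u * aeval u P.divX + algebraMap R' R (P.coeff 0) := by
      conv_lhs => rw [← X_mul_divX_add P]
      rw [map_add, map_mul, aeval_X, aeval_C]
    rw [e, Submodule.add_mem_iff_left _ (Submodule.mem_sup_right (hr_mem _ h0))] at hPJ
    have hd : P.divX.natDegree = N - 1 := by rw [natDegree_divX_eq_natDegree_tsub_one, hPd]
    refine hmin P.divX ?_ (by omega) ((Ideal.unit_mul_mem_iff_mem _ hu).1 hPJ)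
    rw [Monic, leadingCoeff, hd, coeff_divX, Nat.sub_add_cancel (Nat.pos_of_ne_zero hN0), ← hPd]
    exact hPm
  have hmonJ : ∀ j : Fin N → R', (∑ i, algebraMap R' R (j i) * u ^ (i : ℕ)) ∈ I ⊔ r →
      ∀ i, j i ∈ maximalIdeal R' := by
    intro c hc i
    let P : R'[X] := ∑ i : Fin N, C (c i) * Polynomial.X ^ (i : ℕ)
    have hcoeff : ∀ k, P.coeff k = if h : k < N then c ⟨k, h⟩ else 0 := by
      intro k
      simp only [P, finsetSum_coeff, coeff_C_mul, coeff_X_pow, mul_ite, mul_one, mul_zero]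
      split_ifs with h
      · rw [Finset.sum_eq_single ⟨k, h⟩ (fun b _ hb => if_neg fun e => hb (Fin.ext e.symm)) (by simp)]
        simp
      · exact Finset.sum_eq_zero fun b _ => if_neg fun e => h (by omega)
    have := hindep P (fun k hk => by rw [hcoeff, dif_neg (not_lt.2 hk)]) (by simpa [P] using hc) i
    rwa [hcoeff, dif_pos i.2] at this
  -- completions
  let W := AdicCompletion (maximalIdeal R') R'
  let Ĉ := AdicCompletion (maximalIdeal R) R
  have : IsNoetherianRing W :=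
    Groth.Calg1.isNoetherianRing_adicCompletion _ (IsNoetherian.noetherian _)
  have : IsNoetherianRing Ĉ :=
    Groth.Calg1.isNoetherianRing_adicCompletion _ (IsNoetherian.noetherian _)
  have hle : (maximalIdeal R').map (algebraMap R' R) ≤ maximalIdeal R := hrdef ▸ hrm
  let algWC : Algebra W Ĉ :=
    (Groth.PropsBasic.GRingLocal.cplMap (maximalIdeal R') (maximalIdeal R) (algebraMap R' R) hle).toAlgebra
  have : IsScalarTower R' W Ĉ := IsScalarTower.of_algebraMap_eq fun c => by
    rw [IsScalarTower.algebraMap_apply R' R Ĉ]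
    exact (Groth.Calg4.cplMap_algebraMap (maximalIdeal R') (maximalIdeal R) (algebraMap R' R) hle c).symm
  have : Module.Flat R' Ĉ := Module.Flat.trans R' R Ĉ
  have : IsLocalHom (algebraMap R' Ĉ) := by
    rw [IsScalarTower.algebraMap_eq R' R Ĉ]; infer_instance
  have hWC : Module.FaithfullyFlat W Ĉ := Groth.Calg4.faithfullyFlat_completion_of_flat R' Ĉ
  set f := algebraMap R Ĉ with hf
  set g := algebraMap W Ĉ with hg
  set ι := algebraMap R' W with hι
  have hfg : ∀ c : R', g (ι c) = f (algebraMap R' R c) := fun c => by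
    rw [hg, hι, hf, ← IsScalarTower.algebraMap_apply, ← IsScalarTower.algebraMap_apply]
  have hflatR : f.Flat := RingHom.flat_algebraMap_iff.2 inferInstance
  have hmW : maximalIdeal W = (maximalIdeal R').map ι := AdicCompletion.maximalIdeal_eq_map
  have hmC : maximalIdeal Ĉ = (maximalIdeal R).map f := AdicCompletion.maximalIdeal_eq_map
  have hmWC : (maximalIdeal W).map g = r.map f := by
    rw [hmW, Ideal.map_map, hrdef, Ideal.map_map]
    exact congrArg (fun h => Ideal.map h _) (RingHom.ext hfg)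
  -- `a` is a nonzerodivisor on all fibres
  have hnzd : ∀ 𝔟 : Ideal W, ∀ z, f a * z ∈ 𝔟.map g → z ∈ 𝔟.map g := by
    intro 𝔟 z hz
    exact nzd_all (f a) (fun z hz => by
      rw [hmWC] at hz ⊢
      exact DescentDivAlg.colon_map_of_flat f hflatR r (fun c hc => (hr.mem_or_mem hc).resolve_left har) hz)
      𝔟 z hz
  have hnzd0 : ∀ z, f a * z = 0 → z = 0 := fun z hz => by
    simpa using hnzd ⊥ z (by simp [hz])
  set IC := I.map f with hIC
  have hsat : ∀ s : R', s ≠ 0 → ∀ z, g (ι s) * z ∈ IC → z ∈ IC := by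
    intro s hs z hz
    rw [hfg] at hz
    refine DescentDivAlg.colon_map_of_flat f hflatR I (fun c hc => ?_) hz
    by_contra hcI
    obtain ⟨Q, hQp, hQ1, hIQ, hsQ⟩ := hI.exists_height_one hcI hc
    exact hIr (hIQ.trans (hP Q hQp hQ1 s hs hsQ))
  -- the surjection
  let uC := f u
  let M := Ĉ ⧸ IC
  let p : (Fin N → W) →ₗ[W] M := Fintype.linearCombination W fun i => Ideal.Quotient.mk IC (uC ^ (i : ℕ))
  have hp_apply : ∀ v, p v = Ideal.Quotient.mk IC (∑ i, g (v i) * uC ^ (i : ℕ)) := fun v => by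
    simp only [p, Fintype.linearCombination_apply, map_sum]
    exact Finset.sum_congr rfl fun i _ => by rw [Algebra.smul_def, map_mul]; rfl
  have hspanJ : ∀ z : R, ∃ c : Fin N → R', z - ∑ i, algebraMap R' R (c i) * u ^ (i : ℕ) ∈ I ⊔ r := by
    intro z
    obtain ⟨P, hP'⟩ := hspan a har z
    refine ⟨fun i => (P %ₘ μ).coeff i, ?_⟩
    have e : aeval u (P %ₘ μ) = ∑ i : Fin N, algebraMap R' R ((P %ₘ μ).coeff i) * u ^ (i : ℕ) := by
      have hd : (P %ₘ μ).natDegree < N := hμN ▸ natDegree_modByMonic_lt P hμ fun h => by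
        rw [h, natDegree_one] at hμN; exact hN0 hμN.symm
      rw [aeval_eq_sum_range' hd, Finset.sum_range]
      simp only [Algebra.smul_def]
    rw [← e]
    simpa using Submodule.add_mem _ (haJ hP') (sub_aeval_modByMonic_mem (I ⊔ r) u hμ hμJ P)
  have hpow : ∀ J : Ideal R, (∃ c ∈ J, c ∉ r) → ∃ K, maximalIdeal R ^ K ≤ J ⊔ r := by
    rintro J ⟨c, hc, hcr⟩
    refine Ideal.exists_pow_le_of_le_radical_of_fg ?_ (IsNoetherian.noetherian _)
    rw [Ideal.radical_eq_sInf]
    refine le_sInf fun P ⟨hle', hPp⟩ => ?_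
    refine (IsLocalRing.eq_maximalIdeal (?_ : P.IsMaximal)).ge
    obtain ⟨ν, hν, hνJ⟩ := hmon c hcr
    have hcP : Ideal.span {c} ⊔ r ≤ P :=
      sup_le ((Ideal.span_singleton_le_iff_mem _).2 (hle' (Submodule.mem_sup_left hc))) (le_sup_right.trans hle')
    have : Algebra.IsIntegral R' (R ⧸ P) := ⟨fun z => by
      obtain ⟨z, rfl⟩ := Ideal.Quotient.mk_surjective z
      obtain ⟨P', hP'⟩ := hspan c hcr z
      have huI : IsIntegral R' (Ideal.Quotient.mkₐ R' P u) := ⟨ν, hν, by
        rw [← aeval_def, aeval_algHom_apply]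
        exact Ideal.Quotient.eq_zero_iff_mem.2 (hcP hνJ)⟩
      rw [show Ideal.Quotient.mk P z = aeval (Ideal.Quotient.mkₐ R' P u) P' by
        rw [aeval_algHom_apply]; exact Ideal.Quotient.eq.2 (hcP hP')]
      exact (Algebra.adjoin_le (S := integralClosure R' (R ⧸ P)) (Set.singleton_subset_iff.2 huI)
        (aeval_mem_adjoin_singleton R' _) : _)⟩
    have hcm : (⊥ : Ideal (R ⧸ P)).comap (algebraMap R' (R ⧸ P)) = maximalIdeal R' := by
      refine ((maximalIdeal.isMaximal R').eq_of_le (Ideal.comap_ne_top _ bot_ne_top) fun s hs => ?_).symm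
      rw [Ideal.mem_comap, Submodule.mem_bot]
      exact Ideal.Quotient.eq_zero_iff_mem.2 (hcP (Submodule.mem_sup_right (hr_mem _ hs)))
    have := Ideal.isMaximal_of_isIntegral_of_isMaximal_comap (R := R') (⊥ : Ideal (R ⧸ P))
      (hcm ▸ maximalIdeal.isMaximal R')
    exact (Ideal.bot_quotient_isMaximal_iff P).1 this
  have hsurj : ∀ (J : Ideal R) (n : ℕ) (K : ℕ), maximalIdeal R ^ K ≤ J ⊔ r → J ≠ ⊤ →
      (∀ z : R, ∃ c : Fin n → R', z - ∑ i, algebraMap R' R (c i) * u ^ (i : ℕ) ∈ J ⊔ r) →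
      ∀ z : Ĉ, ∃ v : Fin n → W, z - ∑ i, g (v i) * uC ^ (i : ℕ) ∈ J.map f := by
    intro J n K hK hJ hJs z
    let q : (Fin n → W) →ₗ[W] Ĉ ⧸ J.map f :=
      Fintype.linearCombination W fun i => Ideal.Quotient.mk (J.map f) (uC ^ (i : ℕ))
    have hq : ∀ v, q v = Ideal.Quotient.mk (J.map f) (∑ i, g (v i) * uC ^ (i : ℕ)) := fun v => by
      simp only [q, Fintype.linearCombination_apply, map_sum]
      exact Finset.sum_congr rfl fun i _ => by rw [Algebra.smul_def, map_mul]; rfl
    have : IsPrecomplete (maximalIdeal W) (Fin n → W) := Groth.Calg1.isPrecomplete_pi _ n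
    have : IsHausdorff (maximalIdeal W) (Ĉ ⧸ J.map f) := hausdorff_aux (hmWC ▸ hmC ▸ Ideal.map_mono hrm) _
    suffices hs : Function.Surjective q by
      obtain ⟨v, hv⟩ := hs (Ideal.Quotient.mk _ z)
      exact ⟨v, Ideal.Quotient.eq.1 (hv.symm.trans (hq v))⟩
    refine surjective_of_mkQ_comp_surjective (I := maximalIdeal W) fun x => ?_
    obtain ⟨x, rfl⟩ := Submodule.Quotient.mk_surjective _ x
    obtain ⟨y, rfl⟩ := Ideal.Quotient.mk_surjective x
    obtain ⟨y₀, hy₀⟩ := Groth.AdicLinTop.CompletionQuot.exists_sub_mem (maximalIdeal R) (IsNoetherian.noetherian _) K y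
    obtain ⟨c, hc⟩ := hJs y₀
    refine ⟨fun i => ι (c i), (Submodule.Quotient.eq _).2 ?_⟩
    rw [hq, ← map_sub]
    refine smul_top_mem (maximalIdeal W) (J.map f) (Ĉ := Ĉ) ?_
    change _ ∈ (maximalIdeal W).map g ⊔ J.map f
    rw [hmWC, sup_comm, ← Ideal.map_sup]
    have h1 := neg_mem (Ideal.mem_map_of_mem f hc)
    have h2 : y - f y₀ ∈ (J ⊔ r).map f := by
      rw [← Ideal.map_pow] at hy₀
      exact Ideal.map_mono hK hy₀
    have := sub_mem h1 h2
    convert this using 1
    simp only [map_sub, map_sum, map_mul, map_pow, hfg, uC]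
    ring
  obtain ⟨K, hK⟩ := hpow I ⟨a, haI, har⟩
  have hp : Function.Surjective p := fun m => by
    obtain ⟨z, rfl⟩ := Ideal.Quotient.mk_surjective m
    obtain ⟨v, hv⟩ := hsurj I N K hK htop hspanJ z
    exact ⟨v, ((hp_apply v).trans (Ideal.Quotient.eq.2 (neg_sub z _ ▸ neg_mem hv)))⟩
  have hICr : ∀ z : R, f z ∈ IC ⊔ r.map f → z ∈ I ⊔ r := fun z hz => by
    rw [← DescentDivAlg.comap_map_of_flat_local f hflatR (I ⊔ r), Ideal.mem_comap, Ideal.map_sup]
    exact hz
  have hminW : ∀ v, p v = 0 → ∀ i, v i ∈ maximalIdeal W := by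
    intro v hv
    rw [hp_apply, Ideal.Quotient.eq_zero_iff_mem] at hv
    choose c hc using fun i => Groth.AdicLinTop.CompletionQuot.exists_sub_mem (maximalIdeal R') (IsNoetherian.noetherian _) 1 (v i)
    have hc' : ∀ i, v i - ι (c i) ∈ maximalIdeal W := fun i => by rw [hmW]; simpa using hc i
    have := hmonJ c (hICr _ ?_)
    · intro i
      have h1 : ι (c i) ∈ maximalIdeal W := hmW ▸ Ideal.mem_map_of_mem _ (this i)
      simpa using add_mem (hc' i) h1
    rw [show f (∑ i, algebraMap R' R (c i) * u ^ (i : ℕ)) = (∑ i, g (v i) * uC ^ (i : ℕ)) -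
        ∑ i, g (v i - ι (c i)) * uC ^ (i : ℕ) by
      simp only [map_sum, map_mul, map_pow, map_sub, sub_mul, Finset.sum_sub_distrib, hfg, uC]; ring]
    refine sub_mem (Submodule.mem_sup_left hv) (Submodule.mem_sup_right (Ideal.sum_mem _ fun i _ => ?_))
    rw [← hmWC]
    exact Ideal.mul_mem_right _ _ (Ideal.mem_map_of_mem _ (hc' i))
  have hpinj : Function.Injective p := by
    by_cases hd2 : (2 : WithBot ℕ∞) ≤ ringKrullDim R'
    · obtain ⟨x, y, hxm, hym, hxy⟩ := exists_pair_of_normal R' hd2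
      have hflatW : ι.Flat := RingHom.flat_algebraMap_iff.2 inferInstance
      obtain ⟨hx1, hxy1⟩ := DescentDivAlg.regular_pair_map ι hflatW hxy
      obtain ⟨hxR, -⟩ := DescentDivAlg.regular_pair_map (RingHom.id R') (RingHom.Flat.id R') hxy
      have hx0 : x ≠ 0 := fun e => one_ne_zero (hxR 1 (by simp [e]))
      have hy0 : y ≠ 0 := fun e => by
        have := hxy1 1 (by rw [e]; simp)
        exact (maximalIdeal.isMaximal W).ne_top
          (Ideal.eq_top_of_isUnit_mem _ (hmW ▸ Ideal.mem_map_of_mem ι hxm) (isUnit_of_dvd_one this))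
      have hy1 : ∀ z, ι y * z = 0 → z = 0 := fun z hz => by
        have h1 : IsSMulRegular R' y := fun b c h => mul_left_cancel₀ hy0 h
        have h2 := h1.of_flat (S := W)
        exact h2 (by simpa [smul_eq_mul] using hz)
      have hrel : ∀ x₀ ∈ maximalIdeal R', x₀ ≠ 0 → ∀ {l : ℕ} (φ : Fin l → W) (z : Fin l → M),
          ∑ i, φ i • z i = 0 → ∃ (k l' : ℕ) (α : Fin l → Fin l' → W) (y : Fin l' → M),
            (∀ i, (ι x₀) ^ k • z i = ∑ j, α i j • y j) ∧ ∀ j, ∑ i, φ i * α i j = 0 := by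
        intro x₀ hx₀ hx₀0 l φ z hz
        exact relations_aux hI a ha0 haI f hnzd hnzd0 (algebraMap R' R x₀) (ι x₀) (hfg x₀)
          (hle (Ideal.mem_map_of_mem _ hx₀)) φ z hz
      obtain ⟨ka, σ, hσ⟩ := CharGlue.exists_split (ι x) p hp fun φ z h => hrel x hxm hx0 φ z h
      obtain ⟨kb, σ', hσ'⟩ := CharGlue.exists_split (ι y) p hp fun φ z h => hrel y hym hy0 φ z h
      let uM : M →ₗ[W] M := LinearMap.mulLeft W (Ideal.Quotient.mk IC uC)
      refine CharGlue.injective_of_sections p hp uM hx1 hy1 hxy1 (fun m hm => ?_) σ σ' hσ hσ' ?_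
      · obtain ⟨m, rfl⟩ := Ideal.Quotient.mk_surjective m
        rw [Algebra.smul_def, show algebraMap W M (ι x) = Ideal.Quotient.mk IC (g (ι x)) from rfl,
          ← map_mul, Ideal.Quotient.eq_zero_iff_mem] at hm
        exact Ideal.Quotient.eq_zero_iff_mem.2 (hsat x hx0 m hm)
      · intro χ hχm hχd hχ0
        by_contra hnu
        have h1 := LinearMap.congr_fun hχ0 (Ideal.Quotient.mk IC 1)
        rw [pow_mulLeft_eq, map_one, mul_one, LinearMap.zero_apply,
          show Ideal.Quotient.mk IC uC = Ideal.Quotient.mkₐ W IC uC from rfl, aeval_algHom_apply] at h1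
        have h2 : aeval uC χ ∈ IC := Ideal.Quotient.eq_zero_iff_mem.1 h1
        choose c hc using fun i : Fin N => Groth.AdicLinTop.CompletionQuot.exists_sub_mem
          (maximalIdeal R') (IsNoetherian.noetherian _) 1 (χ.coeff i)
        let P' : R'[X] := ∑ i : Fin N, C (c i) * Polynomial.X ^ (i : ℕ)
        have hP'd : P'.degree < (N : WithBot ℕ) := by
          refine (degree_sum_le _ _).trans_lt ((Finset.sup_lt_iff (WithBot.bot_lt_coe _)).2 fun j _ => ?_)
          exact (degree_C_mul_X_pow_le _ _).trans_lt (WithBot.coe_lt_coe.2 j.2)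
        have hPd : (Polynomial.X ^ N + P').natDegree = N := natDegree_eq_of_degree_eq_some (by
          rw [degree_add_eq_left_of_degree_lt (by rwa [degree_X_pow]), degree_X_pow])
        refine hunit _ (monic_X_pow_add hP'd) hPd (hICr _ ?_) ?_
        · have hχs : aeval uC χ = uC ^ N + ∑ i : Fin N, g (χ.coeff i) * uC ^ (i : ℕ) := by
            conv_lhs => rw [hχm.as_sum]
            rw [hχd, map_add, map_pow, aeval_X, map_sum, Finset.sum_range]
            simp only [map_mul, aeval_C, map_pow, aeval_X]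
            rfl
          rw [show f (aeval u (Polynomial.X ^ N + P')) = aeval uC χ -
              ∑ i : Fin N, g (χ.coeff i - ι (c i)) * uC ^ (i : ℕ) by
            rw [hχs]
            simp only [map_add, map_pow, aeval_X, P', map_sum, map_mul, aeval_C, map_sub, sub_mul,
              Finset.sum_sub_distrib, hfg, uC]
            ring]
          refine sub_mem (Submodule.mem_sup_left h2) (Submodule.mem_sup_right (Ideal.sum_mem _ fun i _ => ?_))
          rw [← hmWC]
          exact Ideal.mul_mem_right _ _ (Ideal.mem_map_of_mem _ (by rw [hmW]; simpa using hc i))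
        · have h0 : (⟨0, Nat.pos_of_ne_zero hN0⟩ : Fin N).1 = 0 := rfl
          rw [coeff_add, coeff_X_pow, if_neg (Ne.symm hN0), zero_add,
            show P'.coeff 0 = c ⟨0, Nat.pos_of_ne_zero hN0⟩ by
              simp only [P', finsetSum_coeff, coeff_C_mul, coeff_X_pow, mul_ite, mul_one, mul_zero]
              rw [Finset.sum_eq_single ⟨0, Nat.pos_of_ne_zero hN0⟩
                (fun b _ hb => if_neg fun e => hb (Fin.ext e.symm)) (by simp)]
              simp]
          by_contra hc0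
          refine hnu ?_
          have h3 := hc ⟨0, Nat.pos_of_ne_zero hN0⟩
          rw [pow_one, ← hmW] at h3
          by_contra hnu'
          have h4 := sub_mem (show χ.coeff 0 ∈ maximalIdeal W from hnu') h3
          rw [sub_sub_cancel] at h4
          exact hc0 ((mem_maximalIdeal _).2 fun hcu => h4 (hcu.map ι))
    · obtain ⟨ϖ, hϖ⟩ := maximalIdeal_principal R' hd2
      refine CharGlue.injective_of_principal_maximal (ϖ := ι ϖ) (hmW.trans ((congrArg (Ideal.map ι) hϖ).trans (by rw [Ideal.map_span, Set.image_singleton]))) p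
        (fun m h0 hm => ?_) hminW
      obtain ⟨m, rfl⟩ := Ideal.Quotient.mk_surjective m
      rw [Algebra.smul_def, show algebraMap W M (ι ϖ) = Ideal.Quotient.mk IC (g (ι ϖ)) from rfl,
        ← map_mul, Ideal.Quotient.eq_zero_iff_mem] at hm
      exact Ideal.Quotient.eq_zero_iff_mem.2 (hsat ϖ (fun e => h0 (by rw [e, map_zero])) m hm)
  -- `IC` is principal
  obtain ⟨v, hv⟩ := hp (Ideal.Quotient.mk IC (uC ^ N))
  rw [hp_apply, Ideal.Quotient.eq] at hv
  let χ : W[X] := Polynomial.X ^ N - ∑ i : Fin N, C (v i) * Polynomial.X ^ (i : ℕ)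
  set η := aeval uC χ with hη
  have hηI : η ∈ IC := by
    have := neg_mem hv
    rw [neg_sub] at this
    simpa [hη, χ] using this
  have hχm : χ.Monic := monic_X_pow_sub
    ((degree_sum_le _ _).trans_lt ((Finset.sup_lt_iff (WithBot.bot_lt_coe _)).2 fun i _ =>
      (degree_C_mul_X_pow_le _ _).trans_lt (WithBot.coe_lt_coe.2 i.2)))
  have hχd : χ.natDegree = N := natDegree_eq_of_degree_eq_some (by
    rw [degree_sub_eq_left_of_degree_lt, degree_X_pow]
    rw [degree_X_pow]
    exact (degree_sum_le _ _).trans_lt ((Finset.sup_lt_iff (WithBot.bot_lt_coe _)).2 fun i _ =>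
      (degree_C_mul_X_pow_le _ _).trans_lt (WithBot.coe_lt_coe.2 i.2)))
  have haa : a * a ∉ r := fun h => (hr.mem_or_mem h).elim har har
  obtain ⟨ν, hν, hνJ⟩ := hmon (a * a) haa
  obtain ⟨K', hK'⟩ := hpow (Ideal.span {a * a}) ⟨_, Ideal.mem_span_singleton_self _, haa⟩
  have haam : Ideal.span {a * a} ≠ ⊤ := fun e => htop (top_le_iff.1 (e.symm.trans_le
    ((Ideal.span_singleton_le_iff_mem _).2 (I.mul_mem_left _ haI))))
  have hspan' : ∀ z : R, ∃ c : Fin (ν.natDegree + 1) → R',
      z - ∑ i, algebraMap R' R (c i) * u ^ (i : ℕ) ∈ Ideal.span {a * a} ⊔ r := by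
    intro z
    obtain ⟨P, hP'⟩ := hspan _ haa z
    refine ⟨fun i => (P %ₘ ν).coeff i, ?_⟩
    have e : aeval u (P %ₘ ν) = ∑ i : Fin (ν.natDegree + 1), algebraMap R' R ((P %ₘ ν).coeff i) * u ^ (i : ℕ) := by
      rw [aeval_eq_sum_range' (Nat.lt_succ_of_le (natDegree_modByMonic_le P hν)), Finset.sum_range]
      simp only [Algebra.smul_def]
    rw [← e]
    simpa using Submodule.add_mem _ hP' (sub_aeval_modByMonic_mem _ u hν hνJ P)
  have hICη : IC = Ideal.span {η} := by
    have hle' : IC ≤ Ideal.span {η} ⊔ (Ideal.span {a * a}).map f := by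
      intro z hz
      obtain ⟨w, hw⟩ := hsurj _ _ K' hK' haam hspan' z
      let P : W[X] := ∑ i : Fin (ν.natDegree + 1), C (w i) * Polynomial.X ^ (i : ℕ)
      have hPz : z - aeval uC P ∈ (Ideal.span {a * a}).map f := by simpa [P] using hw
      have hrem : P %ₘ χ = 0 := by
        have h1 : aeval uC (P %ₘ χ) ∈ IC := by
          have h2 : aeval uC P ∈ IC := by
            have := sub_mem hz (Ideal.map_mono ((Ideal.span_singleton_le_iff_mem _).2 (I.mul_mem_left _ haI)) hPz)
            rwa [sub_sub_cancel] at this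
          have := sub_mem h2 (sub_aeval_modByMonic_mem IC uC hχm hηI P)
          rwa [sub_sub_cancel] at this
        have hd : (P %ₘ χ).natDegree < N := hχd ▸ natDegree_modByMonic_lt P hχm fun h => by
          rw [h, natDegree_one] at hχd; exact hN0 hχd.symm
        have h3 : p (fun i => (P %ₘ χ).coeff i) = 0 := by
          rw [hp_apply, Ideal.Quotient.eq_zero_iff_mem]
          rw [aeval_eq_sum_range' hd, Finset.sum_range] at h1
          simpa [Algebra.smul_def] using h1
        have h4 := hpinj (h3.trans (map_zero p).symm)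
        refine Polynomial.ext fun j => ?_
        rw [coeff_zero]
        by_cases hj : j < N
        · simpa using congrFun h4 ⟨j, hj⟩
        · exact coeff_eq_zero_of_natDegree_lt (hd.trans_le (not_lt.1 hj))
      have h5 := sub_aeval_modByMonic_mem (Ideal.span {η}) uC hχm (Ideal.mem_span_singleton_self η) P
      rw [hrem, map_zero, sub_zero] at h5
      exact sub_add_cancel z (aeval uC P) ▸ add_mem (Submodule.mem_sup_right hPz) (Submodule.mem_sup_left h5)
    have hfa : f a ∈ Ideal.span {η} := by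
      have := hle' (Ideal.mem_map_of_mem f haI)
      rw [Ideal.map_span, Set.image_singleton, map_mul, ← Ideal.span_insert, Ideal.mem_span_pair] at this
      obtain ⟨b, c, hbc⟩ := this
      have hu1 : IsUnit (1 - c * f a) := isUnit_one_sub_self_of_mem_nonunits _
        (Ideal.mul_mem_left _ _ (hmC ▸ Ideal.mem_map_of_mem f (le_maximalIdeal htop haI)))
      rw [← Ideal.unit_mul_mem_iff_mem _ hu1]
      exact Ideal.mem_span_singleton'.2 ⟨b, by linear_combination hbc⟩
    refine le_antisymm (hle'.trans (sup_le le_rfl ?_)) ((Ideal.span_singleton_le_iff_mem _).2 hηI)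
    rw [Ideal.map_span, Set.image_singleton, Ideal.span_singleton_le_iff_mem, map_mul]
    exact Ideal.mul_mem_left _ _ hfa
  exact isPrincipal_descend f hflatR I η hICη fun z hz => by
    obtain ⟨e, he⟩ := Ideal.mem_span_singleton'.1 (hICη.le (Ideal.mem_map_of_mem f haI))
    exact hnzd0 z (by rw [← he, mul_assoc, hz, mul_zero])

/-- A flat local algebra with one-dimensional fibre generated by one element is parafactorial. -/
theorem isParafactorial (hdim : (2 : WithBot ℕ∞) ≤ ringKrullDim R) (r : Ideal R) [r.IsPrime]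
    (hrdef : r = (maximalIdeal R').map (algebraMap R' R)) (hrm : r ≠ maximalIdeal R) (t : R)
    (hspan : ∀ a ∉ r, ∀ z : R, ∃ P : R'[X], z - aeval t P ∈ Ideal.span {a} ⊔ r)
    (hmon : ∀ a ∉ r, ∃ P : R'[X], P.Monic ∧ aeval t P ∈ Ideal.span {a} ⊔ r)
    (hP : ∀ Q : Ideal R, Q.IsPrime → Q.height = 1 → ∀ s : R', s ≠ 0 → algebraMap R' R s ∈ Q → Q ≤ r) :
    ParaF.IsParafactorialLocalRing R := by
  refine isParafactorial_of_good hdim fun I hI => ?_
  obtain ⟨I', hI', hI'r, himp⟩ := hI.exists_not_le hdim r hrm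
  refine himp ?_
  rcases IsLocalRing.isUnit_or_isUnit_of_add_one (show t + (1 - t) = 1 by ring) with h | h
  · exact isPrincipal_aux r hrdef t h hspan hmon hP I' hI' hI'r
  · refine isPrincipal_aux r hrdef (t - algebraMap R' R 1) ?_
      (fun a ha => (exists_shift _ t 1 (hspan a ha) (hmon a ha)).1)
      (fun a ha => (exists_shift _ t 1 (hspan a ha) (hmon a ha)).2) hP I' hI' hI'r
    rw [map_one, ← neg_sub]
    exact h.neg

end Groth.ParaFormal.FibreCurve
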