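/-
Functions on basic opens of the punctured spectrum, without integrality assumptions.
-/
import Groth.Agent.ParaFormal.GoodIdeal
import Groth.Agent.ParaFormal.CharGlue
import Groth.Agent.Calg1.SerreConditions

set_option autoImplicit false
universe u

open CategoryTheory AlgebraicGeometry TopologicalSpace IsLocalRing Groth.PicAux

namespace Groth.ParaFormal

variable {R : Type u} [CommRing R] [IsLocalRing R]

local notation "U" => FEt.puncturedSpec R
/-- The basic open of an element in the punctured spectrum. -/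
noncomputable abbrev pD (g : R) : (U : Scheme.{u}).Opens := (U : Scheme.{u}).basicOpen (phi U ⊤ g)

theorem basicOpen_phi_mul (g h : R) : (pD (g * h)) = (pD g) ⊓ (pD h) := by
  rw [pD, map_mul, Scheme.basicOpen_mul]

theorem exists_pow_mul_eq_zero {g a : R} (hg : g ∈ maximalIdeal R) (h : phi U (pD g) a = 0) :
    ∃ n : ℕ, g ^ n * a = 0 := by
  let S := Spec (CommRingCat.of R)
  let W := pD g
  have heq : (U).ι ''ᵁ W = PrimeSpectrum.basicOpen g := by
    apply TopologicalSpace.Opens.ext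
    ext z
    constructor
    · rintro ⟨z, hz, rfl⟩
      exact (mem_basicOpen_phi_iff (V := ⊤) trivial g).1 hz
    · intro hz
      have hzU : z ∈ U := fun hc => hz (by rw [show z = closedPoint R from hc]; exact hg)
      exact ⟨⟨z, hzU⟩, (mem_basicOpen_phi_iff (V := ⊤) trivial g).2 hz, rfl⟩
  have aux : ∀ (O₁ O₂ : S.Opens) (e : O₁ = O₂) (b : Γ(S, ⊤)),
      resX S (le_top : O₁ ≤ ⊤) b = 0 → resX S (le_top : O₂ ≤ ⊤) b = 0 := by
    intro O₁ O₂ e b hb
    subst e
    exact hb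
  have h0 : algebraMap R ((Spec.structureSheaf R).obj.obj (Opposite.op (PrimeSpectrum.basicOpen g))) a = 0 := by
    refine aux _ _ heq ((Scheme.ΓSpecIso (CommRingCat.of R)).inv a) ?_
    rw [← phi_top_eq W a]
    exact h
  obtain ⟨⟨_, n, rfl⟩, hm⟩ := (IsLocalization.map_eq_zero_iff (Submonoid.powers g) _ a).1 h0
  exact ⟨n, hm⟩

theorem exists_pow_mul_eq {g a b : R} (hg : g ∈ maximalIdeal R) (h : phi U (pD g) a = phi U (pD g) b) :
    ∃ n : ℕ, g ^ n * a = g ^ n * b := by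
  obtain ⟨n, hn⟩ := exists_pow_mul_eq_zero (a := a - b) hg (by rw [map_sub, h, sub_self])
  exact ⟨n, by rwa [mul_sub, sub_eq_zero] at hn⟩

theorem isUnit_phi_self (g : R) {V : (U : Scheme.{u}).Opens} (hV : V ≤ pD g) : IsUnit (phi U V g) :=
  isUnit_phi fun z hz => (mem_basicOpen_phi_iff (V := ⊤) trivial g).1 (hV hz)

/-- A nonzerodivisor stays one on a basic open. -/
theorem nzd_phi {g b : R} (hg : g ∈ maximalIdeal R) (hb : ∀ z, b * z = 0 → z = 0)
    (x : Γ((U : Scheme.{u}), pD g)) (h : phi U _ b * x = 0) : x = 0 := by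
  obtain ⟨k, e, he⟩ := exists_num (x := x) hg
  have hu := (isUnit_phi_self g (le_refl (pD g))).pow k
  rw [← map_pow] at hu
  obtain ⟨n, hn⟩ := exists_pow_mul_eq_zero (a := b * e) hg (by
    rw [map_mul, ← he, mul_left_comm, h, mul_zero])
  refine hu.mul_right_eq_zero.1 ?_
  have hu' := (isUnit_phi_self g (le_refl (pD g))).pow n
  rw [← map_pow] at hu'
  rw [he]
  refine hu'.mul_right_eq_zero.1 ?_
  rw [← map_mul, hb (g ^ n * e) (by rw [← hn]; ring), map_zero]

/-- Restriction to the locus where a nonzerodivisor is invertible is injective. -/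
theorem eq_zero_of_res {g h : R} (hg : g ∈ maximalIdeal R) (hh : ∀ z, h * z = 0 → z = 0)
    (x : Γ((U : Scheme.{u}), pD g)) {O : (U : Scheme.{u}).Opens} (hO : O = pD (g * h)) (hle : O ≤ pD g)
    (h0 : resX _ hle x = 0) : x = 0 := by
  subst hO
  obtain ⟨k, e, he⟩ := exists_num (x := x) hg
  have h1 := congrArg (resX _ hle) he
  rw [map_mul, h0, mul_zero, resX_phi] at h1
  obtain ⟨n, hn⟩ := exists_pow_mul_eq_zero (Ideal.mul_mem_right _ _ hg) h1.symm
  rw [mul_pow, mul_comm (g ^ n), mul_assoc] at hn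
  have hu := (isUnit_phi_self g (le_refl (pD g))).pow k
  have hu' := (isUnit_phi_self g (le_refl (pD g))).pow n
  rw [← map_pow] at hu hu'
  refine hu.mul_right_eq_zero.1 (he.trans (hu'.mul_right_eq_zero.1 ?_))
  rw [← map_mul, CharGlue.nzd_pow hh n _ hn, map_zero]

theorem exists_pair [IsNoetherianRing R] (hd : (2 : ℕ∞) ≤ LocCoh.depth R R) :
    ∃ x y : R, x ∈ maximalIdeal R ∧ y ∈ maximalIdeal R ∧ (∀ z, x * z = 0 → z = 0) ∧
      (∀ z, y * z = 0 → z = 0) ∧ ∀ z, x ∣ y * z → x ∣ z := by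
  have hIM : maximalIdeal R • (⊤ : Submodule R R) ≠ ⊤ :=
    Groth.LocCohBase.smul_maximalIdeal_ne_top R (maximalIdeal.isMaximal R).ne_top
  obtain ⟨x, hxm, hx⟩ := Groth.LocCohBase.exists_regular_of_one_le hIM (le_trans (by norm_num) hd)
  have hd1 : ((1 : ℕ) : ℕ∞) ≤ LocCoh.idealDepth (maximalIdeal R) (QuotSMulTop x R) := by
    rw [LocCoh.depth, ← Groth.LocCohBase.idealDepth_quotSMulTop_add_one _ R hIM hxm hx] at hd
    exact (ENat.add_le_add_iff_right ENat.one_ne_top).1 (le_trans (by norm_num) hd)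
  obtain ⟨y, hym, hy⟩ := Groth.LocCohBase.exists_regular_of_one_le
    (Groth.LocCohBase.smul_top_quotSMulTop_ne_top hxm hIM) hd1
  have hxy : ∀ z, x ∣ y * z → x ∣ z := by
    intro z hz
    have h0 : (Submodule.Quotient.mk z : QuotSMulTop x R) = 0 := by
      refine hy.right_eq_zero_of_smul ?_
      rw [← Submodule.Quotient.mk_smul, Submodule.Quotient.mk_eq_zero,
        Submodule.mem_smul_pointwise_iff_exists]
      obtain ⟨a, ha⟩ := hz
      exact ⟨a, trivial, ha.symm⟩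
    rw [Submodule.Quotient.mk_eq_zero, Submodule.mem_smul_pointwise_iff_exists] at h0
    obtain ⟨a, -, ha⟩ := h0
    exact ⟨a, ha.symm⟩
  have hx0 : ∀ z, x * z = 0 → z = 0 := fun z hz => hx.right_eq_zero_of_smul hz
  refine ⟨x, y, hxm, hym, hx0, fun z hz => ?_, hxy⟩
  have key : ∀ (n : ℕ) (z : R), y * z = 0 → x ^ n ∣ z := by
    intro n
    induction n with
    | zero => exact fun z _ => by simp
    | succ n ih =>
      intro z hz
      obtain ⟨w, rfl⟩ := hxy z (by rw [hz]; exact dvd_zero x)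
      rw [pow_succ']
      exact mul_dvd_mul_left x (ih w (hx0 _ (by rw [← hz]; ring)))
  have : z ∈ ⨅ n : ℕ, maximalIdeal R ^ n := (Submodule.mem_iInf _).2 fun n => by
    obtain ⟨c, hc⟩ := key n z hz
    rw [hc]
    exact Ideal.mul_mem_right _ _ (Ideal.pow_mem_pow hxm n)
  rwa [Ideal.iInf_pow_eq_bot_of_isLocalRing _ (maximalIdeal.isMaximal R).ne_top] at this

/-- Functions extend across the closed point when there is a regular pair. -/
theorem bijective_phi_of_pair {x y : R} (hxm : x ∈ maximalIdeal R) (hym : y ∈ maximalIdeal R)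
    (hx : ∀ z, x * z = 0 → z = 0) (hy : ∀ z, y * z = 0 → z = 0)
    (hxy : ∀ z, x ∣ y * z → x ∣ z) : Function.Bijective (phi U ⊤) := by
  refine ⟨(injective_iff_map_eq_zero _).2 fun a ha => ?_, fun s => ?_⟩
  · obtain ⟨n, hn⟩ := exists_pow_mul_eq_zero (a := a) hxm (by
      rw [← resX_phi (le_top : (pD x) ≤ ⊤), ha, map_zero])
    exact CharGlue.nzd_pow hx n a hn
  obtain ⟨k, a, hka⟩ := exists_num (x := resX _ (le_top : (pD x) ≤ ⊤) s) hxm
  obtain ⟨l, b, hlb⟩ := exists_num (x := resX _ (le_top : (pD y) ≤ ⊤) s) hym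
  have hxyO : (pD (x * y)) = (pD x) ⊓ (pD y) := basicOpen_phi_mul x y
  have h1 := congrArg (resX _ (hxyO.le.trans inf_le_left)) hka
  have h2 := congrArg (resX _ (hxyO.le.trans inf_le_right)) hlb
  simp only [map_mul, resX_phi, resX_resX] at h1 h2
  obtain ⟨n, hn⟩ := exists_pow_mul_eq (a := y ^ l * a) (b := x ^ k * b) (Ideal.mul_mem_right _ _ hxm) (by
    rw [map_mul, map_mul, ← h1, ← h2]; ring)
  have hab : y ^ l * a = x ^ k * b := by
    have h3 : x ^ n * (y ^ n * (y ^ l * a - x ^ k * b)) = 0 := by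
      rw [← mul_assoc, ← mul_pow, mul_sub, sub_eq_zero]; exact hn
    exact sub_eq_zero.1 (CharGlue.nzd_pow hy n _ (CharGlue.nzd_pow hx n _ h3))
  obtain ⟨c, rfl⟩ := CharGlue.dvd_of_pair hx hxy k l a ⟨b, hab⟩
  refine ⟨c, ?_⟩
  let ι := {g : R // g ∈ maximalIdeal R}
  have hcov : (⊤ : (U : Scheme.{u}).Opens) ≤ ⨆ g : ι, pD g.1 := fun z _ => by
    obtain ⟨g, hg, hgz⟩ := SetLike.not_le_iff_exists.1 fun hle : maximalIdeal R ≤ z.1.asIdeal =>
      z.2 (PrimeSpectrum.ext ((le_maximalIdeal z.1.isPrime.ne_top).antisymm hle))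
    exact Opens.mem_iSup.2 ⟨⟨g, hg⟩, (mem_basicOpen_phi_iff (V := ⊤) trivial g).2 hgz⟩
  refine resX_ext (fun g : ι => pD g.1) (fun _ => le_top) hcov fun g => sub_eq_zero.1 ?_
  refine eq_zero_of_res g.2 hx _ rfl ((basicOpen_phi_mul g.1 x).le.trans inf_le_left) ?_
  have hu := (isUnit_phi_self x ((basicOpen_phi_mul g.1 x).le.trans inf_le_right)).pow k
  refine hu.mul_right_eq_zero.1 ?_
  have h4 := congrArg (resX _ ((basicOpen_phi_mul g.1 x).le.trans inf_le_right)) hka
  simp only [map_mul, map_pow, resX_phi, resX_resX, map_sub] at h4 ⊢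
  rw [mul_sub, sub_eq_zero]
  exact h4.symm

theorem bijective_restrict_of_pair {x y : R} (hxm : x ∈ maximalIdeal R) (hym : y ∈ maximalIdeal R)
    (hx : ∀ z, x * z = 0 → z = 0) (hy : ∀ z, y * z = 0 → z = 0)
    (hxy : ∀ z, x ∣ y * z → x ∣ z) :
    Function.Bijective ((Spec (CommRingCat.of R)).presheaf.map
      (homOfLE (le_top : FEt.puncturedSpec R ≤ ⊤)).op) := by
  refine (resX_bijective_congr le_top le_top (Scheme.Opens.ι_image_top _).symm).2 ?_
  have hb := bijective_phi_of_pair hxm hym hx hy hxy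
  have hi := ConcreteCategory.bijective_of_isIso (Scheme.ΓSpecIso (CommRingCat.of R)).inv
  refine ⟨fun a b hab => ?_, fun z => ?_⟩
  · obtain ⟨a, rfl⟩ := hi.2 a
    obtain ⟨b, rfl⟩ := hi.2 b
    exact congrArg _ (hb.1 (((phi_top_eq ⊤ a).trans hab).trans (phi_top_eq ⊤ b).symm))
  · obtain ⟨a, ha⟩ := hb.2 z
    exact ⟨_, (phi_top_eq ⊤ a).symm.trans ha⟩

end Groth.ParaFormal
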