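/-
Parafactoriality of local rings through ideals which are locally principal on the punctured spectrum
and not contained in a given prime containing all zero divisors.
-/
import Groth.Agent.ParaFormal.PairPhi

set_option autoImplicit false
universe u

open CategoryTheory AlgebraicGeometry TopologicalSpace IsLocalRing Groth.PicAux

namespace Groth.ParaFormal

/-- An ideal locally principal on the punctured spectrum, saturated, not contained in `r`. -/
structure RegGood {R : Type u} [CommRing R] [IsLocalRing R] (r I : Ideal R) : Prop where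
  not_le : ¬ I ≤ r
  loc : ∀ z : Ideal R, z.IsPrime → z ≠ maximalIdeal R →
    ∃ β ∈ I, ∀ b ∈ I, ∃ s ∉ z, ∃ c, s * b = c * β
  sat : ∀ b : R, (∀ c ∈ maximalIdeal R, c * b ∈ I) → b ∈ I

variable {R : Type u} [CommRing R] [IsLocalRing R]

local notation "U" => FEt.puncturedSpec R

theorem picTrivial_of_regGood (r : Ideal R) [r.IsPrime] (hrm : r ≠ maximalIdeal R)
    (hreg : ∀ a ∉ r, ∀ z, a * z = 0 → z = 0) [IsNoetherianRing R]
    (hgood : ∀ I : Ideal R, RegGood r I → I.IsPrincipal) :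
    ParaF.PicTrivial (U : Scheme.{u}) := by
  classical
  intro L hL
  obtain ⟨V, e, -, hmem, he⟩ := exists_gen_cover hL
  have hbas : ∀ z : (U : Scheme.{u}), ∃ g : R, g ∈ maximalIdeal R ∧ g ∉ z.1.asIdeal ∧ pD g ≤ V z := by
    intro z
    obtain ⟨_, ⟨c, rfl⟩, hzc, hcV⟩ := PrimeSpectrum.isTopologicalBasis_basic_opens.exists_subset_of_mem_open
      (show z.1 ∈ SetLike.coe ((U).ι ''ᵁ V z) from ⟨z, hmem z, rfl⟩)
      ((U).ι ''ᵁ V z).isOpen
    refine ⟨c, ?_, hzc, fun w hw => ?_⟩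
    · by_contra hc
      obtain ⟨w, -, hw⟩ := hcV (a := closedPoint R) hc
      exact w.2 hw
    · obtain ⟨w', hw', e'⟩ := hcV (a := w.1) ((mem_basicOpen_phi_iff (V := ⊤) trivial c).1 hw)
      rwa [← (U).ι.isOpenEmbedding.injective e']
  choose g₀ hgm₀ hg₀ hgV using hbas
  have hrU : (⟨r, inferInstance⟩ : PrimeSpectrum R) ∈ U := fun hc => hrm (congrArg PrimeSpectrum.asIdeal hc)
  let zr : (U : Scheme.{u}) := ⟨⟨r, inferInstance⟩, hrU⟩
  have hcompact : CompactSpace (U : Scheme.{u}) := by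
    have : QuasiCompact (U).ι := inferInstance
    exact QuasiCompact.compactSpace_of_compactSpace (U).ι
  obtain ⟨S, hS⟩ := CompactSpace.elim_nhds_subcover
    (fun z : (U : Scheme.{u}) => (pD (g₀ z) : Set (U : Scheme.{u})))
    fun z => (pD (g₀ z)).2.mem_nhds ((mem_basicOpen_phi_iff (V := ⊤) trivial _).2 (hg₀ z))
  let T := insert zr S
  let g : T → R := fun i => g₀ i.1
  let i₀ : T := ⟨zr, Finset.mem_insert_self _ _⟩
  set γ := g i₀ with hγ
  have hγr : γ ∉ r := hg₀ zr
  have hγnzd := hreg γ hγr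
  let W : T → (U : Scheme.{u}).Opens := fun i => pD (g i)
  have hcov : ∀ z : (U : Scheme.{u}), ∃ i, z ∈ W i := fun z => by
    obtain ⟨a, ha, hza⟩ := Set.mem_iUnion₂.1 (hS.ge (Set.mem_univ z))
    exact ⟨⟨a, Finset.mem_insert_of_mem ha⟩, hza⟩
  have hsup : (⊤ : (U : Scheme.{u}).Opens) ≤ iSup W := fun z _ => Opens.mem_iSup.2 (hcov z)
  have hmemW : ∀ i z, z ∈ W i ↔ g i ∉ z.1.asIdeal := fun i z => mem_basicOpen_phi_iff (V := ⊤) trivial _
  have hgm : ∀ i, g i ∈ maximalIdeal R := fun i => hgm₀ i.1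
  let ε : ∀ i, Γ(L, W i) := fun i => res L (hgV i.1) (e i.1)
  have hε : ∀ i, Gen L (W i) (ε i) := fun i => (he i.1).res (hgV i.1)
  choose η hη using fun i j : T => (hε j).exists_coeff (inf_le_right : W i ⊓ W j ≤ W j) (res L inf_le_left (ε i))
  have hηu : ∀ i j, IsUnit (η i j) := fun i j =>
    ((hε j).res inf_le_right).isUnit_of_smul (hη i j ▸ (hε i).res inf_le_left)
  have hco : ∀ i j l (O : (U : Scheme.{u}).Opens) (hi : O ≤ W i) (hj : O ≤ W j) (hl : O ≤ W l),
      resX _ (le_inf hi hl) (η i l) = resX _ (le_inf hi hj) (η i j) * resX _ (le_inf hj hl) (η j l) := by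
    intro i j l O hi hj hl
    refine (hε l).smul_inj hl ?_
    have h1 := congrArg (res L (le_inf hi hl)) (hη i l)
    have h2 := congrArg (res L (le_inf hi hj)) (hη i j)
    have h3 := congrArg (res L (le_inf hj hl)) (hη j l)
    simp only [res_smul, res_res] at h1 h2 h3 ⊢
    rw [mul_smul, ← h3, ← h2, ← h1]
  -- the numerators of a section
  have hW2 : ∀ i j, pD (g i * g j) = W i ⊓ W j := fun i j => basicOpen_phi_mul _ _
  have hnum : ∀ i, ∃ (k : ℕ) (a : R),
      phi U (W i₀ ⊓ W i) ((γ * g i) ^ k) * η i₀ i = phi U (W i₀ ⊓ W i) a := fun i => by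
    obtain ⟨k, a, hka⟩ := exists_num (x := resX _ (hW2 i₀ i).le (η i₀ i))
      (Ideal.mul_mem_left (maximalIdeal R) γ (hgm i))
    refine ⟨k, a, ?_⟩
    have := congrArg (resX _ (hW2 i₀ i).ge) hka
    simpa only [map_mul, resX_phi, resX_resX, resX_self] using this
  choose k a hka using hnum
  set N := Finset.univ.sup k
  let a' : T → R := fun i => γ ^ (N - k i) * a i
  have hgu : ∀ i (O : (U : Scheme.{u}).Opens), O ≤ W i → IsUnit (phi U O (g i)) := fun i O hO =>
    isUnit_phi_self (g i) hO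
  obtain ⟨F, hF⟩ : ∃ F : ∀ i, Γ((U : Scheme.{u}), W i),
      ∀ i, phi U (W i) (g i) ^ k i * F i = phi U (W i) (a' i) :=
    ⟨fun i => phi U (W i) (a' i) * ↑((hgu i (W i) le_rfl).pow (k i)).unit⁻¹, fun i => by
      rw [mul_left_comm, IsUnit.mul_val_inv, mul_one]⟩
  have hF0 : ∀ i, resX _ (inf_le_right : W i₀ ⊓ W i ≤ W i) (F i) = phi U _ (γ ^ N) * η i₀ i := by
    intro i
    refine ((hgu i (W i₀ ⊓ W i) inf_le_right).pow (k i)).mul_left_cancel ?_
    have h1 := congrArg (resX _ (inf_le_right : W i₀ ⊓ W i ≤ W i)) (hF i)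
    simp only [map_mul, map_pow, resX_phi] at h1
    rw [h1]
    have hN : k i ≤ N := Finset.le_sup (f := k) (Finset.mem_univ i)
    simp only [a', map_mul, map_pow, ← hka i]
    rw [← Nat.sub_add_cancel hN, pow_add, Nat.add_sub_cancel, mul_pow]
    ring
  have hFrel : ∀ i j, resX _ (inf_le_left : W i ⊓ W j ≤ W i) (F i) * η i j =
      resX _ (inf_le_right : W i ⊓ W j ≤ W j) (F j) := by
    intro i j
    refine sub_eq_zero.1 ?_
    have hgij : g i * g j ∈ maximalIdeal R := Ideal.mul_mem_left _ _ (hgm j)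
    have key : ∀ x : Γ((U : Scheme.{u}), W i ⊓ W j),
        resX _ (inf_le_left : W i ⊓ W j ⊓ W i₀ ≤ W i ⊓ W j) x = 0 → x = 0 := by
      intro x hx
      have hle : pD (g i * g j * γ) ≤ pD (g i * g j) := (basicOpen_phi_mul _ _).le.trans inf_le_left
      have hle' : pD (g i * g j * γ) ≤ W i ⊓ W j ⊓ W i₀ :=
        (basicOpen_phi_mul _ _).le.trans (inf_le_inf_right _ (hW2 i j).le)
      have h0 := congrArg (resX _ hle') hx
      rw [map_zero, resX_resX] at h0
      have := eq_zero_of_res hgij hγnzd (resX _ (hW2 i j).le x) rfl hle (by rwa [resX_resX])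
      have := congrArg (resX _ (hW2 i j).ge) this
      rwa [resX_resX, resX_self, map_zero] at this
    refine key _ ?_
    have hi : W i ⊓ W j ⊓ W i₀ ≤ W i := inf_le_left.trans inf_le_left
    have hj : W i ⊓ W j ⊓ W i₀ ≤ W j := inf_le_left.trans inf_le_right
    have h0 : W i ⊓ W j ⊓ W i₀ ≤ W i₀ := inf_le_right
    have h1 := congrArg (resX _ (le_inf h0 hi)) (hF0 i)
    have h2 := congrArg (resX _ (le_inf h0 hj)) (hF0 j)
    simp only [map_mul, map_sub, resX_phi, resX_resX] at h1 h2 ⊢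
    rw [h1, h2, hco i₀ i j _ h0 hi hj]
    ring
  -- the ideal
  let I : Ideal R := ⨅ i, (Ideal.span {F i}).comap (phi U (W i))
  have hImem : ∀ b, b ∈ I ↔ ∀ i, ∃ c, c * F i = phi U (W i) b := fun b => by
    simp only [I, Ideal.mem_iInf, Ideal.mem_comap, Ideal.mem_span_singleton']
  have hext : ∀ (i j : T) (b : R) (c : Γ((U : Scheme.{u}), W i ⊓ W j)),
      phi U _ b = c * resX _ inf_le_right (F j) → ∃ n, ∀ m, n ≤ m → ∃ c', c' * F j = phi U (W j) (g i ^ m * b) := by
    intro i j b c hb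
    have hgij : g i * g j ∈ maximalIdeal R := Ideal.mul_mem_left _ _ (hgm j)
    obtain ⟨l, c₁, hc₁⟩ := exists_num (x := resX _ (hW2 i j).le c) hgij
    have h1 := congrArg (resX _ ((hW2 i j).le.trans inf_le_right)) (hF j)
    have h2 := congrArg (resX _ (hW2 i j).le) hb
    simp only [map_mul, map_pow, resX_phi, resX_resX] at h1 h2 hc₁
    obtain ⟨n, hn⟩ := exists_pow_mul_eq (a := (g i * g j) ^ l * g j ^ k j * b) (b := c₁ * a' j) hgij (by
      simp only [map_mul, map_pow, ← hc₁, ← h1, h2]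
      ring)
    refine ⟨n + l, fun m hm => ?_⟩
    obtain ⟨m, rfl⟩ := Nat.exists_eq_add_of_le hm
    have hu := (hgu j (W j) le_rfl).pow (n + l + k j)
    refine ⟨↑hu.unit⁻¹ * (phi U (W j) (g i ^ (m + n) * g j ^ (n + k j) * c₁)), ?_⟩
    refine hu.mul_left_cancel ?_
    rw [← mul_assoc, ← mul_assoc, IsUnit.mul_val_inv, one_mul]
    have h3 := congrArg (phi U (W j)) (congrArg (fun t => g i ^ m * t) hn)
    simp only [map_mul, map_pow, mul_pow, ← hF j] at h3 ⊢
    rw [pow_add, pow_add, pow_add, pow_add, pow_add, pow_add]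
    linear_combination -h3
  have hFinv : ∀ i j, resX _ (inf_le_left : W i ⊓ W j ≤ W i) (F i) =
      ↑(hηu i j).unit⁻¹ * resX _ (inf_le_right : W i ⊓ W j ≤ W j) (F j) := fun i j => by
    rw [← hFrel i j, mul_left_comm, IsUnit.val_inv_mul, mul_one]
  have hbeta : ∀ i, ∃ M, g i ^ M * a' i ∈ I := by
    intro i
    choose n hn using fun j => hext i j (a' i) (phi U _ (g i ^ k i) * (↑(hηu i j).unit⁻¹ : Γ((U : Scheme.{u}), W i ⊓ W j))) (by
      have h1 := congrArg (resX _ (inf_le_left : W i ⊓ W j ≤ W i)) (hF i)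
      simp only [map_mul, map_pow, resX_phi] at h1
      rw [← h1, hFinv, map_pow]
      ring)
    exact ⟨Finset.univ.sup n, (hImem _).2 fun j => hn j _ (Finset.le_sup (Finset.mem_univ j))⟩
  have hγI : ∃ M, γ ^ M ∈ I := by
    choose n hn using fun j => hext i₀ j (γ ^ N) (↑(hηu i₀ j).unit⁻¹ : Γ((U : Scheme.{u}), W i₀ ⊓ W j)) (by
      have h1 := hF0 j
      rw [h1, mul_left_comm, IsUnit.val_inv_mul, mul_one])
    refine ⟨Finset.univ.sup n + N, (hImem _).2 fun j => ?_⟩
    rw [pow_add]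
    exact hn j _ (Finset.le_sup (Finset.mem_univ j))
  obtain ⟨M₀, hγI⟩ := hγI
  choose M hM using hbeta
  have hI : RegGood r I := by
    refine ⟨fun hle => hγr (Ideal.IsPrime.mem_of_pow_mem inferInstance _ (hle hγI)), fun z hz hzm => ?_,
      fun b hb => (hImem b).2 fun i => ?_⟩
    · have hzU : (⟨z, hz⟩ : PrimeSpectrum R) ∈ U := fun hc => hzm (congrArg PrimeSpectrum.asIdeal hc)
      obtain ⟨i, hi⟩ := hcov ⟨_, hzU⟩
      have hgi : g i ∉ z := (hmemW i _).1 hi
      refine ⟨_, hM i, fun b hb => ?_⟩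
      obtain ⟨c, hc⟩ := (hImem b).1 hb i
      obtain ⟨l, c₁, hc₁⟩ : ∃ (l : ℕ) (c₁ : R), phi U (W i) (g i ^ l) * c = phi U (W i) c₁ :=
        exists_num (x := c) (hgm i)
      obtain ⟨n, hn⟩ := exists_pow_mul_eq (hgm i)
        (show phi U (W i) (g i ^ (M i + k i + l) * b) = phi U (W i) (c₁ * (g i ^ M i * a' i)) by
          simp only [map_mul, map_pow, pow_add] at hc₁ ⊢
          linear_combination (-(phi U (W i) (g i) ^ M i * phi U (W i) (g i) ^ k i * phi U (W i) (g i) ^ l)) * hc +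
            phi U (W i) (g i) ^ l * c * phi U (W i) (g i) ^ M i * hF i +
            phi U (W i) (g i) ^ M i * phi U (W i) (a' i) * hc₁)
      exact ⟨g i ^ (n + (M i + k i + l)), fun h => hgi (hz.mem_of_pow_mem _ h), g i ^ n * c₁, by
        linear_combination hn⟩
    · obtain ⟨c, hc⟩ := (hImem _).1 (hb (g i) (hgm i)) i
      exact ⟨↑(hgu i (W i) le_rfl).unit⁻¹ * c, by
        rw [mul_assoc, hc, map_mul, ← mul_assoc, IsUnit.val_inv_mul, one_mul]⟩
  obtain ⟨t, ht⟩ := (hgood I hI).principal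
  have htI : t ∈ I := ht ▸ Submodule.mem_span_singleton_self t
  have hdiv : ∀ b ∈ I, ∃ d, d * t = b := fun b hb => Ideal.mem_span_singleton'.1 (ht ▸ hb :)
  have hb₀ : ∀ z, γ ^ M₀ * z = 0 → z = 0 := CharGlue.nzd_pow hγnzd M₀
  have hFnzd : ∀ i (x : Γ((U : Scheme.{u}), W i)), F i * x = 0 → x = 0 := fun i x hx => by
    obtain ⟨c, hc⟩ := (hImem _).1 hγI i
    exact nzd_phi (hgm i) hb₀ x (by rw [← hc, mul_assoc, hx, mul_zero])
  choose w hw using fun i => (hImem t).1 htI i
  have hwu : ∀ i, IsUnit (w i) := fun i => by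
    obtain ⟨d, hd⟩ := hdiv _ (hM i)
    have h1 : phi U (W i) (g i) ^ (M i + k i) = phi U (W i) d * w i := by
      refine sub_eq_zero.1 (hFnzd i _ ?_)
      have h2 := congrArg (phi U (W i)) hd
      simp only [map_mul, map_pow, ← hw i, ← hF i] at h2
      linear_combination -h2
    exact isUnit_of_mul_isUnit_right (h1 ▸ (hgu i (W i) le_rfl).pow _)
  obtain ⟨s, hs, -⟩ := res_glue (M := L) W (fun _ => le_top) hsup
    (fun i => (↑(hwu i).unit⁻¹ : Γ((U : Scheme.{u}), W i)) • ε i) fun i j => by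
      simp only [res_smul]
      rw [hη i j, ← mul_smul]
      congr 1
      have hui := (hwu i).map (resX _ (inf_le_left : W i ⊓ W j ≤ W i))
      have huj := (hwu j).map (resX _ (inf_le_right : W i ⊓ W j ≤ W j))
      refine hui.mul_left_cancel (huj.mul_left_cancel ?_)
      rw [← mul_assoc (resX _ _ (w i)), ← map_mul, IsUnit.mul_val_inv, map_one, one_mul,
        mul_left_comm (resX _ _ (w j)), ← map_mul (resX _ (inf_le_right : W i ⊓ W j ≤ W j)), IsUnit.mul_val_inv,
        map_one, mul_one]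
      -- `w i = η i j * w j`
      have hgij : g i * g j ∈ maximalIdeal R := Ideal.mul_mem_left _ _ (hgm j)
      have hnz : ∀ x : Γ((U : Scheme.{u}), W i ⊓ W j), resX _ inf_le_left (F i) * x = 0 → x = 0 := by
        intro x hx
        obtain ⟨c, hc⟩ := (hImem _).1 hγI i
        have h1 := congrArg (resX _ (inf_le_left : W i ⊓ W j ≤ W i)) hc
        rw [map_mul, resX_phi] at h1
        have := nzd_phi hgij hb₀ (resX _ (hW2 i j).le x) (by
          have h2 : phi U (W i ⊓ W j) (γ ^ M₀) * x = 0 := by rw [← h1, mul_assoc, hx, mul_zero]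
          have := congrArg (resX _ (hW2 i j).le) h2
          rwa [map_mul, resX_phi, map_zero] at this)
        have := congrArg (resX _ (hW2 i j).ge) this
        rwa [resX_resX, resX_self, map_zero] at this
      refine sub_eq_zero.1 (hnz _ ?_)
      have h1 := congrArg (resX _ (inf_le_left : W i ⊓ W j ≤ W i)) (hw i)
      have h2 := congrArg (resX _ (inf_le_right : W i ⊓ W j ≤ W j)) (hw j)
      simp only [map_mul, resX_phi] at h1 h2
      linear_combination resX _ (inf_le_right : W i ⊓ W j ≤ W j) (w j) * hFrel i j - h1 + h2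
  refine nonempty_iso_structure_iff.2 ⟨s, Gen.of_cover W (fun _ => le_top) hsup fun i => ?_⟩
  rw [hs i]
  exact (hε i).smul_unit (Units.isUnit _)

end Groth.ParaFormal
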