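/-
Local rings of power series rings over complete normal local domains are parafactorial.
-/
import Groth.Agent.ParaFormal.FibreCurve
import Groth.Agent.ParaFormal.RamanujamSamuel
import Groth.Agent.Ega4Algebra1.CTensorSemilocal
import Mathlib.RingTheory.PowerSeries.WeierstrassPreparation
import Mathlib.RingTheory.Ideal.GoingUp

set_option autoImplicit false
universe u

open IsLocalRing

namespace Groth.ParaFormal.PowerSeriesCase

theorem flat_powerSeries (A : Type u) [CommRing A] [IsNoetherianRing A] :
    (PowerSeries.C : A →+* PowerSeries A).Flat := by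
  have := Groth.Ega4Algebra1.flat_powerSeries_base Unit A
  have h : (algebraMap A (MvPowerSeries Unit A)).Flat := RingHom.flat_algebraMap_iff.2 this
  exact h

theorem mem_map_C {A : Type u} [CommRing A] {m : Ideal A} (hm : m.FG) {f : PowerSeries A} :
    f ∈ m.map (PowerSeries.C : A →+* PowerSeries A) ↔ ∀ n, PowerSeries.coeff n f ∈ m := by
  refine ⟨fun h n => ?_, fun h => RamanujamSamuel.mem_map_C_of_coeff (σ := Unit) hm fun d => ?_⟩
  · have hle : m.map (PowerSeries.C : A →+* PowerSeries A) ≤
        RingHom.ker (PowerSeries.map (Ideal.Quotient.mk m)) := Ideal.map_le_iff_le_comap.2 fun c hc => by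
      rw [Ideal.mem_comap, RingHom.mem_ker, PowerSeries.map_C, Ideal.Quotient.eq_zero_iff_mem.2 hc, map_zero]
    have h0 := congrArg (PowerSeries.coeff n) (RingHom.mem_ker.1 (hle h))
    rwa [PowerSeries.coeff_map, map_zero, Ideal.Quotient.eq_zero_iff_mem] at h0
  · have h1 := h (d ())
    rwa [PowerSeries.coeff_def (s := d) rfl] at h1

theorem ker_map_mk {A : Type u} [CommRing A] [IsNoetherianRing A] (p : Ideal A) :
    p.map (PowerSeries.C : A →+* PowerSeries A) = RingHom.ker (PowerSeries.map (Ideal.Quotient.mk p)) := by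
  ext f
  rw [mem_map_C (IsNoetherian.noetherian p), RingHom.mem_ker, PowerSeries.ext_iff]
  simp [Ideal.Quotient.eq_zero_iff_mem]

/-- The Weierstrass division: modulo a regular series every series is a polynomial. -/
theorem weierstrass {A B : Type u} [CommRing A] [IsLocalRing A] [IsAdicComplete (maximalIdeal A) A]
    [CommRing B] (e : PowerSeries A ≃+* B) {g : PowerSeries A} (hg : g.map (residue A) ≠ 0) :
    (∀ z : B, ∃ P : Polynomial A,
      z - P.eval₂ (e.toRingHom.comp PowerSeries.C) (e PowerSeries.X) ∈ Ideal.span {e g}) ∧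
      ∃ P : Polynomial A, P.Monic ∧
        P.eval₂ (e.toRingHom.comp PowerSeries.C) (e PowerSeries.X) ∈ Ideal.span {e g} := by
  obtain ⟨f, h, H⟩ := PowerSeries.exists_isWeierstrassFactorization hg
  let φ : Polynomial A →+* PowerSeries A := Polynomial.coeToPowerSeries.ringHom
  have hev : ∀ P : Polynomial A, P.eval₂ (e.toRingHom.comp PowerSeries.C) (e PowerSeries.X) = e (φ P) := by
    intro P
    have : Polynomial.eval₂RingHom (e.toRingHom.comp PowerSeries.C) (e PowerSeries.X) = e.toRingHom.comp φ :=
      Polynomial.ringHom_ext (fun c => by simp [φ]) (by simp [φ])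
    exact RingHom.congr_fun this P
  refine ⟨fun z => ?_, f, H.isDistinguishedAt.monic, ?_⟩
  · let ε := PowerSeries.IsWeierstrassFactorizationAt.algEquivQuotient H
    obtain ⟨w, hw⟩ := ε.surjective (Ideal.Quotient.mk _ (e.symm z))
    obtain ⟨P, rfl⟩ := Ideal.Quotient.mk_surjective w
    refine ⟨P, ?_⟩
    have h1 : Ideal.Quotient.mk (Ideal.span {g}) (φ P) = Ideal.Quotient.mk _ (e.symm z) := by
      rw [← hw]
      simp only [ε, φ, PowerSeries.IsWeierstrassFactorizationAt.algEquivQuotient,
        Polynomial.IsDistinguishedAt.algEquivQuotient]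
      rfl
    rw [eq_comm, Ideal.Quotient.eq, Ideal.mem_span_singleton'] at h1
    obtain ⟨c, hc⟩ := h1
    exact Ideal.mem_span_singleton'.2 ⟨e c, by rw [← map_mul, hc, map_sub, e.apply_symm_apply, hev]⟩
  · rw [hev, H.eq_mul, map_mul, show (f : PowerSeries A) = φ f from rfl]
    exact Ideal.mem_span_singleton'.2 ⟨↑(H.isUnit.map e).unit⁻¹, by
      rw [mul_comm (e _) (e h), ← mul_assoc, IsUnit.val_inv_mul, one_mul]⟩

variable {A B : Type u} [CommRing A] [IsDomain A] [IsNoetherianRing A] [IsLocalRing A]
  [IsIntegrallyClosed A] [IsAdicComplete (maximalIdeal A) A] [CommRing B]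

open Polynomial in
theorem isParafactorial (e : PowerSeries A ≃+* B) {g : PowerSeries A} (hg : g.map (residue A) ≠ 0)
    (q : Ideal B) [q.IsPrime] (hgq : e g ∈ q)
    (hdim : (2 : WithBot ℕ∞) ≤ ringKrullDim (Localization.AtPrime q)) :
    ParaF.IsParafactorialLocalRing (Localization.AtPrime q) := by
  classical
  have : IsDomain B := e.symm.toMulEquiv.isDomain (PowerSeries A)
  have : IsNoetherianRing B := isNoetherianRing_of_ringEquiv _ e
  have := Groth.Calg2.PowerSeriesNormal.isIntegrallyClosed_powerSeries (R := A)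
  have : IsIntegrallyClosed B := IsIntegrallyClosed.of_equiv e
  set i : A →+* B := e.toRingHom.comp PowerSeries.C with hi
  set T : B := e PowerSeries.X with hT
  set p := q.comap i with hp
  let R := Localization.AtPrime q
  let R' := Localization.AtPrime p
  have : IsIntegrallyClosed R := isIntegrallyClosed_of_isLocalization R q.primeCompl q.primeCompl_le_nonZeroDivisors
  have : IsIntegrallyClosed R' := isIntegrallyClosed_of_isLocalization R' p.primeCompl p.primeCompl_le_nonZeroDivisors
  let φ : R' →+* R := Localization.localRingHom p q i rfl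
  let algR : Algebra R' R := φ.toAlgebra
  have : IsLocalHom (algebraMap R' R) := inferInstanceAs (IsLocalHom (Localization.localRingHom p q i rfl))
  have hiflat : i.Flat := RingHom.Flat.comp (flat_powerSeries A) (RingHom.Flat.of_bijective e.bijective)
  have hφflat : φ.Flat := RingHom.Flat.localRingHom hiflat q p rfl
  have : Module.Flat R' R := hφflat
  set LB := algebraMap B R with hLB
  set LA := algebraMap A R' with hLA
  have hφ : ∀ c, algebraMap R' R (LA c) = LB (i c) := fun c => Localization.localRingHom_to_map p q i rfl c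
  -- the fibre
  have hpq : p.map i ≤ q := Ideal.map_comap_le
  have hker : ∀ P₀ : Ideal A, P₀.map i = (P₀.map (PowerSeries.C : A →+* PowerSeries A)).map e.toRingHom := fun P₀ =>
    (Ideal.map_map _ _).symm
  have hprime : ∀ P₀ : Ideal A, P₀.IsPrime → (P₀.map i).IsPrime := by
    intro P₀ hP₀
    have : (P₀.map (PowerSeries.C : A →+* PowerSeries A)).IsPrime := by
      rw [ker_map_mk]; exact RingHom.ker_isPrime _
    rw [hker]
    exact Ideal.map_isPrime_of_equiv e
  have hpB := hprime p inferInstance
  set r : Ideal R := (p.map i).map LB with hr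
  have hdisj : Disjoint (q.primeCompl : Set B) (p.map i : Set B) :=
    Set.disjoint_left.2 fun x hx hx' => hx (hpq hx')
  have : r.IsPrime := IsLocalization.isPrime_of_isPrime_disjoint q.primeCompl R _ hpB hdisj
  have hrdef : r = (maximalIdeal R').map (algebraMap R' R) := by
    rw [← Localization.AtPrime.map_eq_maximalIdeal, Ideal.map_map, hr, Ideal.map_map]
    exact congrArg (fun h => Ideal.map h p) (RingHom.ext hφ).symm
  have hrcomap : r.comap LB = p.map i :=
    IsLocalization.comap_map_of_isPrime_disjoint q.primeCompl R hpB hdisj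
  have hgp : e g ∉ p.map i := by
    intro hgp
    rw [hker] at hgp
    obtain ⟨g', hg', he⟩ := (Ideal.mem_map_iff_of_surjective e.toRingHom e.surjective).1 hgp
    obtain rfl : g' = g := e.injective he
    refine hg (PowerSeries.ext fun n => ?_)
    rw [PowerSeries.coeff_map, map_zero, residue_eq_zero_iff]
    exact le_maximalIdeal (Ideal.IsPrime.ne_top (I := p) inferInstance) ((mem_map_C (IsNoetherian.noetherian p)).1 hg' n)
  have hrm : r ≠ maximalIdeal R := by
    intro h
    refine hgp ?_
    rw [← hrcomap, Ideal.mem_comap, h]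
    exact (IsLocalization.AtPrime.to_map_mem_maximal_iff R q _).2 hgq
  -- primes between the fibre and `q`
  have hmem : ∀ c ∈ p, i c ∈ p.map i := fun c hc => Ideal.mem_map_of_mem i hc
  have hincomp : ∀ P : Ideal B, P.IsPrime → p.map i ≤ P → e g ∈ P → P ≤ q → P = q := by
    intro P hP hpP hgP hPq
    refine eq_of_le_of_not_lt hPq fun hlt => ?_
    let Bg := B ⧸ Ideal.span {e g}
    let mk := Ideal.Quotient.mk (Ideal.span {e g})
    let algA : Algebra A Bg := (mk.comp i).toAlgebra
    obtain ⟨hdiv, ν, hν, hν'⟩ := weierstrass e hg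
    have : Algebra.IsIntegral A Bg := ⟨fun z => by
      obtain ⟨z, rfl⟩ := Ideal.Quotient.mk_surjective z
      obtain ⟨Q, hQ⟩ := hdiv z
      have hTi : IsIntegral A (mk T) := ⟨ν, hν, by
        rw [show algebraMap A Bg = mk.comp i from rfl, ← Polynomial.hom_eval₂]
        exact Ideal.Quotient.eq_zero_iff_mem.2 hν'⟩
      have : mk z = aeval (mk T) Q := by
        rw [aeval_def, show algebraMap A Bg = mk.comp i from rfl, ← Polynomial.hom_eval₂]
        exact Ideal.Quotient.eq.2 hQ
      rw [show Ideal.Quotient.mk _ z = mk z from rfl, this]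
      exact (Algebra.adjoin_le (S := integralClosure A Bg) (Set.singleton_subset_iff.2 hTi)
        (aeval_mem_adjoin_singleton A _) : _)⟩
    have hgP' : Ideal.span {e g} ≤ P := (Ideal.span_singleton_le_iff_mem _).2 hgP
    have hgq' : Ideal.span {e g} ≤ q := (Ideal.span_singleton_le_iff_mem _).2 hgq
    have hcm : ∀ K : Ideal B, Ideal.span {e g} ≤ K → (K.map mk).comap mk = K := fun K hK => by
      rw [Ideal.comap_map_of_surjective _ Ideal.Quotient.mk_surjective, ← RingHom.ker_eq_comap_bot, Ideal.mk_ker,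
        sup_eq_left.2 hK]
    have : (P.map mk).IsPrime := Ideal.map_isPrime_of_surjective Ideal.Quotient.mk_surjective (by rwa [Ideal.mk_ker])
    have hlt' : P.map mk < q.map mk := lt_of_le_of_ne (Ideal.map_mono hPq) fun h =>
      hlt.ne (by rw [← hcm P hgP', h, hcm q hgq'])
    have h1 := Ideal.IsIntegral.comap_lt_comap (R := A) hlt'
    have hcc : ∀ K : Ideal Bg, K.comap (mk.comp i) = (K.comap mk).comap i := fun K => (Ideal.comap_comap _ _).symm
    rw [show algebraMap A Bg = mk.comp i from rfl, hcc, hcc, hcm P hgP', hcm q hgq'] at h1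
    exact h1.not_ge (fun c hc => hpP (hmem c hc))
  have hchain : ∀ P : Ideal B, P.IsPrime → p.map i < P → P ≤ q → P = q := by
    intro P hP hlt hPq
    let mk := Ideal.Quotient.mk (p.map i)
    have hcm : ∀ K : Ideal B, p.map i ≤ K → (K.map mk).comap mk = K := fun K hK => by
      rw [Ideal.comap_map_of_surjective _ Ideal.Quotient.mk_surjective, ← RingHom.ker_eq_comap_bot, Ideal.mk_ker,
        sup_eq_left.2 hK]
    have hPp : (P.map mk).IsPrime := Ideal.map_isPrime_of_surjective Ideal.Quotient.mk_surjective (by rw [Ideal.mk_ker]; exact hlt.le)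
    have hqp : (q.map mk).IsPrime := Ideal.map_isPrime_of_surjective Ideal.Quotient.mk_surjective (by rw [Ideal.mk_ker]; exact hpq)
    have hmin : q.map mk ∈ (Ideal.span {mk (e g)}).minimalPrimes := by
      refine ⟨⟨hqp, (Ideal.span_singleton_le_iff_mem _).2 (Ideal.mem_map_of_mem _ hgq)⟩, fun K hK hKq => ?_⟩
      have hKp := hK.1
      have h1 : p.map i ≤ K.comap mk := fun c hc => by
        rw [Ideal.mem_comap, Ideal.Quotient.eq_zero_iff_mem.2 hc]; exact Submodule.zero_mem _
      have h2 := hincomp (K.comap mk) inferInstance h1 (hK.2 (Ideal.mem_span_singleton_self _))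
        ((Ideal.comap_mono hKq).trans (hcm q hpq).le)
      rw [← h2, Ideal.map_comap_of_surjective _ Ideal.Quotient.mk_surjective]
    have hq1 := Ideal.height_le_one_of_isPrincipal_of_mem_minimalPrimes _ _ hmin
    refine eq_of_le_of_not_lt hPq fun hlt2 => ?_
    have hlt' : P.map mk < q.map mk := lt_of_le_of_ne (Ideal.map_mono hPq) fun h =>
      hlt2.ne (by rw [← hcm P hlt.le, h, hcm q hpq])
    have h3 := Ideal.height_strict_mono_of_isPrime hlt'
    have h4 : (P.map mk).height = 0 := Order.lt_one_iff.1 (h3.trans_le hq1)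
    have h5 : P.map mk = ⊥ := Ideal.height_eq_zero_iff_eq_bot.1 h4
    exact hlt.not_ge fun c hc => Ideal.Quotient.eq_zero_iff_mem.1 ((Submodule.eq_bot_iff _).1 h5 _ (Ideal.mem_map_of_mem mk hc))
  -- generation of the fibres
  have hgen : ∀ a ∉ r, (∀ z : R, ∃ P : R'[X], z - aeval (LB T) P ∈ Ideal.span {a} ⊔ r) ∧
      ∃ P : R'[X], P.Monic ∧ aeval (LB T) P ∈ Ideal.span {a} ⊔ r := by
    intro a ha
    set J := Ideal.span {a} ⊔ r with hJ
    obtain ⟨k, hk⟩ : ∃ k : ℕ, LB (e g) ^ k ∈ J := by
      have : LB (e g) ∈ J.radical := by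
        rw [Ideal.radical_eq_sInf, Ideal.mem_sInf]
        rintro K ⟨hJK, hK⟩
        have hP : K.comap LB ≤ q := fun c hc => by
          by_contra hcq
          exact hK.ne_top (K.eq_top_of_isUnit_mem hc (IsLocalization.map_units R (⟨c, hcq⟩ : q.primeCompl)))
        have hlt : p.map i < K.comap LB := by
          refine lt_of_le_of_ne (hrcomap ▸ Ideal.comap_mono (le_sup_right.trans hJK)) fun h => ha ?_
          have h1 : a ∈ K := hJK (Submodule.mem_sup_left (Ideal.mem_span_singleton_self a))
          rw [hr, h, IsLocalization.map_comap q.primeCompl]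
          exact h1
        rw [← Ideal.mem_comap, hchain (K.comap LB) inferInstance hlt hP]
        exact hgq
      exact this
    have hgk : (g ^ k).map (residue A) ≠ 0 := by rw [map_pow]; exact pow_ne_zero _ hg
    obtain ⟨hdiv, ν, hν, hν'⟩ := weierstrass e hgk
    have hgkJ : ∀ z ∈ Ideal.span {e (g ^ k)}, LB z ∈ J := fun z hz => by
      obtain ⟨c, rfl⟩ := Ideal.mem_span_singleton'.1 hz
      rw [map_mul, map_pow e, map_pow LB]
      exact J.mul_mem_left _ hk
    have hev : ∀ P : A[X], aeval (LB T) (P.map LA) = LB (P.eval₂ i T) := fun P => by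
      rw [aeval_def, eval₂_map, Polynomial.hom_eval₂]
      exact congrArg (fun h => eval₂ h (LB T) P) (RingHom.ext hφ)
    have hB : ∀ z : B, ∃ P : R'[X], LB z - aeval (LB T) P ∈ J := fun z => by
      obtain ⟨P, hP⟩ := hdiv z
      exact ⟨P.map LA, by rw [hev, ← map_sub]; exact hgkJ _ hP⟩
    have hmonic : aeval (LB T) (ν.map LA) ∈ J := by rw [hev]; exact hgkJ _ hν'
    refine ⟨fun z => ?_, ν.map LA, hν.map LA, hmonic⟩
    obtain ⟨b, s, rfl⟩ := IsLocalization.exists_mk'_eq q.primeCompl z
    let mk := Ideal.Quotient.mkₐ R' J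
    have htint : IsIntegral R' (mk (LB T)) := ⟨ν.map LA, hν.map LA, by
      rw [← aeval_def, aeval_algHom_apply]; exact Ideal.Quotient.eq_zero_iff_mem.2 hmonic⟩
    obtain ⟨Ps, hPs⟩ := hB s
    obtain ⟨Pb, hPb⟩ := hB b
    have hsu : IsUnit (mk (LB s)) := (IsLocalization.map_units R s).map mk
    have hs_eq : mk (LB s) = aeval (mk (LB T)) Ps := by
      rw [aeval_algHom_apply]; exact Ideal.Quotient.eq.2 hPs
    have hsint : IsIntegral R' (mk (LB s)) := by
      rw [hs_eq]
      exact (Algebra.adjoin_le (S := integralClosure R' (R ⧸ J)) (Set.singleton_subset_iff.2 htint)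
        (aeval_mem_adjoin_singleton R' _) : _)
    obtain ⟨Q, hQ, hQs⟩ := hsint
    rw [← aeval_def] at hQs
    have hm0 : ∀ c ∈ maximalIdeal R', algebraMap R' (R ⧸ J) c = 0 := fun c hc =>
      Ideal.Quotient.eq_zero_iff_mem.2 (Submodule.mem_sup_right (hrdef ▸ Ideal.mem_map_of_mem _ hc))
    have hinv : ∀ (n : ℕ) (Q : R'[X]), Q.natDegree ≤ n → (∃ j, Q.coeff j ∉ maximalIdeal R') →
        aeval (mk (LB s)) Q = 0 → ∃ H : R'[X], mk (LB s) * aeval (mk (LB s)) H = 1 := by
      intro n
      induction n with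
      | zero =>
        intro Q hd hj h0
        rw [eq_C_of_natDegree_le_zero hd] at hj h0
        obtain ⟨j, hj⟩ := hj
        rw [aeval_C] at h0
        have hu : IsUnit (Q.coeff 0) := by
          refine not_not.1 fun hu => hj ?_
          rw [coeff_C]; split_ifs
          · exact hu
          · exact Submodule.zero_mem _
        have hone : IsUnit (algebraMap R' (R ⧸ J) (Q.coeff 0)) := hu.map _
        rw [h0, isUnit_zero_iff] at hone
        exact ⟨0, by rw [map_zero, mul_zero, hone]⟩
      | succ n ih =>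
        intro Q hd hj h0
        have hsplit : aeval (mk (LB s)) Q = mk (LB s) * aeval (mk (LB s)) Q.divX + algebraMap R' _ (Q.coeff 0) := by
          conv_lhs => rw [← X_mul_divX_add Q]
          rw [map_add, map_mul, aeval_X, aeval_C]
        by_cases hc : Q.coeff 0 ∈ maximalIdeal R'
        · rw [hsplit, hm0 _ hc, add_zero, hsu.mul_right_eq_zero] at h0
          obtain ⟨j, hj⟩ := hj
          cases j with
          | zero => exact absurd hc hj
          | succ j =>
            refine ih Q.divX ?_ ⟨j, by rwa [coeff_divX]⟩ h0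
            rw [natDegree_divX_eq_natDegree_tsub_one]; omega
        · obtain ⟨w, hw⟩ := not_not.1 hc
          refine ⟨C (-(↑w⁻¹ : R')) * Q.divX, ?_⟩
          rw [hsplit, ← hw] at h0
          have h6 : algebraMap R' (R ⧸ J) ↑w⁻¹ * algebraMap R' (R ⧸ J) ↑w = 1 := by
            rw [← map_mul, Units.inv_mul, map_one]
          rw [map_mul, aeval_C, map_neg]
          linear_combination (-algebraMap R' (R ⧸ J) ↑w⁻¹) * h0 + h6
    obtain ⟨H, hH⟩ := hinv _ Q le_rfl ⟨Q.natDegree, by
      rw [hQ.coeff_natDegree]; exact fun h => (maximalIdeal.isMaximal R').ne_top ((Ideal.eq_top_iff_one _).2 h)⟩ hQs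
    refine ⟨Pb * H.comp Ps, ?_⟩
    rw [← Ideal.Quotient.eq_zero_iff_mem]
    change mk _ = 0
    rw [map_sub, sub_eq_zero, map_mul, aeval_comp, map_mul, ← aeval_algHom_apply, ← aeval_algHom_apply,
      ← aeval_algHom_apply mk (LB T) Ps, ← hs_eq]
    have hb_eq : mk (LB b) = aeval (mk (LB T)) Pb := by
      rw [aeval_algHom_apply]; exact Ideal.Quotient.eq.2 hPb
    rw [← hb_eq, ← IsLocalization.mk'_spec R b s, map_mul, mul_assoc, hH, mul_one]
  refine FibreCurve.isParafactorial hdim r hrdef hrm (LB T) (fun a ha => (hgen a ha).1)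
    (fun a ha => (hgen a ha).2) fun Q hQ hQ1 x hx hxQ => ?_
  obtain ⟨x₁, x₂, rfl⟩ := IsLocalization.exists_mk'_eq p.primeCompl x
  have hx₁ : x₁ ≠ 0 := fun h => hx (by rw [h, IsLocalization.mk'_zero])
  have hx₁Q : i x₁ ∈ Q.comap LB := by
    rw [Ideal.mem_comap, ← hφ, ← IsLocalization.mk'_spec R' x₁ x₂, map_mul]
    exact Q.mul_mem_right _ hxQ
  have hQc1 : (Q.comap LB).height = 1 := by rw [IsLocalization.height_under q.primeCompl Q]; exact hQ1
  set P₀ := (Q.comap LB).comap i
  have hP₀ := hprime P₀ inferInstance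
  have hle : P₀.map i ≤ Q.comap LB := Ideal.map_comap_le
  have heq : P₀.map i = Q.comap LB := by
    refine eq_of_le_of_not_lt hle fun hlt => ?_
    have h1 := Ideal.height_strict_mono_of_isPrime hlt
    rw [hQc1, Order.lt_one_iff] at h1
    have h2 := (Submodule.eq_bot_iff _).1 (Ideal.height_eq_zero_iff_eq_bot.1 h1) _ (Ideal.mem_map_of_mem i hx₁Q)
    have hinj : Function.Injective i := e.injective.comp PowerSeries.C_injective
    exact hx₁ (hinj (h2.trans (map_zero i).symm))
  have hP₀p : P₀ ≤ p := Ideal.comap_mono fun c hc => by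
    by_contra hcq
    exact hQ.ne_top (Q.eq_top_of_isUnit_mem hc (IsLocalization.map_units R (⟨c, hcq⟩ : q.primeCompl)))
  rw [← IsLocalization.map_under q.primeCompl R Q]
  change Ideal.map LB (Q.comap LB) ≤ r
  rw [← heq]
  exact Ideal.map_mono (Ideal.map_mono hP₀p)

/-- The general case. -/
theorem isParafactorial_mv (A : Type u) [CommRing A] [IsDomain A] [IsNoetherianRing A] [IsLocalRing A]
    [IsIntegrallyClosed A] [IsAdicComplete (maximalIdeal A) A] (n : ℕ)
    (q : Ideal (MvPowerSeries (Fin n) A)) [q.IsPrime]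
    (hqm : ¬ q ≤ (maximalIdeal A).map (MvPowerSeries.C : A →+* MvPowerSeries (Fin n) A))
    (hdim : (2 : WithBot ℕ∞) ≤ ringKrullDim (Localization.AtPrime q)) :
    ParaF.IsParafactorialLocalRing (Localization.AtPrime q) := by
  obtain ⟨f, hfq, hfm⟩ := SetLike.not_le_iff_exists.1 hqm
  obtain ⟨d₁, hd₁⟩ : ∃ d, MvPowerSeries.coeff d f ∉ maximalIdeal A := by
    by_contra! h
    exact hfm (RamanujamSamuel.mem_map_C_of_coeff (IsNoetherian.noetherian _) h)
  cases n with
  | zero =>
    exfalso
    have hu : IsUnit f := by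
      rw [MvPowerSeries.isUnit_iff_constantCoeff, ← MvPowerSeries.coeff_zero_eq_constantCoeff_apply,
        show (0 : Fin 0 →₀ ℕ) = d₁ from Subsingleton.elim _ _]
      exact not_not.1 hd₁
    exact Ideal.IsPrime.ne_top' (q.eq_top_of_isUnit_mem hfq hu)
  | succ n =>
    obtain ⟨ε, hε⟩ := RamanujamSamuel.exists_equiv_regular f ⟨d₁, hd₁⟩
    obtain ⟨hdom, hn⟩ := RamanujamSamuel.isIntegrallyClosed_mvPowerSeries A n
    have : IsAdicComplete (maximalIdeal (MvPowerSeries (Fin n) A)) (MvPowerSeries (Fin n) A) :=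
      Groth.ArtfunDeform.isAdicComplete_ps
    exact isParafactorial ε.symm hε q (by rw [RingEquiv.symm_apply_apply]; exact hfq) hdim

end Groth.ParaFormal.PowerSeriesCase
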