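/-
Local rings of power series rings over complete Noetherian local rings in depth at least three are
parafactorial.
-/
import Groth.Agent.ParaFormal.FibreCurveReg
import Groth.Agent.ParaFormal.PowerSeriesCase
import Groth.Agent.Ega4Algebra2.DepthFlat
import Groth.Agent.Calg4.RegularAscent

set_option autoImplicit false
universe u

open IsLocalRing

namespace Groth.ParaFormal.PowerSeriesReg

open PowerSeriesCase

variable {A B : Type u} [CommRing A] [IsNoetherianRing A] [IsLocalRing A]
  [IsAdicComplete (maximalIdeal A) A] [CommRing B]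

open Polynomial in
theorem isParafactorial (e : PowerSeries A ≃+* B) {g : PowerSeries A} (hg : g.map (residue A) ≠ 0)
    (q : Ideal B) [q.IsPrime] (hgq : e g ∈ q)
    (hdepth : (3 : ℕ∞) ≤ LocCoh.depth (Localization.AtPrime q) (Localization.AtPrime q)) :
    ParaF.IsParafactorialLocalRing (Localization.AtPrime q) := by
  classical
  have : IsNoetherianRing B := isNoetherianRing_of_ringEquiv _ e
  set i : A →+* B := e.toRingHom.comp PowerSeries.C with hi
  set T : B := e PowerSeries.X with hT
  set p := q.comap i with hp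
  let R := Localization.AtPrime q
  let R' := Localization.AtPrime p
  let φ : R' →+* R := Localization.localRingHom p q i rfl
  let algR : Algebra R' R := φ.toAlgebra
  have : IsLocalHom (algebraMap R' R) := inferInstanceAs (IsLocalHom (Localization.localRingHom p q i rfl))
  have hiflat : i.Flat := RingHom.Flat.comp (flat_powerSeries A) (RingHom.Flat.of_bijective e.bijective)
  have hφflat : φ.Flat := RingHom.Flat.localRingHom hiflat q p rfl
  have : Module.Flat R' R := hφflat
  set LB := algebraMap B R with hLB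
  set LA := algebraMap A R' with hLA
  have hφ : ∀ c, algebraMap R' R (LA c) = LB (i c) := fun c => Localization.localRingHom_to_map p q i rfl c
  -- the fibre
  have hpq : p.map i ≤ q := Ideal.map_comap_le
  have hker : ∀ P₀ : Ideal A, P₀.map i = (P₀.map (PowerSeries.C : A →+* PowerSeries A)).map e.toRingHom := fun P₀ =>
    (Ideal.map_map _ _).symm
  have hprime : ∀ P₀ : Ideal A, P₀.IsPrime → (P₀.map i).IsPrime := by
    intro P₀ hP₀
    have : (P₀.map (PowerSeries.C : A →+* PowerSeries A)).IsPrime := by
      rw [ker_map_mk]; exact RingHom.ker_isPrime _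
    rw [hker]
    exact Ideal.map_isPrime_of_equiv e
  have hpB := hprime p inferInstance
  set r : Ideal R := (p.map i).map LB with hr
  have hdisj : Disjoint (q.primeCompl : Set B) (p.map i : Set B) :=
    Set.disjoint_left.2 fun x hx hx' => hx (hpq hx')
  have : r.IsPrime := IsLocalization.isPrime_of_isPrime_disjoint q.primeCompl R _ hpB hdisj
  have hrdef : r = (maximalIdeal R').map (algebraMap R' R) := by
    rw [← Localization.AtPrime.map_eq_maximalIdeal, Ideal.map_map, hr, Ideal.map_map]
    exact congrArg (fun h => Ideal.map h p) (RingHom.ext hφ).symm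
  have hrcomap : r.comap LB = p.map i :=
    IsLocalization.comap_map_of_isPrime_disjoint q.primeCompl R hpB hdisj
  have hgp : e g ∉ p.map i := by
    intro hgp
    rw [hker] at hgp
    obtain ⟨g', hg', he⟩ := (Ideal.mem_map_iff_of_surjective e.toRingHom e.surjective).1 hgp
    obtain rfl : g' = g := e.injective he
    refine hg (PowerSeries.ext fun n => ?_)
    rw [PowerSeries.coeff_map, map_zero, residue_eq_zero_iff]
    exact le_maximalIdeal (Ideal.IsPrime.ne_top (I := p) inferInstance) ((mem_map_C (IsNoetherian.noetherian p)).1 hg' n)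
  have hrm : r ≠ maximalIdeal R := by
    intro h
    refine hgp ?_
    rw [← hrcomap, Ideal.mem_comap, h]
    exact (IsLocalization.AtPrime.to_map_mem_maximal_iff R q _).2 hgq
  -- primes between the fibre and `q`
  have hmem : ∀ c ∈ p, i c ∈ p.map i := fun c hc => Ideal.mem_map_of_mem i hc
  have hincomp : ∀ P : Ideal B, P.IsPrime → p.map i ≤ P → e g ∈ P → P ≤ q → P = q := by
    intro P hP hpP hgP hPq
    refine eq_of_le_of_not_lt hPq fun hlt => ?_
    let Bg := B ⧸ Ideal.span {e g}
    let mk := Ideal.Quotient.mk (Ideal.span {e g})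
    let algA : Algebra A Bg := (mk.comp i).toAlgebra
    obtain ⟨hdiv, ν, hν, hν'⟩ := weierstrass e hg
    have : Algebra.IsIntegral A Bg := ⟨fun z => by
      obtain ⟨z, rfl⟩ := Ideal.Quotient.mk_surjective z
      obtain ⟨Q, hQ⟩ := hdiv z
      have hTi : IsIntegral A (mk T) := ⟨ν, hν, by
        rw [show algebraMap A Bg = mk.comp i from rfl, ← Polynomial.hom_eval₂]
        exact Ideal.Quotient.eq_zero_iff_mem.2 hν'⟩
      have : mk z = aeval (mk T) Q := by
        rw [aeval_def, show algebraMap A Bg = mk.comp i from rfl, ← Polynomial.hom_eval₂]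
        exact Ideal.Quotient.eq.2 hQ
      rw [show Ideal.Quotient.mk _ z = mk z from rfl, this]
      exact (Algebra.adjoin_le (S := integralClosure A Bg) (Set.singleton_subset_iff.2 hTi)
        (aeval_mem_adjoin_singleton A _) : _)⟩
    have hgP' : Ideal.span {e g} ≤ P := (Ideal.span_singleton_le_iff_mem _).2 hgP
    have hgq' : Ideal.span {e g} ≤ q := (Ideal.span_singleton_le_iff_mem _).2 hgq
    have hcm : ∀ K : Ideal B, Ideal.span {e g} ≤ K → (K.map mk).comap mk = K := fun K hK => by
      rw [Ideal.comap_map_of_surjective _ Ideal.Quotient.mk_surjective, ← RingHom.ker_eq_comap_bot, Ideal.mk_ker,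
        sup_eq_left.2 hK]
    have : (P.map mk).IsPrime := Ideal.map_isPrime_of_surjective Ideal.Quotient.mk_surjective (by rwa [Ideal.mk_ker])
    have hlt' : P.map mk < q.map mk := lt_of_le_of_ne (Ideal.map_mono hPq) fun h =>
      hlt.ne (by rw [← hcm P hgP', h, hcm q hgq'])
    have h1 := Ideal.IsIntegral.comap_lt_comap (R := A) hlt'
    have hcc : ∀ K : Ideal Bg, K.comap (mk.comp i) = (K.comap mk).comap i := fun K => (Ideal.comap_comap _ _).symm
    rw [show algebraMap A Bg = mk.comp i from rfl, hcc, hcc, hcm P hgP', hcm q hgq'] at h1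
    exact h1.not_ge (fun c hc => hpP (hmem c hc))
  have hchain : ∀ P : Ideal B, P.IsPrime → p.map i < P → P ≤ q → P = q := by
    intro P hP hlt hPq
    let mk := Ideal.Quotient.mk (p.map i)
    have hcm : ∀ K : Ideal B, p.map i ≤ K → (K.map mk).comap mk = K := fun K hK => by
      rw [Ideal.comap_map_of_surjective _ Ideal.Quotient.mk_surjective, ← RingHom.ker_eq_comap_bot, Ideal.mk_ker,
        sup_eq_left.2 hK]
    have hPp : (P.map mk).IsPrime := Ideal.map_isPrime_of_surjective Ideal.Quotient.mk_surjective (by rw [Ideal.mk_ker]; exact hlt.le)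
    have hqp : (q.map mk).IsPrime := Ideal.map_isPrime_of_surjective Ideal.Quotient.mk_surjective (by rw [Ideal.mk_ker]; exact hpq)
    have hmin : q.map mk ∈ (Ideal.span {mk (e g)}).minimalPrimes := by
      refine ⟨⟨hqp, (Ideal.span_singleton_le_iff_mem _).2 (Ideal.mem_map_of_mem _ hgq)⟩, fun K hK hKq => ?_⟩
      have hKp := hK.1
      have h1 : p.map i ≤ K.comap mk := fun c hc => by
        rw [Ideal.mem_comap, Ideal.Quotient.eq_zero_iff_mem.2 hc]; exact Submodule.zero_mem _
      have h2 := hincomp (K.comap mk) inferInstance h1 (hK.2 (Ideal.mem_span_singleton_self _))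
        ((Ideal.comap_mono hKq).trans (hcm q hpq).le)
      rw [← h2, Ideal.map_comap_of_surjective _ Ideal.Quotient.mk_surjective]
    have hq1 := Ideal.height_le_one_of_isPrincipal_of_mem_minimalPrimes _ _ hmin
    refine eq_of_le_of_not_lt hPq fun hlt2 => ?_
    have hlt' : P.map mk < q.map mk := lt_of_le_of_ne (Ideal.map_mono hPq) fun h =>
      hlt2.ne (by rw [← hcm P hlt.le, h, hcm q hpq])
    have h3 := Ideal.height_strict_mono_of_isPrime hlt'
    have h4 : (P.map mk).height = 0 := Order.lt_one_iff.1 (h3.trans_le hq1)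
    have h5 : P.map mk = ⊥ := Ideal.height_eq_zero_iff_eq_bot.1 h4
    exact hlt.not_ge fun c hc => Ideal.Quotient.eq_zero_iff_mem.1 ((Submodule.eq_bot_iff _).1 h5 _ (Ideal.mem_map_of_mem mk hc))
  -- generation of the fibres
  have hgen : ∀ a ∉ r, (∀ z : R, ∃ P : R'[X], z - aeval (LB T) P ∈ Ideal.span {a} ⊔ r) ∧
      ∃ P : R'[X], P.Monic ∧ aeval (LB T) P ∈ Ideal.span {a} ⊔ r := by
    intro a ha
    set J := Ideal.span {a} ⊔ r with hJ
    obtain ⟨k, hk⟩ : ∃ k : ℕ, LB (e g) ^ k ∈ J := by
      have : LB (e g) ∈ J.radical := by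
        rw [Ideal.radical_eq_sInf, Ideal.mem_sInf]
        rintro K ⟨hJK, hK⟩
        have hP : K.comap LB ≤ q := fun c hc => by
          by_contra hcq
          exact hK.ne_top (K.eq_top_of_isUnit_mem hc (IsLocalization.map_units R (⟨c, hcq⟩ : q.primeCompl)))
        have hlt : p.map i < K.comap LB := by
          refine lt_of_le_of_ne (hrcomap ▸ Ideal.comap_mono (le_sup_right.trans hJK)) fun h => ha ?_
          have h1 : a ∈ K := hJK (Submodule.mem_sup_left (Ideal.mem_span_singleton_self a))
          rw [hr, h, IsLocalization.map_comap q.primeCompl]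
          exact h1
        rw [← Ideal.mem_comap, hchain (K.comap LB) inferInstance hlt hP]
        exact hgq
      exact this
    have hgk : (g ^ k).map (residue A) ≠ 0 := by rw [map_pow]; exact pow_ne_zero _ hg
    obtain ⟨hdiv, ν, hν, hν'⟩ := weierstrass e hgk
    have hgkJ : ∀ z ∈ Ideal.span {e (g ^ k)}, LB z ∈ J := fun z hz => by
      obtain ⟨c, rfl⟩ := Ideal.mem_span_singleton'.1 hz
      rw [map_mul, map_pow e, map_pow LB]
      exact J.mul_mem_left _ hk
    have hev : ∀ P : A[X], aeval (LB T) (P.map LA) = LB (P.eval₂ i T) := fun P => by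
      rw [aeval_def, eval₂_map, Polynomial.hom_eval₂]
      exact congrArg (fun h => eval₂ h (LB T) P) (RingHom.ext hφ)
    have hB : ∀ z : B, ∃ P : R'[X], LB z - aeval (LB T) P ∈ J := fun z => by
      obtain ⟨P, hP⟩ := hdiv z
      exact ⟨P.map LA, by rw [hev, ← map_sub]; exact hgkJ _ hP⟩
    have hmonic : aeval (LB T) (ν.map LA) ∈ J := by rw [hev]; exact hgkJ _ hν'
    refine ⟨fun z => ?_, ν.map LA, hν.map LA, hmonic⟩
    obtain ⟨b, s, rfl⟩ := IsLocalization.exists_mk'_eq q.primeCompl z
    let mk := Ideal.Quotient.mkₐ R' J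
    have htint : IsIntegral R' (mk (LB T)) := ⟨ν.map LA, hν.map LA, by
      rw [← aeval_def, aeval_algHom_apply]; exact Ideal.Quotient.eq_zero_iff_mem.2 hmonic⟩
    obtain ⟨Ps, hPs⟩ := hB s
    obtain ⟨Pb, hPb⟩ := hB b
    have hsu : IsUnit (mk (LB s)) := (IsLocalization.map_units R s).map mk
    have hs_eq : mk (LB s) = aeval (mk (LB T)) Ps := by
      rw [aeval_algHom_apply]; exact Ideal.Quotient.eq.2 hPs
    have hsint : IsIntegral R' (mk (LB s)) := by
      rw [hs_eq]
      exact (Algebra.adjoin_le (S := integralClosure R' (R ⧸ J)) (Set.singleton_subset_iff.2 htint)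
        (aeval_mem_adjoin_singleton R' _) : _)
    obtain ⟨Q, hQ, hQs⟩ := hsint
    rw [← aeval_def] at hQs
    have hm0 : ∀ c ∈ maximalIdeal R', algebraMap R' (R ⧸ J) c = 0 := fun c hc =>
      Ideal.Quotient.eq_zero_iff_mem.2 (Submodule.mem_sup_right (hrdef ▸ Ideal.mem_map_of_mem _ hc))
    have hinv : ∀ (n : ℕ) (Q : R'[X]), Q.natDegree ≤ n → (∃ j, Q.coeff j ∉ maximalIdeal R') →
        aeval (mk (LB s)) Q = 0 → ∃ H : R'[X], mk (LB s) * aeval (mk (LB s)) H = 1 := by
      intro n
      induction n with
      | zero =>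
        intro Q hd hj h0
        rw [eq_C_of_natDegree_le_zero hd] at hj h0
        obtain ⟨j, hj⟩ := hj
        rw [aeval_C] at h0
        have hu : IsUnit (Q.coeff 0) := by
          refine not_not.1 fun hu => hj ?_
          rw [coeff_C]; split_ifs
          · exact hu
          · exact Submodule.zero_mem _
        have hone : IsUnit (algebraMap R' (R ⧸ J) (Q.coeff 0)) := hu.map _
        rw [h0, isUnit_zero_iff] at hone
        exact ⟨0, by rw [map_zero, mul_zero, hone]⟩
      | succ n ih =>
        intro Q hd hj h0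
        have hsplit : aeval (mk (LB s)) Q = mk (LB s) * aeval (mk (LB s)) Q.divX + algebraMap R' _ (Q.coeff 0) := by
          conv_lhs => rw [← X_mul_divX_add Q]
          rw [map_add, map_mul, aeval_X, aeval_C]
        by_cases hc : Q.coeff 0 ∈ maximalIdeal R'
        · rw [hsplit, hm0 _ hc, add_zero, hsu.mul_right_eq_zero] at h0
          obtain ⟨j, hj⟩ := hj
          cases j with
          | zero => exact absurd hc hj
          | succ j =>
            refine ih Q.divX ?_ ⟨j, by rwa [coeff_divX]⟩ h0
            rw [natDegree_divX_eq_natDegree_tsub_one]; omega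
        · obtain ⟨w, hw⟩ := not_not.1 hc
          refine ⟨C (-(↑w⁻¹ : R')) * Q.divX, ?_⟩
          rw [hsplit, ← hw] at h0
          have h6 : algebraMap R' (R ⧸ J) ↑w⁻¹ * algebraMap R' (R ⧸ J) ↑w = 1 := by
            rw [← map_mul, Units.inv_mul, map_one]
          rw [map_mul, aeval_C, map_neg]
          linear_combination (-algebraMap R' (R ⧸ J) ↑w⁻¹) * h0 + h6
    obtain ⟨H, hH⟩ := hinv _ Q le_rfl ⟨Q.natDegree, by
      rw [hQ.coeff_natDegree]; exact fun h => (maximalIdeal.isMaximal R').ne_top ((Ideal.eq_top_iff_one _).2 h)⟩ hQs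
    refine ⟨Pb * H.comp Ps, ?_⟩
    rw [← Ideal.Quotient.eq_zero_iff_mem]
    change mk _ = 0
    rw [map_sub, sub_eq_zero, map_mul, aeval_comp, map_mul, ← aeval_algHom_apply, ← aeval_algHom_apply,
      ← aeval_algHom_apply mk (LB T) Ps, ← hs_eq]
    have hb_eq : mk (LB b) = aeval (mk (LB T)) Pb := by
      rw [aeval_algHom_apply]; exact Ideal.Quotient.eq.2 hPb
    rw [← hb_eq, ← IsLocalization.mk'_spec R b s, map_mul, mul_assoc, hH, mul_one]
  -- depth of the base
  have hloc : IsLocalRing (R ⧸ (maximalIdeal R').map (algebraMap R' R)) := by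
    have : Nontrivial (R ⧸ (maximalIdeal R').map (algebraMap R' R)) := Ideal.Quotient.nontrivial_iff.2
      (hrdef ▸ Ideal.IsPrime.ne_top (I := r) inferInstance)
    exact IsLocalRing.of_surjective' _ Ideal.Quotient.mk_surjective
  have hF1 : ringKrullDim (R ⧸ (maximalIdeal R').map (algebraMap R' R)) ≤ 1 := by
    rw [← hrdef]
    have : Ring.KrullDimLE 1 (R ⧸ r) := by
      refine Ring.krullDimLE_one_iff_of_noZeroDivisors.mpr fun P hP hPp => ?_
      have hP' : (P.comap (Ideal.Quotient.mk r)).comap LB = q := by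
        refine hchain _ inferInstance ?_ fun c hc => ?_
        · rw [← hrcomap]
          refine lt_of_le_of_ne (Ideal.comap_mono fun c hc => ?_) fun h => hP ((Submodule.eq_bot_iff _).2 fun z hz => ?_)
          · rw [Ideal.mem_comap, Ideal.Quotient.eq_zero_iff_mem.2 hc]; exact Submodule.zero_mem _
          · obtain ⟨z, rfl⟩ := Ideal.Quotient.mk_surjective z
            refine Ideal.Quotient.eq_zero_iff_mem.2 ?_
            have h' : r = P.comap (Ideal.Quotient.mk r) :=
              ((IsLocalization.map_comap q.primeCompl R r).symm.trans (congrArg (Ideal.map LB) h)).trans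
                (IsLocalization.map_comap q.primeCompl R _)
            exact h'.symm ▸ hz
        · by_contra hcq
          exact (Ideal.IsPrime.ne_top (I := P.comap (Ideal.Quotient.mk r)) inferInstance)
            (Ideal.eq_top_of_isUnit_mem _ hc (IsLocalization.map_units R (⟨c, hcq⟩ : q.primeCompl)))
      have hmax : P.comap (Ideal.Quotient.mk r) = maximalIdeal R := by
        rw [← IsLocalization.map_comap q.primeCompl R (P.comap (Ideal.Quotient.mk r)), ← Localization.AtPrime.map_eq_maximalIdeal]
        exact congrArg (Ideal.map LB) hP'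
      rw [← Ideal.map_comap_of_surjective (Ideal.Quotient.mk r) Ideal.Quotient.mk_surjective P, hmax]
      refine (Ideal.map_eq_top_or_isMaximal_of_surjective _ Ideal.Quotient.mk_surjective
        (maximalIdeal.isMaximal R)).resolve_left fun h => hPp.ne_top ?_
      rw [← Ideal.map_comap_of_surjective (Ideal.Quotient.mk r) Ideal.Quotient.mk_surjective P, hmax]
      exact h
    exact Ring.krullDimLE_iff.1 this
  have hd2 : (2 : ℕ∞) ≤ LocCoh.depth R' R' := by
    have h1 := Groth.Ega4b.depth_eq_add_of_flat R' R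
    have h2 : LocCoh.depth (R ⧸ (maximalIdeal R').map (algebraMap R' R))
        (R ⧸ (maximalIdeal R').map (algebraMap R' R)) ≤ 1 :=
      WithBot.coe_le_coe.1 ((Groth.Calg4.depth_le_ringKrullDim _).trans hF1)
    have h3 : (3 : ℕ∞) ≤ LocCoh.depth R' R' + 1 := by
      refine hdepth.trans ?_
      rw [h1]
      exact add_le_add_right h2 _
    exact (ENat.add_le_add_iff_right ENat.one_ne_top).1 (le_trans (by norm_num) h3)
  exact FibreCurveReg.isParafactorial r hrdef hrm hd2 (LB T) (fun a ha => (hgen a ha).1)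
    fun a ha => (hgen a ha).2

/-- The several variables case. -/
theorem isParafactorial_mv (A : Type u) [CommRing A] [IsNoetherianRing A] [IsLocalRing A]
    [IsAdicComplete (maximalIdeal A) A] (n : ℕ) (q : Ideal (MvPowerSeries (Fin n) A)) [q.IsPrime]
    (hqm : ¬ q ≤ (maximalIdeal A).map (MvPowerSeries.C : A →+* MvPowerSeries (Fin n) A))
    (hdepth : (3 : ℕ∞) ≤ LocCoh.depth (Localization.AtPrime q) (Localization.AtPrime q)) :
    ParaF.IsParafactorialLocalRing (Localization.AtPrime q) := by
  obtain ⟨f, hfq, hfm⟩ := SetLike.not_le_iff_exists.1 hqm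
  obtain ⟨d₁, hd₁⟩ : ∃ d, MvPowerSeries.coeff d f ∉ maximalIdeal A := by
    by_contra! h
    exact hfm (RamanujamSamuel.mem_map_C_of_coeff (IsNoetherian.noetherian _) h)
  cases n with
  | zero =>
    exfalso
    have hu : IsUnit f := by
      rw [MvPowerSeries.isUnit_iff_constantCoeff, ← MvPowerSeries.coeff_zero_eq_constantCoeff_apply,
        show (0 : Fin 0 →₀ ℕ) = d₁ from Subsingleton.elim _ _]
      exact not_not.1 hd₁
    exact Ideal.IsPrime.ne_top' (q.eq_top_of_isUnit_mem hfq hu)
  | succ n =>
    obtain ⟨ε, hε⟩ := RamanujamSamuel.exists_equiv_regular f ⟨d₁, hd₁⟩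
    have : IsAdicComplete (maximalIdeal (MvPowerSeries (Fin n) A)) (MvPowerSeries (Fin n) A) :=
      Groth.ArtfunDeform.isAdicComplete_ps
    exact isParafactorial ε.symm hε q (by rw [RingEquiv.symm_apply_apply]; exact hfq) hdepth

end Groth.ParaFormal.PowerSeriesReg
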