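import Groth.Agent.ParaFormal.StalkSpread
import Groth.Agent.RefRank.DepthTwo
import Groth.Agent.RefRank.Extend
import Groth.Agent.PicAux.Hartogs
import Groth.Agent.S2824
import Groth.Agent.S2829
import Mathlib.RingTheory.Ideal.Height

/-!
# Parafactoriality is checked on local rings
-/

set_option autoImplicit false
universe u

open CategoryTheory AlgebraicGeometry Opposite TopologicalSpace

namespace Groth.ParaFormal

open Groth.PicAux

section Depth

theorem two_le_depth_of_hart {X : Scheme.{u}} [IsLocallyNoetherian X] {C : X.Opens} (h : HartX C)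
    {x : X} (hx : x ∉ C) : (2 : ℕ∞) ≤ LocCoh.depth (X.presheaf.stalk x) (X.presheaf.stalk x) := by
  have hd := Groth.RefRank.two_le_depth_of_resBij (U := C) Groth.QCohMod.isCoh_unit (G := Coh.structureModule X) h hx
  exact hd.trans (Groth.LocCohBase.idealDepth_congr (Groth.RefRank.oneEquiv x).symm).le

/-- Functions on the spectrum extend across the closed point in depth two. -/
theorem bijective_punctured_of_depth (A : Type u) [CommRing A] [IsNoetherianRing A] [IsLocalRing A]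
    (hd : (2 : ℕ∞) ≤ LocCoh.depth A A) :
    Function.Bijective ((Spec (CommRingCat.of A)).presheaf.map
      (homOfLE (le_top : FEt.puncturedSpec A ≤ ⊤)).op) := by
  have : QuasiCompact (FEt.puncturedSpec A).ι := inferInstance
  obtain ⟨a, b, ha, hb, hab⟩ := exists_regular_pair hd
  have hZ : ∀ z : ↥(Spec (CommRingCat.of A)), z ∉ FEt.puncturedSpec A →
      ∃ a b : (Spec (CommRingCat.of A)).presheaf.stalk z,
        a ∈ IsLocalRing.maximalIdeal _ ∧ b ∈ IsLocalRing.maximalIdeal _ ∧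
        RingTheory.Sequence.IsWeaklyRegular ((Spec (CommRingCat.of A)).presheaf.stalk z) [a, b] := by
    intro z hz
    obtain rfl : z = IsLocalRing.closedPoint A := not_not.1 hz
    let L := (Spec (CommRingCat.of A)).presheaf.stalk (IsLocalRing.closedPoint A)
    let _ : Algebra A L := StructureSheaf.stalkAlgebra A (IsLocalRing.closedPoint A)
    have : IsLocalization.AtPrime L (IsLocalRing.maximalIdeal A) :=
      StructureSheaf.IsLocalization.to_stalk A (IsLocalRing.closedPoint A)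
    let e : A ≃ₐ[A] L := IsLocalization.atUnits A (IsLocalRing.maximalIdeal A).primeCompl
      (fun x hx => not_not.1 fun h => hx (mem_nonunits_iff.2 h))
    have he : ∀ x ∈ IsLocalRing.maximalIdeal A, e x ∈ IsLocalRing.maximalIdeal L := fun x hx hu => hx (by
      simpa using hu.map e.symm)
    exact ⟨e a, e b, he a ha, he b hb, (e.toLinearEquiv.toAddEquiv.isWeaklyRegular_congr
      (List.Forall₂.cons (fun y => map_mul e a y) (List.Forall₂.cons (fun y => map_mul e b y) List.Forall₂.nil))).1 hab⟩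
  exact Groth.Misc7.DepthTwo.bijective_restrict hZ (isAffineOpen_top _) (by rw [top_inf_eq]) _

theorem hart_of_depth {X : Scheme.{u}} [IsLocallyNoetherian X] {C : X.Opens}
    (h : ∀ x : X, x ∉ C → (2 : ℕ∞) ≤ LocCoh.depth (X.presheaf.stalk x) (X.presheaf.stalk x)) :
    HartX C := by
  refine hart_of_cover (fun x : X => (X.affineCover.f (X.affineCover.idx x)).opensRange)
    (eq_top_iff.2 fun x _ => Opens.mem_iSup.2 ⟨x, X.affineCover.covers x⟩) C fun _ V _ => ?_
  have : QuasiCompact C.ι := inferInstance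
  have hZ := fun z hz => exists_regular_pair (h z hz)
  have hA : FunBij C.ι := funBij_of_affine fun W hW =>
    (resX_bijective_congr (C.ι.image_preimage_le W) inf_le_left
      (by rw [Scheme.Hom.image_preimage_eq_opensRange_inf, Scheme.Opens.opensRange_ι, inf_comm])).2
      (Groth.Misc7.DepthTwo.bijective_restrict hZ hW rfl (homOfLE inf_le_left))
  exact (resX_bijective_congr (C.ι.image_preimage_le V) inf_le_left
    (by rw [Scheme.Hom.image_preimage_eq_opensRange_inf, Scheme.Opens.opensRange_ι, inf_comm])).1 (hA V)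

end Depth

/-- Being a unit is local. -/
theorem isUnit_of_isUnit_res {X : Scheme.{u}} {κ : Type*} {U : X.Opens} (V : κ → X.Opens)
    (hV : ∀ i, V i ≤ U) (hc : U ≤ iSup V) {s : Γ(X, U)} (h : ∀ i, IsUnit (resX X (hV i) s)) :
    IsUnit s := by
  refine X.toRingedSpace.isUnit_of_isUnit_germ U s fun z hz => ?_
  obtain ⟨i, hi⟩ := Opens.mem_iSup.1 (hc hz)
  have := (h i).map (X.presheaf.germ (V i) z hi).hom
  rwa [show X.presheaf.germ (V i) z hi (resX X (hV i) s) = X.presheaf.germ U z hz s from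
    X.presheaf.germ_res_apply (homOfLE (hV i)) z hi s] at this

variable {X : Scheme.{u}} [IsLocallyNoetherian X]

/-- The trace of `C` on the spectrum of the local ring at a point outside `C`. -/
theorem preimage_le_punctured {x : X} {U : X.Opens} (hx : x ∉ U) :
    X.fromSpecStalk x ⁻¹ᵁ U ≤ FEt.puncturedSpec (X.presheaf.stalk x) := fun y hy h => hx (by
  have h' : y = IsLocalRing.closedPoint _ := h
  subst h'
  simpa using hy)

theorem preimage_iSup_eq {x : X} {ι : Type u} (U : ι → X.Opens) :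
    X.fromSpecStalk x ⁻¹ᵁ iSup U = ⨆ a, X.fromSpecStalk x ⁻¹ᵁ U a :=
  Scheme.Hom.preimage_iSup _ _

/-- The complement of the closure of a point. -/
def notSpec (x : X) : X.Opens := ⟨(closure {x})ᶜ, isClosed_closure.isOpen_compl⟩

theorem mem_notSpec {x y : X} : y ∈ notSpec x ↔ ¬ x ⤳ y := by
  rw [specializes_iff_mem_closure]
  exact Iff.rfl

/-- Parafactorial pairs have parafactorial local rings. -/
theorem local_of_pair {Y : Closeds ↥X} (h : ParaF.IsParafactorialPair X Y) {x : X} (hx : x ∈ Y) :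
    ParaF.IsParafactorialLocalRing (X.presheaf.stalk x) := by
  rw [Groth.Agent.S2824.result]
  refine ⟨bijective_punctured_of_depth _ (two_le_depth_of_hart ((pair_iff X Y).1 h).1 fun hC => hC hx),
    fun L hL => ?_⟩
  let Y' : Closeds ↥X := ⟨closure {x}, isClosed_closure⟩
  have h' : ParaF.IsParafactorialPair X Y' :=
    Groth.Agent.S2829.result X Y Y' (closure_minimal (Set.singleton_subset_iff.2 hx) Y.isClosed) h
  obtain ⟨D, hD, hxD, -⟩ := exists_isAffineOpen_mem_and_subset (x := x) (U := ⊤) trivial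
  let f := X.fromSpecStalk x
  let P := FEt.puncturedSpec (X.presheaf.stalk x)
  have htop := fromSpecStalk_preimage_eq_top (D := D) hxD
  let _ : Algebra Γ(X, D) (X.presheaf.stalk x) :=
    TopCat.Presheaf.algebra_section_stalk X.presheaf (⟨x, hxD⟩ : D)
  let q := (hD.primeIdealOf ⟨x, hxD⟩).asIdeal
  have : IsLocalization.AtPrime (X.presheaf.stalk x) q := hD.isLocalization_stalk ⟨x, hxD⟩
  have happ : ∀ (v : Γ(X, D)) (z : Spec (X.presheaf.stalk x)),
      z ∈ f ⁻¹ᵁ X.basicOpen v ↔ algebraMap Γ(X, D) (X.presheaf.stalk x) v ∉ z.asIdeal := by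
    intro v z
    rw [Scheme.preimage_basicOpen, Scheme.fromSpecStalk_app hxD]
    change z ∈ (Spec (X.presheaf.stalk x)).basicOpen ((Spec (X.presheaf.stalk x)).presheaf.map _
      ((Scheme.ΓSpecIso (X.presheaf.stalk x)).inv (X.presheaf.germ D x hxD v))) ↔ _
    rw [Scheme.basicOpen_res, htop, top_inf_eq]
    exact (SetLike.ext_iff.1 (basicOpen_eq_of_affine (R := X.presheaf.stalk x) _) z).trans
      (PrimeSpectrum.mem_basicOpen _ z)
  -- bases on finitely many basic opens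
  obtain ⟨V, e₀, hV, hzV, he₀⟩ := exists_gen_cover hL
  have hloc : ∀ z : (P : Scheme.{u}), ∃ v : Γ(X, D), z.1 ∈ f ⁻¹ᵁ X.basicOpen v ∧
      f ⁻¹ᵁ X.basicOpen v ≤ P.ι ''ᵁ V z := by
    intro z
    obtain ⟨_, ⟨r, rfl⟩, hzr, hr⟩ := PrimeSpectrum.isTopologicalBasis_basic_opens.exists_subset_of_mem_open
      (show z.1 ∈ P.ι ''ᵁ V z from ⟨z, hzV z, rfl⟩) (P.ι ''ᵁ V z).2
    obtain ⟨⟨v, s⟩, hvs⟩ := IsLocalization.surj q.primeCompl r
    dsimp only at hvs
    have hu := IsLocalization.map_units (X.presheaf.stalk x) s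
    have hz' : z.1 ∈ PrimeSpectrum.basicOpen r := hzr
    replace hz' : r ∉ z.1.asIdeal := (PrimeSpectrum.mem_basicOpen r z.1).1 hz'
    refine ⟨v, (happ v z.1).2 ?_, fun y hy => hr ?_⟩
    · rw [← hvs]
      exact fun hm => hz' ((Ideal.mul_unit_mem_iff_mem _ hu).1 hm)
    · have hy' := (happ v y).1 hy
      rw [← hvs] at hy'
      exact (PrimeSpectrum.mem_basicOpen r y).2 fun hm => hy' (Ideal.mul_mem_right _ _ hm)
  choose v hzv hvV using hloc
  have hcpt : IsCompact (P : Set (Spec (X.presheaf.stalk x))) :=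
    TopologicalSpace.NoetherianSpace.isCompact _
  obtain ⟨T, hT⟩ := hcpt.elim_finite_subcover (fun z : (P : Scheme.{u}) => (f ⁻¹ᵁ X.basicOpen (v z) : Set ↥(Spec (X.presheaf.stalk x))))
    (fun z => (f ⁻¹ᵁ X.basicOpen (v z)).2) fun z hz => Set.mem_iUnion.2 ⟨⟨z, hz⟩, hzv ⟨z, hz⟩⟩
  let g : T → Γ(X, D) := fun a => v a.1
  let U' : T → (Spec (X.presheaf.stalk x)).Opens := fun a => f ⁻¹ᵁ X.basicOpen (g a)
  have hU'P : ∀ a, U' a ≤ P := fun a => (hvV a.1).trans (by
    rintro _ ⟨y, -, rfl⟩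
    exact y.2)
  have hcov : P ≤ iSup U' := fun z hz => by
    obtain ⟨a, ha, ha'⟩ := Set.mem_iUnion₂.1 (hT hz)
    exact Opens.mem_iSup.2 ⟨⟨a, ha⟩, ha'⟩
  have hle : ∀ a : T, P.ι ⁻¹ᵁ U' a ≤ V a.1 := fun a y hy => by
    obtain ⟨y', hy', hyy⟩ := hvV a.1 hy
    rwa [← P.ι.isOpenEmbedding.injective hyy]
  obtain ⟨η', hη', hF⟩ := exists_cocycle (L := L) (e := fun a => res L (hle a) (e₀ a.1)) hU'P
    fun a => (he₀ a.1).res (hle a)
  obtain ⟨O₁, hxO₁, hO₁⟩ := exists_cocycle_lift hD hxD g hη'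
  -- near `x` the basic opens cover the complement of the closure
  have hgq : ∀ a, g a ∈ q := fun a => by
    by_contra hc
    refine hU'P a ((happ (g a) (IsLocalRing.closedPoint _)).2 fun hm => hm ?_) rfl
    exact IsLocalization.map_units (X.presheaf.stalk x) (⟨g a, hc⟩ : q.primeCompl)
  have : IsNoetherianRing Γ(X, D) := IsLocallyNoetherian.component_noetherian ⟨D, hD⟩
  obtain ⟨G, hG⟩ := IsNoetherian.noetherian q
  let I := Ideal.span (Set.range g)
  have hrad : ∀ t ∈ G, ∃ (s : Γ(X, D)) (N : ℕ), s ∉ q ∧ s * t ^ N ∈ I := by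
    intro t ht
    have htq : t ∈ q := hG ▸ Submodule.subset_span ht
    have hmem : algebraMap Γ(X, D) (X.presheaf.stalk x) t ∈
        (I.map (algebraMap Γ(X, D) (X.presheaf.stalk x))).radical := by
      rw [Ideal.radical_eq_sInf, Ideal.mem_sInf]
      rintro J ⟨hIJ, hJ⟩
      by_contra hc
      have hz : (⟨J, hJ⟩ : PrimeSpectrum (X.presheaf.stalk x)) ∈ P := fun hcp => hc (by
        have e : J = IsLocalRing.maximalIdeal _ := congrArg PrimeSpectrum.asIdeal hcp
        rw [e]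
        exact (IsLocalization.AtPrime.to_map_mem_maximal_iff (X.presheaf.stalk x) q t).2 htq)
      obtain ⟨a, ha⟩ := Opens.mem_iSup.1 (hcov hz)
      exact (happ (g a) _).1 ha (hIJ (Ideal.mem_map_of_mem _ (Ideal.subset_span ⟨a, rfl⟩)))
    obtain ⟨N, hN⟩ := hmem
    rw [← map_pow] at hN
    obtain ⟨s, hs, hst⟩ :=
      (IsLocalization.algebraMap_mem_map_algebraMap_iff q.primeCompl (X.presheaf.stalk x) I (t ^ N)).1 hN
    exact ⟨s, N, hs, hst⟩
  choose! s N hs hst using hrad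
  classical
  have hxs : x ∈ X.basicOpen (∏ t ∈ G, s t) :=
    (X.mem_basicOpen _ x hxD).2 (IsLocalization.map_units (X.presheaf.stalk x)
      (⟨_, fun hm => by
        obtain ⟨t, ht, htm⟩ := Ideal.IsPrime.prod_mem_iff.1 hm
        exact hs t ht htm⟩ : q.primeCompl))
  let O := O₁ ⊓ X.basicOpen (∏ t ∈ G, s t)
  obtain ⟨η, hη, hηη'⟩ := hO₁ O inf_le_left
  let U : T → X.Opens := fun a => X.basicOpen (g a) ⊓ O
  let C' : X.Opens := notSpec x
  have hUC : ∀ a, U a ≤ O ⊓ C' := fun a y hy => ⟨hy.2, mem_notSpec.2 fun hxy => by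
    have hm : x ∈ X.basicOpen (g a) := hxy.mem_open (X.basicOpen (g a)).2 hy.1
    exact hU'P a (show IsLocalRing.closedPoint _ ∈ f ⁻¹ᵁ X.basicOpen (g a) by
      change f (IsLocalRing.closedPoint _) ∈ X.basicOpen (g a)
      rwa [Scheme.fromSpecStalk_closedPoint]) rfl⟩
  have hCU : O ⊓ C' ≤ iSup U := by
    rintro y ⟨hyO, hyC⟩
    by_contra hc
    have hyD : y ∈ D := X.basicOpen_le _ hyO.2
    let qy := hD.primeIdealOf ⟨y, hyD⟩
    have hmem : ∀ w : Γ(X, D), y ∈ X.basicOpen w ↔ w ∉ qy.asIdeal := fun w =>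
      Groth.QCohMod.mem_basicOpen_iff_notMem_primeIdealOf hD w y hyD
    have hI : I ≤ qy.asIdeal := Ideal.span_le.2 fun _ ⟨a, e⟩ => by
      by_contra hn
      exact hc (Opens.mem_iSup.2 ⟨a, (hmem _).2 (e ▸ hn), hyO⟩)
    have hprod : ∀ t ∈ G, s t ∉ qy.asIdeal := fun t ht hm =>
      (hmem _).1 hyO.2 (Ideal.prod_mem _ ht hm)
    have hle : q ≤ qy.asIdeal := by
      rw [← hG, Submodule.span_le]
      exact fun t ht => qy.2.mem_of_pow_mem _ ((qy.2.mem_or_mem (hI (hst t ht))).resolve_left (hprod t ht))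
    refine mem_notSpec.1 hyC ?_
    have := (PrimeSpectrum.le_iff_specializes (hD.primeIdealOf ⟨x, hxD⟩) qy).1 hle
    have := this.map hD.fromSpec.continuous
    rwa [IsAffineOpen.fromSpec_primeIdealOf, IsAffineOpen.fromSpec_primeIdealOf] at this
  obtain ⟨L₀, e, hF₀, hL₀⟩ := exists_frames (O ⊓ C') hCU hη
  obtain ⟨O₂, hxO₂, e₂, he₂⟩ := locGen_of_ext (((pair_iff X Y').1 h').2 O) L₀ hL₀
    ⟨x, hxO₁, hxs⟩
  have hsub : (O ⊓ C').ι ⁻¹ᵁ (O.ι ''ᵁ O₂) ≤ X.homOfLE (inf_le_left : O ⊓ C' ≤ O) ⁻¹ᵁ O₂ := by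
    rintro y ⟨o, ho, hoy⟩
    change X.homOfLE (inf_le_left : O ⊓ C' ≤ O) y ∈ O₂
    rwa [show X.homOfLE (inf_le_left : O ⊓ C' ≤ O) y = o from
      O.ι.isOpenEmbedding.injective ((congr($(Scheme.homOfLE_ι X (inf_le_left : O ⊓ C' ≤ O)) y)).trans hoy.symm)]
  obtain ⟨k, hku, hk⟩ := hF₀.cob_of_gen hUC (he₂.res hsub)
  -- pull back
  have htopO : ∀ z, f z ∈ O.ι ''ᵁ O₂ := fun z => by
    refine Specializes.mem_open ?_ (O.ι ''ᵁ O₂).2 ⟨_, hxO₂, rfl⟩
    have := Set.mem_range_self (f := X.fromSpecStalk x) z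
    rwa [Scheme.range_fromSpecStalk] at this
  have hOmem : ∀ z, f z ∈ O := fun z => by
    obtain ⟨o, -, ho⟩ := htopO z
    exact ho ▸ o.2
  have hle' : ∀ a, U' a ⊓ ⊤ ≤ f ⁻¹ᵁ (U a ⊓ O.ι ''ᵁ O₂) := fun a z hz =>
    ⟨⟨hz.1, hOmem z⟩, htopO z⟩
  have hcob : Cob U' η' ⊤ := by
    refine ⟨fun a => resX _ (hle' a) (f.app _ (k a)), fun a => ((hku a).map (f.app _).hom).map _,
      fun a b W ha hb hW => ?_⟩
    have hW' : W ≤ f ⁻¹ᵁ (U a ⊓ U b ⊓ O.ι ''ᵁ O₂) := fun z hz =>
      ⟨⟨⟨ha hz, hOmem z⟩, ⟨hb hz, hOmem z⟩⟩, htopO z⟩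
    have h1 := congrArg (resX _ hW') (congrArg (f.app _)
      (hk a b (U a ⊓ U b ⊓ O.ι ''ᵁ O₂) (inf_le_left.trans inf_le_left) (inf_le_left.trans inf_le_right)
        inf_le_right))
    simp only [map_mul, app_resX, resX_resX] at h1
    rw [show f.app (U a ⊓ U b) (η a b) = _ from hηη' a b] at h1
    simp only [resX_resX]
    refine h1.trans (congrArg _ ?_)
    exact resX_resX _ _ _
  obtain ⟨t, ht⟩ := hF.gen_of_cob hcov hcob
  exact nonempty_iso_structure_iff.2 ⟨t, ht⟩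

/-- Invertible modules extend when the local rings along the complement are parafactorial. -/
theorem ext_of_local {C : X.Opens} (hA : HartX C)
    (h : ∀ x : X, x ∉ C → ParaF.IsParafactorialLocalRing (X.presheaf.stalk x)) (V : X.Opens) :
    Ext (X.homOfLE (inf_le_left : V ⊓ C ≤ V)) := by
  classical
  refine ext_of_locGen (app_bijective hA V) fun L hL => ?_
  obtain ⟨V₀, e₀, hV₀, hzV₀, he₀⟩ := exists_gen_cover hL
  let P : X.Opens := V ⊓ C
  let U : ((P : Scheme.{u}) : Type u) → X.Opens := fun a => P.ι ''ᵁ V₀ a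
  have hUP : ∀ a, U a ≤ P := fun a => by rintro _ ⟨y, -, rfl⟩; exact y.2
  have hPU : P ≤ iSup U := fun y hy => Opens.mem_iSup.2 ⟨⟨y, hy⟩, ⟨⟨y, hy⟩, hzV₀ _, rfl⟩⟩
  obtain ⟨η, hη, hF⟩ := exists_cocycle (L := L) (e := fun a => res L (P.ι.preimage_image_eq (V₀ a)).le (e₀ a))
    hUP fun a => (he₀ a).res _
  suffices hgood : ∀ y ∈ V, ∃ O : X.Opens, y ∈ O ∧ Cob U η O by
    intro y
    obtain ⟨O, hyO, hO⟩ := hgood (V.ι y) y.2
    obtain ⟨s, hs⟩ := hF.gen_of_cob hPU hO
    refine ⟨V.ι ⁻¹ᵁ O, hyO, _, hs.res (fun z hz => ?_ :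
      X.homOfLE (inf_le_left : V ⊓ C ≤ V) ⁻¹ᵁ (V.ι ⁻¹ᵁ O) ≤ P.ι ⁻¹ᵁ O)⟩
    have hz' : V.ι (X.homOfLE (inf_le_left : V ⊓ C ≤ V) z) ∈ O := hz
    rw [show V.ι (X.homOfLE (inf_le_left : V ⊓ C ≤ V) z) = P.ι z from
      congr($(Scheme.homOfLE_ι X (inf_le_left : V ⊓ C ≤ V)) z)] at hz'
    exact hz'
  have hgU : ∀ a z, z ∈ U a → ∃ O : X.Opens, z ∈ O ∧ Cob U η O := fun a z hz =>
    ⟨U a, hz, hη.cob_self a le_rfl⟩
  intro y hyV
  by_contra hy
  obtain ⟨D, hD, hyD, hDV⟩ := exists_isAffineOpen_mem_and_subset hyV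
  have : IsNoetherianRing Γ(X, D) := IsLocallyNoetherian.component_noetherian ⟨D, hD⟩
  let Bad : Set ↥D := {z | ¬ ∃ O : X.Opens, z.1 ∈ O ∧ Cob U η O}
  let ht : ↥D → ℕ∞ := fun z => (hD.primeIdealOf z).asIdeal.height
  obtain ⟨⟨x, hxD⟩, hxbad, hmin⟩ :=
    (InvImage.wf ht (wellFounded_lt (α := ℕ∞))).has_min Bad ⟨⟨y, hyD⟩, hy⟩
  have hxC : x ∉ C := fun hxC => by
    obtain ⟨a, ha⟩ := Opens.mem_iSup.1 (hPU ⟨hDV hxD, hxC⟩)
    exact hxbad (hgU a x ha)
  have hgen : ∀ z : X, z ⤳ x → z ≠ x → ∃ O : X.Opens, z ∈ O ∧ Cob U η O := by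
    intro z hz hne
    have hzD : z ∈ D := hz.mem_open D.2 hxD
    by_contra hb
    refine hmin ⟨z, hzD⟩ hb ?_
    have hle : (hD.primeIdealOf ⟨z, hzD⟩).asIdeal ≤ (hD.primeIdealOf ⟨x, hxD⟩).asIdeal :=
      (PrimeSpectrum.le_iff_specializes _ _).2 (hD.fromSpec.isOpenEmbedding.isInducing.specializes_iff.1 (by
        rwa [IsAffineOpen.fromSpec_primeIdealOf, IsAffineOpen.fromSpec_primeIdealOf]))
    have := (hD.primeIdealOf ⟨x, hxD⟩).2
    have := (hD.primeIdealOf ⟨z, hzD⟩).2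
    refine Ideal.height_strict_mono_of_isPrime (lt_of_le_of_ne hle fun e => hne ?_)
    have := congrArg hD.fromSpec (PrimeSpectrum.ext e)
    rwa [IsAffineOpen.fromSpec_primeIdealOf, IsAffineOpen.fromSpec_primeIdealOf] at this
  -- finitely many good basic opens covering the good part of `D`
  let G : Set X := {z | z ∈ D ∧ ∃ O : X.Opens, z ∈ O ∧ Cob U η O}
  have hG : ∀ z : G, ∃ g : Γ(X, D), z.1 ∈ X.basicOpen g ∧ Cob U η (X.basicOpen g) := fun z => by
    obtain ⟨hzD, O, hzO, hO⟩ := z.2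
    obtain ⟨g, hg, hzg⟩ := hD.exists_basicOpen_le (⟨z.1, hzO⟩ : O) hzD
    exact ⟨g, hzg, hO.mono hg⟩
  choose g₀ hzg₀ hg₀ using hG
  have hnoeth : NoetherianSpace D := noetherianSpace_of_isAffineOpen D hD
  have hcpt : IsCompact G := by
    have := (@NoetherianSpace.isCompact _ _ hnoeth ((Subtype.val : D → X) ⁻¹' G)).image continuous_subtype_val
    rwa [Set.image_preimage_eq_of_subset (s := G) fun z hz => ⟨⟨z, hz.1⟩, rfl⟩] at this
  obtain ⟨T, hT⟩ := hcpt.elim_finite_subcover (fun z : G => (X.basicOpen (g₀ z) : Set X))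
    (fun z => (X.basicOpen (g₀ z)).2) fun z hz => Set.mem_iUnion.2 ⟨⟨z, hz⟩, hzg₀ ⟨z, hz⟩⟩
  let g : T → Γ(X, D) := fun b => g₀ b.1
  let B : T → X.Opens := fun b => X.basicOpen (g b)
  have hBD : ∀ b, B b ≤ D := fun b => X.basicOpen_le _
  choose h₁ hh₁u hh₁ using fun b : T => hg₀ b.1
  have hcovG : ∀ z ∈ G, ∃ b : T, z ∈ B b := fun z hz => by
    obtain ⟨b, hb, hb'⟩ := Set.mem_iUnion₂.1 (hT hz)
    exact ⟨⟨b, hb⟩, hb'⟩
  have hext : ∀ (W : X.Opens), W ≤ V → ∀ (r r' : Γ(X, W)),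
      (∀ a (W' : X.Opens) (h : W' ≤ W), W' ≤ U a → resX X h r = resX X h r') → r = r' := by
    intro W hW r r' hr
    refine (hA W).1 (resX_ext (fun a => W ⊓ C ⊓ U a) (fun _ => inf_le_left) ?_ fun a => ?_)
    · intro z hz
      obtain ⟨a, ha⟩ := Opens.mem_iSup.1 (hPU ⟨hW hz.1, hz.2⟩)
      exact Opens.mem_iSup.2 ⟨a, hz, ha⟩
    · simp only [resX_resX]
      exact hr a _ _ inf_le_right
  have hθ : ∀ p : T × T, ∃ θ : Γ(X, B p.1 ⊓ B p.2), IsUnit θ ∧
      ∀ a (W : X.Opens) (ha : W ≤ U a) (hb : W ≤ B p.1) (hc : W ≤ B p.2),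
        resX X (le_inf ha hc) (h₁ p.2 a) =
          resX X (le_inf ha hb) (h₁ p.1 a) * resX X (le_inf hb hc) θ := by
    rintro ⟨b, c⟩
    let W₀ : ((P : Scheme.{u}) : Type u) → X.Opens := fun a => U a ⊓ (B b ⊓ B c)
    let r : ∀ a, Γ(X, W₀ a) := fun a =>
      resX X (inf_le_inf_left _ inf_le_right) (h₁ c a) *
        resX X (inf_le_inf_left _ inf_le_left) (↑(hh₁u b a).unit⁻¹ : Γ(X, U a ⊓ B b))
    obtain ⟨r₀, hr₀, -⟩ := resX_glue (U := B b ⊓ B c ⊓ C) W₀
      (fun a z hz => ⟨hz.2, (hUP a hz.1).2⟩)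
      (fun z hz => by
        obtain ⟨a, ha⟩ := Opens.mem_iSup.1 (hPU ⟨hDV (hBD b hz.1.1), hz.2⟩)
        exact Opens.mem_iSup.2 ⟨a, ha, hz.1⟩) r fun a a' => by
      have hab := hh₁ b a a' (W₀ a ⊓ W₀ a') (inf_le_left.trans inf_le_left) (inf_le_right.trans inf_le_left)
        (inf_le_left.trans (inf_le_right.trans inf_le_left))
      have hac := hh₁ c a a' (W₀ a ⊓ W₀ a') (inf_le_left.trans inf_le_left) (inf_le_right.trans inf_le_left)
        (inf_le_left.trans (inf_le_right.trans inf_le_right))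
      have ha1 := congrArg (resX X (le_inf (inf_le_left.trans inf_le_left)
        (inf_le_left.trans (inf_le_right.trans inf_le_left)) : W₀ a ⊓ W₀ a' ≤ U a ⊓ B b)) (hh₁u b a).mul_val_inv
      have ha2 := congrArg (resX X (le_inf (inf_le_right.trans inf_le_left)
        (inf_le_left.trans (inf_le_right.trans inf_le_left)) : W₀ a ⊓ W₀ a' ≤ U a' ⊓ B b)) (hh₁u b a').mul_val_inv
      simp only [r, map_mul, map_one, resX_resX] at ha1 ha2 ⊢
      rw [hac]
      rw [hab] at ha2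
      calc _ = _ * (resX X _ (h₁ b a) * resX X _ (η a a') *
            resX X (le_inf (inf_le_right.trans inf_le_left)
              (inf_le_left.trans (inf_le_right.trans inf_le_left)) : W₀ a ⊓ W₀ a' ≤ U a' ⊓ B b)
              (↑(hh₁u b a').unit⁻¹ : Γ(X, U a' ⊓ B b))) := by rw [ha2, mul_one]
        _ = _ := by
          rw [← one_mul (resX X (le_inf (inf_le_right.trans inf_le_left)
            (inf_le_left.trans (inf_le_right.trans inf_le_left)) : W₀ a ⊓ W₀ a' ≤ U a' ⊓ B b)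
            (↑(hh₁u b a').unit⁻¹ : Γ(X, U a' ⊓ B b)))]
          linear_combination (resX X (le_inf (inf_le_left.trans inf_le_left)
              (inf_le_left.trans (inf_le_right.trans inf_le_right)) : W₀ a ⊓ W₀ a' ≤ U a ⊓ B c) (h₁ c a) *
            resX X (le_inf (inf_le_left.trans inf_le_left) (inf_le_right.trans inf_le_left)) (η a a') *
            resX X (le_inf (inf_le_right.trans inf_le_left)
            (inf_le_left.trans (inf_le_right.trans inf_le_left)) : W₀ a ⊓ W₀ a' ≤ U a' ⊓ B b)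
            (↑(hh₁u b a').unit⁻¹ : Γ(X, U a' ⊓ B b))) * ha1
    obtain ⟨θ, hθ⟩ := (hA (B b ⊓ B c)).2 r₀
    have hrel : ∀ a (W : X.Opens) (ha : W ≤ U a) (hb : W ≤ B b) (hc : W ≤ B c),
        resX X (le_inf ha hc) (h₁ c a) = resX X (le_inf ha hb) (h₁ b a) * resX X (le_inf hb hc) θ := by
      intro a W ha hb hc
      have h1 := congrArg (resX X (le_inf ha (le_inf hb hc) : W ≤ W₀ a)) (hr₀ a)
      have h2 := congrArg (resX X (le_inf ha hb)) (hh₁u b a).mul_val_inv
      rw [← hθ] at h1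
      simp only [r, map_mul, map_one, resX_resX] at h1 h2
      rw [h1, mul_left_comm, h2, mul_one]
    refine ⟨θ, ?_, hrel⟩
    have hu : IsUnit r₀ := by
      refine isUnit_of_isUnit_res (U := B b ⊓ B c ⊓ C) W₀ (fun a z hz => ⟨hz.2, (hUP a hz.1).2⟩) (fun z hz => by
        obtain ⟨a, ha⟩ := Opens.mem_iSup.1 (hPU ⟨hDV (hBD b hz.1.1), hz.2⟩)
        exact Opens.mem_iSup.2 ⟨a, ha, hz.1⟩) fun a => ?_
      rw [hr₀ a]
      exact ((hh₁u c a).map _).mul ((Units.isUnit _).map _)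
    obtain ⟨θ', hθ'⟩ := (hA (B b ⊓ B c)).2 ↑hu.unit⁻¹
    exact IsUnit.of_mul_eq_one θ' ((hA (B b ⊓ B c)).1 (by rw [map_mul, hθ, hθ', IsUnit.mul_val_inv, map_one]))
  choose θ hθu hθrel using hθ
  have hθc : IsCocycle B (fun b c => θ (b, c)) := by
    refine ⟨fun b c => hθu (b, c), fun b c d W hb hc hd => hext W ((hb.trans (hBD b)).trans hDV) _ _
      fun a W' h hW' => ?_⟩
    simp only [map_mul, resX_resX]
    have h1 := hθrel (b, c) a W' hW' (h.trans hb) (h.trans hc)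
    have h2 := hθrel (c, d) a W' hW' (h.trans hc) (h.trans hd)
    have h3 := hθrel (b, d) a W' hW' (h.trans hb) (h.trans hd)
    rw [h1, h3, mul_assoc] at h2
    exact ((hh₁u b a).map _).mul_left_cancel h2
  have hxB : ∀ b, x ∉ B b := fun b hb => hxbad ⟨B b, hb, hg₀ b.1⟩
  have hP' := ((Groth.Agent.S2824.result _).1 (h x hxC)).2
  have hcov' : FEt.puncturedSpec (X.presheaf.stalk x) ≤ ⨆ b, X.fromSpecStalk x ⁻¹ᵁ B b := fun z hz => by
    have hz' : X.fromSpecStalk x z ⤳ x := by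
      have := Set.mem_range_self (f := X.fromSpecStalk x) z
      rwa [Scheme.range_fromSpecStalk] at this
    have hne : X.fromSpecStalk x z ≠ x := fun e => hz ((X.fromSpecStalk x).isEmbedding.injective
      (e.trans (Scheme.fromSpecStalk_closedPoint (X := X) (x := x)).symm))
    obtain ⟨b, hb⟩ := hcovG _ ⟨hz'.mem_open D.2 hxD, hgen _ hz' hne⟩
    exact Opens.mem_iSup.2 ⟨b, hb⟩
  obtain ⟨O', hxO', k, hku, hk⟩ := exists_cob hD hxD g (cob_of_picTrivial hP'
    (fun b => preimage_le_punctured (hxB b)) hcov' (hθc.pull (X.fromSpecStalk x)))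
  -- glue
  apply hxbad
  refine ⟨O' ⊓ D, ⟨hxO', hxD⟩, ?_⟩
  let W₁ : ((P : Scheme.{u}) : Type u) → T → X.Opens := fun a b => U a ⊓ (B b ⊓ O')
  let p : ∀ a b, Γ(X, W₁ a b) := fun a b =>
    resX X (inf_le_inf_left _ inf_le_left) (h₁ b a) *
      resX X inf_le_right (↑(hku b).unit⁻¹ : Γ(X, B b ⊓ O'))
  have hW₁ : ∀ a b, W₁ a b ≤ U a ⊓ (O' ⊓ D) := fun a b z hz => ⟨hz.1, hz.2.2, hBD b hz.2.1⟩
  have hW₁c : ∀ a, U a ⊓ (O' ⊓ D) ≤ ⨆ b, W₁ a b := fun a z hz => by
    obtain ⟨b, hb⟩ := hcovG z ⟨hz.2.2, hgU a z hz.1⟩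
    exact Opens.mem_iSup.2 ⟨b, hz.1, hb, hz.2.1⟩
  have hpp : ∀ a b c (W : X.Opens) (hb : W ≤ W₁ a b) (hc : W ≤ W₁ a c),
      resX X hb (p a b) = resX X hc (p a c) := by
    intro a b c W hb hc
    have h1 := hθrel (b, c) a W (hb.trans inf_le_left) (hb.trans (inf_le_right.trans inf_le_left))
      (hc.trans (inf_le_right.trans inf_le_left))
    have h2 := hk b c W (hb.trans (inf_le_right.trans inf_le_left))
      (hc.trans (inf_le_right.trans inf_le_left)) (hb.trans (inf_le_right.trans inf_le_right))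
    have h3 := congrArg (resX X (hb.trans inf_le_right)) (hku b).mul_val_inv
    have h4 := congrArg (resX X (hc.trans inf_le_right)) (hku c).mul_val_inv
    simp only [p, map_mul, map_one, resX_resX] at h3 h4 ⊢
    refine ((hku c).map (resX X (hc.trans inf_le_right))).mul_right_cancel ?_
    rw [mul_assoc _ _ (resX X (hc.trans inf_le_right) (k c)), mul_assoc _ _ (resX X (hc.trans inf_le_right) (k c)),
      mul_comm _ (resX X (hc.trans inf_le_right) (k c)), mul_comm _ (resX X (hc.trans inf_le_right) (k c))]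
    rw [h4, mul_one, h1]
    congr 1
    calc _ = resX X (le_inf (hb.trans (inf_le_right.trans inf_le_left))
          (hc.trans (inf_le_right.trans inf_le_left))) (θ (b, c)) * 1 := by rw [← h3, h2]; ring
      _ = _ := mul_one _
  choose hnew hhnew _ using fun a => resX_glue (W₁ a) (hW₁ a) (hW₁c a) (p a)
    fun b c => hpp a b c _ inf_le_left inf_le_right
  refine ⟨hnew, fun a => ?_, fun a a' W ha ha' hO => ?_⟩
  · refine isUnit_of_isUnit_res (W₁ a) (hW₁ a) (hW₁c a) fun b => ?_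
    rw [hhnew a b]
    exact ((hh₁u b a).map _).mul ((Units.isUnit _).map _)
  · refine resX_ext (fun b => W ⊓ B b) (fun _ => inf_le_left) (fun z hz => ?_) fun b => ?_
    · obtain ⟨b, hb⟩ := hcovG z ⟨(hO hz).2, hgU a z (ha hz)⟩
      exact Opens.mem_iSup.2 ⟨b, hz, hb⟩
    · have hA' : W ⊓ B b ≤ W₁ a b := fun z hz => ⟨ha hz.1, hz.2, (hO hz.1).1⟩
      have hA'' : W ⊓ B b ≤ W₁ a' b := fun z hz => ⟨ha' hz.1, hz.2, (hO hz.1).1⟩
      have e1 := congrArg (resX X hA') (hhnew a b)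
      have e2 := congrArg (resX X hA'') (hhnew a' b)
      have e3 := hh₁ b a a' (W ⊓ B b) (inf_le_left.trans ha) (inf_le_left.trans ha') inf_le_right
      simp only [p, map_mul, resX_resX] at e1 e2 e3 ⊢
      rw [e1, e2, e3]
      ring

/-- Parafactoriality of a pair is a condition on the local rings. -/
theorem pair_iff_local (Y : Closeds ↥X) :
    ParaF.IsParafactorialPair X Y ↔ ∀ y : X, y ∈ Y → ParaF.IsParafactorialLocalRing (X.presheaf.stalk y) := by
  refine ⟨fun h y hy => local_of_pair h hy, fun h => ?_⟩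
  have hd : ∀ x : X, x ∉ Y.compl →
      (2 : ℕ∞) ≤ LocCoh.depth (X.presheaf.stalk x) (X.presheaf.stalk x) := fun x hx => by
    have h' := h x (not_not.1 hx)
    let S := Spec (X.presheaf.stalk x)
    let z : S := IsLocalRing.closedPoint (X.presheaf.stalk x)
    have hz := two_le_depth_of_hart (X := S) ((pair_iff _ _).1 h').1 (x := z) fun hc => hc rfl
    letI : Algebra (X.presheaf.stalk x) (S.presheaf.stalk z) := StructureSheaf.stalkAlgebra (X.presheaf.stalk x) z
    have : IsLocalization.AtPrime (S.presheaf.stalk z) (IsLocalRing.maximalIdeal (X.presheaf.stalk x)) :=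
      StructureSheaf.IsLocalization.to_stalk (X.presheaf.stalk x) z
    exact hz.trans (Groth.Ega4b.depth_eq_of_ringEquiv (IsLocalization.atUnits (X.presheaf.stalk x)
      (IsLocalRing.maximalIdeal (X.presheaf.stalk x)).primeCompl (S := S.presheaf.stalk z)
      (fun t ht => not_not.1 fun h => ht (mem_nonunits_iff.2 h))).toRingEquiv).ge
  exact (pair_iff X Y).2 ⟨hart_of_depth hd,
    fun V => ext_of_local (hart_of_depth hd) (fun x hx => h x (not_not.1 hx)) V⟩

end Groth.ParaFormal
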