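import Groth.Agent.ParaFormal.FlatChart
import Groth.Agent.ParaFormal.StalkCriterion
import Mathlib.AlgebraicGeometry.Morphisms.UniversallyOpen

/-!
# Flat descent of parafactoriality
-/

set_option autoImplicit false
universe u

open CategoryTheory AlgebraicGeometry Opposite TopologicalSpace

namespace Groth.ParaFormal

open Groth.PicAux

variable {X X' : Scheme.{u}} (f : X' ⟶ X) [Flat f] [Surjective f] {C : X.Opens}

omit [Flat f] [Surjective f] in
theorem exists_affine_le {D : X.Opens} {y : X'} (hy : f y ∈ D) (O : X'.Opens) (hO : y ∈ O) :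
    ∃ D' : X'.Opens, IsAffineOpen D' ∧ y ∈ D' ∧ D' ≤ f ⁻¹ᵁ D ∧ D' ≤ O := by
  obtain ⟨D', hD', hy', hle⟩ :=
    exists_isAffineOpen_mem_and_subset (x := y) (U := f ⁻¹ᵁ D ⊓ O) ⟨hy, hO⟩
  exact ⟨D', hD', hy', fun z hz => (hle hz).1, fun z hz => (hle hz).2⟩

omit [Flat f] [Surjective f] in
theorem exists_basic_cover {D : X.Opens} (hD : IsAffineOpen D) {K : X.Opens} (hK : K ≤ D)
    (hKc : IsCompact (K : Set X)) {κ : Type u} (U : κ → X.Opens) (hU : K ≤ iSup U) :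
    ∃ (ι : Type u) (_ : Finite ι) (g : ι → Γ(X, D)) (c : ι → κ),
      (∀ a, X.basicOpen (g a) ≤ K) ∧ (∀ a, X.basicOpen (g a) ≤ U (c a)) ∧
        K ≤ ⨆ a, X.basicOpen (g a) := by
  have hloc : ∀ z : K, ∃ (g : Γ(X, D)) (c : κ), z.1 ∈ X.basicOpen g ∧ X.basicOpen g ≤ K ⊓ U c := fun z => by
    obtain ⟨c, hc⟩ := Opens.mem_iSup.1 (hU z.2)
    obtain ⟨g, hg, hzg⟩ := hD.exists_basicOpen_le (⟨z.1, z.2, hc⟩ : (K ⊓ U c : X.Opens)) (hK z.2)
    exact ⟨g, c, hzg, hg⟩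
  choose g c hzg hg using hloc
  obtain ⟨T, hT⟩ := hKc.elim_finite_subcover (fun z : K => (X.basicOpen (g z) : Set X))
    (fun z => (X.basicOpen (g z)).2) fun z hz => Set.mem_iUnion.2 ⟨⟨z, hz⟩, hzg ⟨z, hz⟩⟩
  refine ⟨T, inferInstance, fun a => g a.1, fun a => c a.1, fun a => (hg a.1).trans inf_le_left,
    fun a => (hg a.1).trans inf_le_right, fun z hz => ?_⟩
  obtain ⟨a, ha, ha'⟩ := Set.mem_iUnion₂.1 (hT hz)
  exact Opens.mem_iSup.2 ⟨⟨a, ha⟩, ha'⟩

omit [Flat f] [Surjective f] in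
theorem basicOpen_inf_isAffine {D : X.Opens} (hD : IsAffineOpen D) (g g' : Γ(X, D)) :
    IsAffineOpen (X.basicOpen g ⊓ X.basicOpen g') := by
  rw [← Scheme.basicOpen_mul]
  exact hD.basicOpen _

include f in
/-- Restriction to the trace of `C` is injective on affine opens. -/
theorem hart_injective_of_flat (hA : HartX (f ⁻¹ᵁ C)) {D : X.Opens} :
    Function.Injective (resX X (inf_le_left : D ⊓ C ≤ D)) := by
  intro r r' h
  refine TopCat.Presheaf.section_ext X.sheaf D r r' fun x hx => ?_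
  change X.presheaf.germ D x hx r = X.presheaf.germ D x hx r'
  obtain ⟨y, rfl⟩ := Surjective.surj (f := f) x
  have h' : f.app D r = f.app D r' := (hA (f ⁻¹ᵁ D)).1 (by
    have := congrArg (f.app _) h
    simp only [app_resX] at this
    exact this)
  have hff := Flat.stalkMap f y
  let _ : Algebra (X.presheaf.stalk (f y)) (X'.presheaf.stalk y) := (f.stalkMap y).hom.toAlgebra
  have : Module.Flat (X.presheaf.stalk (f y)) (X'.presheaf.stalk y) := hff
  have : IsLocalHom (algebraMap (X.presheaf.stalk (f y)) (X'.presheaf.stalk y)) :=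
    inferInstanceAs (IsLocalHom (f.stalkMap y).hom)
  have : Module.FaithfullyFlat (X.presheaf.stalk (f y)) (X'.presheaf.stalk y) :=
    Module.FaithfullyFlat.of_flat_of_isLocalHom
  refine FaithfulSMul.algebraMap_injective (X.presheaf.stalk (f y)) (X'.presheaf.stalk y) ?_
  change f.stalkMap y (X.presheaf.germ D (f y) hx r) = f.stalkMap y (X.presheaf.germ D (f y) hx r')
  rw [Scheme.Hom.germ_stalkMap_apply, Scheme.Hom.germ_stalkMap_apply, h']

include f in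
/-- The extension property for functions descends along flat surjective morphisms. -/
theorem hart_of_flat (hA : HartX (f ⁻¹ᵁ C))
    (hc : ∀ D : X.Opens, IsAffineOpen D → IsCompact ((D ⊓ C : X.Opens) : Set X)) : HartX C := by
  have haff : ∀ D : X.Opens, IsAffineOpen D → Function.Bijective (resX X (inf_le_left : D ⊓ C ≤ D)) := by
    intro D hD
    refine ⟨hart_injective_of_flat f hA, fun t => ?_⟩
    obtain ⟨ι, _, g, -, hgK, -, hcov⟩ := exists_basic_cover hD (inf_le_left : D ⊓ C ≤ D) (hc D hD)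
      (fun _ : PUnit.{u + 1} => D ⊓ C) (le_iSup (fun _ : PUnit.{u + 1} => D ⊓ C) PUnit.unit)
    let G : ι → X.Opens := fun a => X.basicOpen (g a)
    have hloc : ∀ x : D, ∃ (s r : Γ(X, D)), x.1 ∈ X.basicOpen s ∧
        resX X inf_le_left r = resX X (inf_le_left : D ⊓ C ≤ D) s * t := by
      rintro ⟨x, hx⟩
      obtain ⟨y, rfl⟩ := Surjective.surj (f := f) x
      obtain ⟨D', hD', hy, e, -⟩ := exists_affine_le f hx ⊤ trivial
      have hcov' : ∀ z, z ∈ D' ⊓ f ⁻¹ᵁ C → ∃ a, z ∈ D' ⊓ f ⁻¹ᵁ G a := fun z hz => by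
        obtain ⟨a, ha⟩ := Opens.mem_iSup.1 (hcov ⟨e hz.1, hz.2⟩)
        exact ⟨a, hz.1, ha⟩
      have hle : ∀ a, D' ⊓ f ⁻¹ᵁ G a ≤ D' ⊓ f ⁻¹ᵁ C := fun a =>
        inf_le_inf_left _ (f.preimage_mono ((hgK a).trans inf_le_right))
      obtain ⟨s, r, hs, hr⟩ := exists_denominator f hD hD' e G (fun a => hD.basicOpen _)
        (fun a => X.basicOpen_le _) (fun a b => basicOpen_inf_isAffine hD _ _)
        (fun r r' h => (hA D').1 (resX_ext (fun a => D' ⊓ f ⁻¹ᵁ G a) hle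
          (fun z hz => Opens.mem_iSup.2 (hcov' z hz)) fun a => by simpa only [resX_resX] using h a))
        (fun z hz => by
          obtain ⟨w, hw, -⟩ := resX_glue (fun a => D' ⊓ f ⁻¹ᵁ G a) hle
            (fun z hz => Opens.mem_iSup.2 (hcov' z hz)) z fun a b => by
              have := congrArg (resX X' (le_inf (inf_le_left.trans inf_le_left)
                (le_inf (inf_le_left.trans inf_le_right) (inf_le_right.trans inf_le_right)) :
                (D' ⊓ f ⁻¹ᵁ G a) ⊓ (D' ⊓ f ⁻¹ᵁ G b) ≤ D' ⊓ f ⁻¹ᵁ (G a ⊓ G b))) (hz a b)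
              rw [resX_resX, resX_resX] at this
              exact this.symm
          obtain ⟨r, hr⟩ := (hA D').2 w
          exact ⟨r, fun a => by rw [← hw a, ← hr, resX_resX]⟩)
        (fun a => resX X (hgK a) t) (fun a b => by simp only [resX_resX]) y hy
      refine ⟨s, r, hs, resX_ext G hgK hcov fun a => ?_⟩
      simp only [map_mul, resX_resX]
      exact hr a
    choose s r hs hr using hloc
    let v : ∀ x : D, Γ(X, X.basicOpen (s x)) := fun x =>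
      resX X (X.basicOpen_le (s x)) (r x) * ↑((isUnit_resX_of_le (X.basicOpen_le (s x)) le_rfl).unit⁻¹)
    have hv : ∀ x (W : X.Opens) (hW : W ≤ X.basicOpen (s x)) (hWC : W ≤ D ⊓ C),
        resX X hW (v x) = resX X hWC t := by
      intro x W hW hWC
      have h1 := congrArg (resX X hWC) (hr x)
      simp only [map_mul, resX_resX] at h1
      have h2 := congrArg (resX X hW) (isUnit_resX_of_le (X.basicOpen_le (s x)) le_rfl).mul_val_inv
      simp only [map_mul, map_one, resX_resX] at h2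
      simp only [v, map_mul, resX_resX]
      rw [h1, mul_comm (resX X _ (s x)), mul_assoc, h2, mul_one]
    obtain ⟨w, hw, -⟩ := resX_glue (fun x : D => X.basicOpen (s x)) (fun x => X.basicOpen_le _)
      (fun x hx => Opens.mem_iSup.2 ⟨⟨x, hx⟩, hs ⟨x, hx⟩⟩) v fun x x' => by
        refine hart_injective_of_flat f hA ?_
        simp only [resX_resX]
        rw [hv x _ (inf_le_left.trans inf_le_left)
            (le_inf ((inf_le_left.trans inf_le_left).trans (X.basicOpen_le _)) inf_le_right),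
          hv x' _ (inf_le_left.trans inf_le_right)]
    refine ⟨w, resX_ext (fun x : D => X.basicOpen (s x) ⊓ (D ⊓ C)) (fun _ => inf_le_right)
      (fun z hz => Opens.mem_iSup.2 ⟨⟨z, hz.1⟩, hs ⟨z, hz.1⟩, hz⟩) fun x => ?_⟩
    have := congrArg (resX X (inf_le_left : X.basicOpen (s x) ⊓ (D ⊓ C) ≤ X.basicOpen (s x))) (hw x)
    simp only [resX_resX] at this ⊢
    rw [this, hv x]
  intro V
  have hA' : FunBij C.ι := funBij_of_affine fun W hW =>
    (resX_bijective_congr (C.ι.image_preimage_le W) inf_le_left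
      (by rw [Scheme.Hom.image_preimage_eq_opensRange_inf, Scheme.Opens.opensRange_ι, inf_comm])).2
      (haff W hW)
  exact (resX_bijective_congr (C.ι.image_preimage_le V) inf_le_left
    (by rw [Scheme.Hom.image_preimage_eq_opensRange_inf, Scheme.Opens.opensRange_ι, inf_comm])).1 (hA' V)

/-- An extendable cocycle is a coboundary near every point. -/
theorem exists_cob_of_ext {ι : Type u} {U : ι → X.Opens} {η : ∀ a b, Γ(X, U a ⊓ U b)} (hη : IsCocycle U η)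
    {V C₀ : X.Opens} (hE : Ext (X.homOfLE (inf_le_left : V ⊓ C₀ ≤ V))) (hU : ∀ a, U a ≤ V ⊓ C₀)
    (hc : V ⊓ C₀ ≤ iSup U) {x : X} (hx : x ∈ V) : ∃ O : X.Opens, x ∈ O ∧ Cob U η O := by
  obtain ⟨L, e, hF, hL⟩ := exists_frames (V ⊓ C₀) hc hη
  obtain ⟨O, hxO, e', he'⟩ := locGen_of_ext hE L hL ⟨x, hx⟩
  have hsub : (V ⊓ C₀).ι ⁻¹ᵁ (V.ι ''ᵁ O) ≤ X.homOfLE (inf_le_left : V ⊓ C₀ ≤ V) ⁻¹ᵁ O := by
    rintro y ⟨o, ho, hoy⟩
    change X.homOfLE (inf_le_left : V ⊓ C₀ ≤ V) y ∈ O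
    rwa [show X.homOfLE (inf_le_left : V ⊓ C₀ ≤ V) y = o from
      V.ι.isOpenEmbedding.injective ((congr($(Scheme.homOfLE_ι X (inf_le_left : V ⊓ C₀ ≤ V)) y)).trans hoy.symm)]
  exact ⟨V.ι ''ᵁ O, ⟨⟨x, hx⟩, hxO, rfl⟩, hF.cob_of_gen hU (he'.res hsub)⟩

omit [Flat f] [Surjective f] in
/-- A point in the closure of a closed subset of an affine open of an affine open is a specialisation
of one of its points. -/
theorem exists_generization {D G : X.Opens} (hD : IsAffineOpen D) (hG : IsAffineOpen G) (hGD : G ≤ D)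
    (m : Γ(X, G)) {x : X} (hxD : x ∈ D) (hx : x ∈ closure {z : X | z ∈ G ∧ z ∉ X.basicOpen m}) :
    ∃ z, z ∈ G ∧ z ∉ X.basicOpen m ∧ z ⤳ x := by
  have := (hD.primeIdealOf ⟨x, hxD⟩).2
  have hcomap : (Ideal.span {m}).comap (resX X hGD) ≤ (hD.primeIdealOf ⟨x, hxD⟩).asIdeal := fun r hr => by
    by_contra hn
    obtain ⟨z, hzr, hzG, hzm⟩ := mem_closure_iff.1 hx _ (X.basicOpen r).2
      ((Groth.QCohMod.mem_basicOpen_iff_notMem_primeIdealOf hD r x hxD).2 hn)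
    obtain ⟨k, hk⟩ := Ideal.mem_span_singleton'.1 hr
    have hz : z ∈ X.basicOpen (resX X hGD r) := by
      change z ∈ X.basicOpen (X.presheaf.map (homOfLE hGD).op r)
      rw [Scheme.basicOpen_res]
      exact ⟨hzG, hzr⟩
    rw [← hk, Scheme.basicOpen_mul] at hz
    exact hzm hz.2
  obtain ⟨p, hmp, hp, hpq⟩ := Ideal.exists_ideal_comap_le_prime _ (Ideal.span {m}) hcomap
  let z : X := hG.fromSpec ⟨p, hp⟩
  have hz : z ∈ G := by
    have := Set.mem_range_self (f := hG.fromSpec) (⟨p, hp⟩ : PrimeSpectrum Γ(X, G))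
    rwa [hG.range_fromSpec] at this
  have hprime : hG.primeIdealOf ⟨z, hz⟩ = ⟨p, hp⟩ :=
    hG.fromSpec.isOpenEmbedding.injective (hG.fromSpec_primeIdealOf _)
  refine ⟨z, hz, fun h => ?_, specializes_iff_forall_open.2 fun O hO hxO => ?_⟩
  · have := (Groth.QCohMod.mem_basicOpen_iff_notMem_primeIdealOf hG m z hz).1 h
    rw [hprime] at this
    exact this (hmp (Ideal.mem_span_singleton_self m))
  · obtain ⟨r, hrO, hxr⟩ := hD.exists_basicOpen_le (⟨x, hxO⟩ : (⟨O, hO⟩ : X.Opens)) hxD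
    refine hrO ?_
    have hr : resX X hGD r ∉ p := fun h =>
      (Groth.QCohMod.mem_basicOpen_iff_notMem_primeIdealOf hD r x hxD).1 hxr (hpq h)
    have h2 := (Groth.QCohMod.mem_basicOpen_iff_notMem_primeIdealOf hG (resX X hGD r) z hz).2
      (by rw [hprime]; exact hr)
    change z ∈ X.basicOpen (X.presheaf.map (homOfLE hGD).op r) at h2
    rw [Scheme.basicOpen_res] at h2
    exact h2.2

include f in
/-- Extension of invertible modules descends along flat surjective morphisms. -/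
theorem ext_of_flat (hA : HartX (f ⁻¹ᵁ C))
    (hE : ∀ V : X'.Opens, Ext (X'.homOfLE (inf_le_left : V ⊓ f ⁻¹ᵁ C ≤ V)))
    (hc : ∀ D : X.Opens, IsAffineOpen D → IsCompact ((D ⊓ C : X.Opens) : Set X)) (V : X.Opens) :
    Ext (X.homOfLE (inf_le_left : V ⊓ C ≤ V)) := by
  classical
  have hAX := hart_of_flat f hA hc
  refine ext_of_locGen (app_bijective hAX V) fun L hL => ?_
  obtain ⟨V₀, e₀, hV₀, hzV₀, he₀⟩ := exists_gen_cover hL
  let P : X.Opens := V ⊓ C
  let U : ((P : Scheme.{u}) : Type u) → X.Opens := fun a => P.ι ''ᵁ V₀ a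
  have hUP : ∀ a, U a ≤ P := fun a => by rintro _ ⟨y, -, rfl⟩; exact y.2
  have hPU : P ≤ iSup U := fun y hy => Opens.mem_iSup.2 ⟨⟨y, hy⟩, ⟨⟨y, hy⟩, hzV₀ _, rfl⟩⟩
  obtain ⟨η, hη, hF⟩ := exists_cocycle (L := L) (e := fun a => res L (P.ι.preimage_image_eq (V₀ a)).le (e₀ a))
    hUP fun a => (he₀ a).res _
  suffices hgood : ∀ y ∈ V, ∃ O : X.Opens, y ∈ O ∧ Cob U η O by
    intro y
    obtain ⟨O, hyO, hO⟩ := hgood (V.ι y) y.2
    obtain ⟨s, hs⟩ := hF.gen_of_cob hPU hO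
    refine ⟨V.ι ⁻¹ᵁ O, hyO, _, hs.res (fun z hz => ?_ :
      X.homOfLE (inf_le_left : V ⊓ C ≤ V) ⁻¹ᵁ (V.ι ⁻¹ᵁ O) ≤ P.ι ⁻¹ᵁ O)⟩
    have hz' : V.ι (X.homOfLE (inf_le_left : V ⊓ C ≤ V) z) ∈ O := hz
    rw [show V.ι (X.homOfLE (inf_le_left : V ⊓ C ≤ V) z) = P.ι z from
      congr($(Scheme.homOfLE_ι X (inf_le_left : V ⊓ C ≤ V)) z)] at hz'
    exact hz'
  intro x hxV
  obtain ⟨D, hD, hxD, hDV⟩ := exists_isAffineOpen_mem_and_subset hxV
  obtain ⟨ι, _, g, c, hgK, hgU, hcov⟩ := exists_basic_cover hD (inf_le_left : D ⊓ C ≤ D) (hc D hD) U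
    (fun z hz => hPU ⟨hDV hz.1, hz.2⟩)
  let G : ι → X.Opens := fun a => X.basicOpen (g a)
  let η₀ : ∀ a b, Γ(X, G a ⊓ G b) := fun a b => resX X (inf_le_inf (hgU a) (hgU b)) (η (c a) (c b))
  have hη₀ : IsCocycle G η₀ := by
    refine ⟨fun a b => (hη.unit _ _).map _, fun a b d W ha hb hd => ?_⟩
    simp only [η₀, resX_resX]
    exact hη.rel _ _ _ W (ha.trans (hgU a)) (hb.trans (hgU b)) (hd.trans (hgU d))
  obtain ⟨y, rfl⟩ := Surjective.surj (f := f) x
  obtain ⟨O', hyO', k, hku, hk⟩ := exists_cob_of_ext (hη₀.pull f) (hE (f ⁻¹ᵁ D))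
    (fun a => le_inf (f.preimage_mono (X.basicOpen_le _)) (f.preimage_mono ((hgK a).trans inf_le_right)))
    (fun z hz => by
      obtain ⟨a, ha⟩ := Opens.mem_iSup.1 (hcov hz)
      exact Opens.mem_iSup.2 ⟨a, ha⟩) (x := y) hxD
  obtain ⟨D', hD', hyD', e, hD'O⟩ := exists_affine_le f hxD O' hyO'
  let h' : ∀ a, Γ(X', D' ⊓ f ⁻¹ᵁ G a) := fun a =>
    resX X' (le_inf inf_le_right (inf_le_left.trans hD'O)) (k a)
  have hu' : ∀ a, IsUnit (h' a) := fun a => (hku a).map _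
  have hrel : ∀ a b, resX X' (inf_le_inf_left _ (f.preimage_mono inf_le_right) :
        D' ⊓ f ⁻¹ᵁ (G a ⊓ G b) ≤ D' ⊓ f ⁻¹ᵁ G b) (h' b) =
      resX X' (inf_le_inf_left _ (f.preimage_mono inf_le_left)) (h' a) *
        resX X' (inf_le_right : D' ⊓ f ⁻¹ᵁ (G a ⊓ G b) ≤ _) (f.app _ (η₀ a b)) := by
    intro a b
    simp only [h', resX_resX]
    exact hk a b _ (inf_le_right.trans (f.preimage_mono inf_le_left))
      (inf_le_right.trans (f.preimage_mono inf_le_right)) (inf_le_left.trans hD'O)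
  have hle : ∀ a, D' ⊓ f ⁻¹ᵁ G a ≤ D' ⊓ f ⁻¹ᵁ C := fun a =>
    inf_le_inf_left _ (f.preimage_mono ((hgK a).trans inf_le_right))
  have hcov' : D' ⊓ f ⁻¹ᵁ C ≤ ⨆ a, D' ⊓ f ⁻¹ᵁ G a := fun z hz => by
    obtain ⟨a, ha⟩ := Opens.mem_iSup.1 (hcov ⟨e hz.1, hz.2⟩)
    exact Opens.mem_iSup.2 ⟨a, hz.1, ha⟩
  have hcoef : ∀ m : ∀ a, Γ(X, G a), IsSec (η := η₀) G m → ∃ r : Γ(X', D'),
      ∀ a, resX X' inf_le_right (f.app (G a) (m a)) = resX X' inf_le_left r * h' a := by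
    intro m hm
    obtain ⟨w, hw, -⟩ := resX_glue (fun a => D' ⊓ f ⁻¹ᵁ G a) hle hcov'
      (fun a => resX X' (inf_le_right : D' ⊓ f ⁻¹ᵁ G a ≤ f ⁻¹ᵁ G a) (f.app (G a) (m a)) * ↑(hu' a).unit⁻¹) fun a b => by
        let W := (D' ⊓ f ⁻¹ᵁ G a) ⊓ (D' ⊓ f ⁻¹ᵁ G b)
        have hW : W ≤ D' ⊓ f ⁻¹ᵁ (G a ⊓ G b) :=
          le_inf (inf_le_left.trans inf_le_left) (le_inf (inf_le_left.trans inf_le_right) (inf_le_right.trans inf_le_right))
        have h1 := congrArg (resX X' hW) (congrArg (resX X' (inf_le_right : D' ⊓ f ⁻¹ᵁ (G a ⊓ G b) ≤ _))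
          (congrArg (f.app _) (hm a b)))
        have h2 := congrArg (resX X' hW) (hrel a b)
        have ha := congrArg (resX X' (inf_le_left : W ≤ D' ⊓ f ⁻¹ᵁ G a)) (hu' a).mul_val_inv
        have hb := congrArg (resX X' (inf_le_right : W ≤ D' ⊓ f ⁻¹ᵁ G b)) (hu' b).mul_val_inv
        simp only [map_mul, map_one, app_resX, resX_resX] at h1 h2 ha hb ⊢
        refine (((hu' b).map (resX X' (inf_le_right : W ≤ D' ⊓ f ⁻¹ᵁ G b)))).mul_right_cancel ?_
        rw [mul_assoc _ _ (resX X' (inf_le_right : W ≤ D' ⊓ f ⁻¹ᵁ G b) (h' b)),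
          mul_assoc _ _ (resX X' (inf_le_right : W ≤ D' ⊓ f ⁻¹ᵁ G b) (h' b))]
        conv_rhs => rw [mul_comm (resX X' (inf_le_right : W ≤ D' ⊓ f ⁻¹ᵁ G b) (↑(hu' b).unit⁻¹)), hb, mul_one, h1]
        congr 1
        rw [h2, ← mul_assoc, mul_comm (resX X' (inf_le_left : W ≤ D' ⊓ f ⁻¹ᵁ G a) (↑(hu' a).unit⁻¹)), ha, one_mul]
    obtain ⟨r, hr⟩ := (hA D').2 w
    refine ⟨r, fun a => ?_⟩
    have := hw a
    rw [← hr, resX_resX] at this
    rw [this, mul_assoc, IsUnit.val_inv_mul, mul_one]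
  have hexists : ∃ (m : ∀ a, Γ(X, G a)) (r : Γ(X', D')), IsSec (η := η₀) G m ∧ y ∈ X'.basicOpen r ∧
      ∀ a, resX X' inf_le_right (f.app (G a) (m a)) = resX X' inf_le_left r * h' a := by
    by_contra! hno
    let q := (hD'.primeIdealOf ⟨y, hyD'⟩).asIdeal
    have hq : ∀ r : Γ(X', D'), y ∉ X'.basicOpen r → r ∈ q := fun r hr => by
      by_contra hn
      exact hr ((Groth.QCohMod.mem_basicOpen_iff_notMem_primeIdealOf hD' r y hyD').2 hn)
    obtain ⟨r, hr, hrz⟩ := sec_induction f hD hD' e G (fun a => hD.basicOpen _) (fun a => X.basicOpen_le _)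
      (fun a b => basicOpen_inf_isAffine hD _ _) η₀ h' hrel
      (fun z => ∃ r ∈ q, ∀ a, z a = resX X' inf_le_left r * h' a) ⟨0, q.zero_mem, fun a => by simp⟩
      (fun z z' ⟨r, hr, hz⟩ ⟨r', hr', hz'⟩ => ⟨r + r', q.add_mem hr hr', fun a => by
        rw [Pi.add_apply, hz a, hz' a, map_add, add_mul]⟩)
      (fun s m hm => by
        obtain ⟨r, hr⟩ := hcoef m hm
        have hrq : r ∈ q := hq r fun hyr => by
          obtain ⟨a, ha⟩ := hno m r hm hyr
          exact ha (hr a)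
        exact ⟨s * r, q.mul_mem_left s hrq, fun a => by rw [map_mul, mul_assoc, ← hr a]⟩)
    have hone : r = 1 := (hA D').1 (resX_ext (fun a => D' ⊓ f ⁻¹ᵁ G a) hle hcov' fun a => by
      simp only [map_one, resX_resX]
      refine (hu' a).mul_right_cancel ?_
      rw [one_mul]
      exact (hrz a).symm)
    exact (hD'.primeIdealOf ⟨y, hyD'⟩).2.ne_top ((Ideal.eq_top_iff_one _).2 (hone ▸ hr))
  obtain ⟨m, r, hm, hyr, hmr⟩ := hexists
  have hF' : ∀ a, f y ∉ closure {z : X | z ∈ G a ∧ z ∉ X.basicOpen (m a)} := by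
    intro a h
    obtain ⟨z, hzG, hzm, hzy⟩ := exists_generization hD (hD.basicOpen _) (X.basicOpen_le _) (m a) hxD h
    obtain ⟨z', hz'y, rfl⟩ := Flat.generalizingMap f hzy
    have hz'r : z' ∈ X'.basicOpen r := hz'y.mem_open (X'.basicOpen r).2 hyr
    have hW : z' ∈ D' ⊓ f ⁻¹ᵁ G a := ⟨X'.basicOpen_le r hz'r, hzG⟩
    apply hzm
    change z' ∈ f ⁻¹ᵁ X.basicOpen (m a)
    rw [Scheme.preimage_basicOpen]
    have h1 : z' ∈ X'.basicOpen (resX X' (inf_le_right : D' ⊓ f ⁻¹ᵁ G a ≤ _) (f.app (G a) (m a))) := by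
      rw [hmr a, Scheme.basicOpen_mul, Scheme.basicOpen_of_isUnit _ (hu' a)]
      refine ⟨?_, hW⟩
      change z' ∈ X'.basicOpen (X'.presheaf.map (homOfLE (inf_le_left : D' ⊓ f ⁻¹ᵁ G a ≤ D')).op r)
      rw [Scheme.basicOpen_res]
      exact ⟨hW, hz'r⟩
    change z' ∈ X'.basicOpen (X'.presheaf.map (homOfLE (inf_le_right : D' ⊓ f ⁻¹ᵁ G a ≤ _)).op
      (f.app (G a) (m a))) at h1
    rw [Scheme.basicOpen_res] at h1
    exact h1.2
  let O : X.Opens := D ⊓ ⟨⋂ a, (closure {z : X | z ∈ G a ∧ z ∉ X.basicOpen (m a)})ᶜ,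
    isOpen_iInter_of_finite fun a => isClosed_closure.isOpen_compl⟩
  have hmu : ∀ a, IsUnit (resX X (inf_le_left : G a ⊓ O ≤ G a) (m a)) := fun a =>
    isUnit_resX_of_le _ fun z hz => by
      by_contra hn
      exact Set.mem_iInter.1 hz.2.2 a (subset_closure ⟨hz.1, hn⟩)
  refine ⟨O, ⟨hxD, Set.mem_iInter.2 hF'⟩, ?_⟩
  let W₁ : ((P : Scheme.{u}) : Type u) → ι → X.Opens := fun i a => U i ⊓ (G a ⊓ O)
  have hW₁ : ∀ i a, W₁ i a ≤ U i ⊓ O := fun i a => inf_le_inf_left _ inf_le_right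
  have hW₁c : ∀ i, U i ⊓ O ≤ ⨆ a, W₁ i a := fun i z hz => by
    obtain ⟨a, ha⟩ := Opens.mem_iSup.1 (hcov ⟨hz.2.1, (hUP i hz.1).2⟩)
    exact Opens.mem_iSup.2 ⟨a, hz.1, ha, hz.2⟩
  let p : ∀ i a, Γ(X, W₁ i a) := fun i a =>
    resX X (inf_le_right.trans inf_le_left) (m a) *
      resX X (le_inf (inf_le_right.trans (inf_le_left.trans (hgU a))) inf_le_left) (η (c a) i)
  choose hnew hhnew _ using fun i => resX_glue (W₁ i) (hW₁ i) (hW₁c i) (p i) fun a b => by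
    let W := W₁ i a ⊓ W₁ i b
    have hWG : W ≤ G a ⊓ G b :=
      le_inf (inf_le_left.trans (inf_le_right.trans inf_le_left)) (inf_le_right.trans (inf_le_right.trans inf_le_left))
    have h1 := congrArg (resX X hWG) (hm a b)
    have h2 := hη.rel (c a) (c b) i W (hWG.trans (inf_le_left.trans (hgU a)))
      (hWG.trans (inf_le_right.trans (hgU b))) (inf_le_left.trans inf_le_left)
    simp only [η₀, p, map_mul, resX_resX] at h1 h2 ⊢
    rw [h1, h2, mul_assoc]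
  refine ⟨hnew, fun i => ?_, fun i j W hi hj hO => ?_⟩
  · refine isUnit_of_isUnit_res (W₁ i) (hW₁ i) (hW₁c i) fun a => ?_
    rw [hhnew i a]
    refine IsUnit.mul ?_ ((hη.unit _ _).map _)
    have := (hmu a).map (resX X (inf_le_right : W₁ i a ≤ G a ⊓ O))
    rwa [resX_resX] at this
  · refine resX_ext (fun a => W ⊓ G a) (fun _ => inf_le_left) (fun z hz => ?_) fun a => ?_
    · obtain ⟨a, ha⟩ := Opens.mem_iSup.1 (hcov ⟨(hO hz).1, (hUP i (hi hz)).2⟩)
      exact Opens.mem_iSup.2 ⟨a, hz, ha⟩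
    · have hA' : W ⊓ G a ≤ W₁ i a := fun z hz => ⟨hi hz.1, hz.2, hO hz.1⟩
      have hA'' : W ⊓ G a ≤ W₁ j a := fun z hz => ⟨hj hz.1, hz.2, hO hz.1⟩
      have e1 := congrArg (resX X hA') (hhnew i a)
      have e2 := congrArg (resX X hA'') (hhnew j a)
      have e3 := hη.rel (c a) i j (W ⊓ G a) (inf_le_right.trans (hgU a)) (inf_le_left.trans hi) (inf_le_left.trans hj)
      simp only [p, map_mul, resX_resX] at e1 e2 e3 ⊢
      rw [e1, e2, e3, mul_assoc]

theorem pair_of_flat [QuasiCompact f] (Y : Closeds ↥X)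
    (hU : QuasiCompact (X.homOfLE (le_top : Y.compl ≤ ⊤)))
    (h : ParaF.IsParafactorialPair X' (ParaF.closedsPreimage f Y)) : ParaF.IsParafactorialPair X Y := by
  obtain ⟨hA, hE⟩ := (pair_iff _ _).1 h
  have hC : (ParaF.closedsPreimage f Y).compl = f ⁻¹ᵁ Y.compl := rfl
  rw [hC] at hA hE
  have : IsIso (⊤ : X.Opens).ι := inferInstanceAs (IsIso X.topIso.hom)
  have : QuasiCompact (Scheme.Opens.ι (X := X) Y.compl) := by
    rw [← X.homOfLE_ι (le_top : (Y.compl : X.Opens) ≤ ⊤)]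
    infer_instance
  have hc : ∀ D : X.Opens, IsAffineOpen D → IsCompact ((D ⊓ Y.compl : X.Opens) : Set X) := fun D hD =>
    Groth.Misc7.DepthTwo.isCompact_inf hD
  exact (pair_iff X Y).2 ⟨hart_of_flat f hA hc, fun V => ext_of_flat f hA hE hc V⟩

end Groth.ParaFormal
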