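/-
Parafactoriality of local rings of formally smooth local algebras: reduction to power series over
Cohen algebras (EGA IV 21.14.1).
-/
import Groth.Agent.ParaFormal.CohenStructure
import Groth.Agent.ParaFormal.PowerSeriesReg
import Groth.Agent.Calg4.FlatDepth
import Groth.Agent.Calg4.RegularFlat
import Groth.Agent.S2461
import Groth.Agent.S2865
import Groth.Agent.S2366
import Groth.Agent.S4535
import Groth.Agent.Ega4Algebra2.FibreChange
import Groth.Agent.Ega4Algebra2.DepthFlat
import Mathlib.FieldTheory.PurelyInseparable.Basic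

set_option autoImplicit false
universe u

open IsLocalRing TensorProduct

namespace Groth.ParaFormal.FsReduce

/-- A prime over a given one along a faithfully flat map along which parafactoriality descends. -/
theorem exists_descend {B C : Type u} [CommRing B] [CommRing C] [IsNoetherianRing B] [IsNoetherianRing C]
    [Algebra B C] [Module.FaithfullyFlat B C] (q : Ideal B) [q.IsPrime] :
    ∃ (Q : Ideal C) (_ : Q.IsPrime), Q.comap (algebraMap B C) = q ∧
      LocCoh.depth (Localization.AtPrime q) (Localization.AtPrime q) =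
        LocCoh.depth (Localization.AtPrime Q) (Localization.AtPrime Q) ∧
      ringKrullDim (Localization.AtPrime q) ≤ ringKrullDim (Localization.AtPrime Q) ∧
      (ParaF.IsParafactorialLocalRing (Localization.AtPrime Q) →
        ParaF.IsParafactorialLocalRing (Localization.AtPrime q)) := by
  obtain ⟨P₀, hP₀⟩ := PrimeSpectrum.comap_surjective_of_faithfullyFlat (B := C) ⟨q, inferInstance⟩
  have hP₀' : P₀.asIdeal.comap (algebraMap B C) = q := congrArg PrimeSpectrum.asIdeal hP₀
  obtain ⟨Q, hQmin, hQle⟩ := Ideal.exists_minimalPrimes_le (I := q.map (algebraMap B C)) (J := P₀.asIdeal)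
    (Ideal.map_le_iff_le_comap.2 hP₀'.ge)
  have hQp : Q.IsPrime := hQmin.1.1
  have hQq : Q.comap (algebraMap B C) = q := le_antisymm ((Ideal.comap_mono hQle).trans hP₀'.le)
    (Ideal.map_le_iff_le_comap.1 hQmin.1.2)
  let φ := Localization.localRingHom q Q (algebraMap B C) hQq.symm
  let alg : Algebra (Localization.AtPrime q) (Localization.AtPrime Q) := φ.toAlgebra
  have : IsLocalHom (algebraMap (Localization.AtPrime q) (Localization.AtPrime Q)) :=
    inferInstanceAs (IsLocalHom φ)
  have : Module.Flat (Localization.AtPrime q) (Localization.AtPrime Q) :=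
    RingHom.Flat.localRingHom (RingHom.flat_algebraMap_iff.2 (inferInstance : Module.Flat B C)) Q q hQq.symm
  set J := (maximalIdeal (Localization.AtPrime q)).map (algebraMap (Localization.AtPrime q) (Localization.AtPrime Q))
  have hprimes : ∀ P : Ideal (Localization.AtPrime Q), P.IsPrime → J ≤ P → P = maximalIdeal _ := by
    intro P hP hJP
    have hle : q.map (algebraMap B C) ≤ P.comap (algebraMap C _) := Ideal.map_le_iff_le_comap.2 fun c hc => by
      rw [Ideal.mem_comap, Ideal.mem_comap, ← Localization.localRingHom_to_map q Q (algebraMap B C) hQq.symm]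
      exact hJP (Ideal.mem_map_of_mem _ ((IsLocalization.AtPrime.to_map_mem_maximal_iff _ q c).2 hc))
    have hPQ : P.comap (algebraMap C _) ≤ Q := fun c hc => by
      by_contra hcQ
      exact hP.ne_top (P.eq_top_of_isUnit_mem hc (IsLocalization.map_units _ (⟨c, hcQ⟩ : Q.primeCompl)))
    have := le_antisymm hPQ (hQmin.2 ⟨inferInstance, hle⟩ hPQ)
    rw [← IsLocalization.map_under Q.primeCompl _ P, ← Localization.AtPrime.map_eq_maximalIdeal]
    exact congrArg (Ideal.map (algebraMap C (Localization.AtPrime Q))) this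
  have : Nontrivial (Localization.AtPrime Q ⧸ J) := Ideal.Quotient.nontrivial_iff.2
    Groth.Calg4.map_maximalIdeal_ne_top
  have : Ring.KrullDimLE 0 (Localization.AtPrime Q ⧸ J) := Ring.KrullDimLE.mk₀ fun P hP => by
    have hJP : J ≤ P.comap (Ideal.Quotient.mk J) := fun c (hc : c ∈ J) => by
      rw [Ideal.mem_comap, (Ideal.Quotient.eq_zero_iff_mem (I := J)).2 hc]; exact P.zero_mem
    have := hprimes (P.comap (Ideal.Quotient.mk J)) inferInstance hJP
    rw [← Ideal.map_comap_of_surjective (Ideal.Quotient.mk J) Ideal.Quotient.mk_surjective P, this]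
    refine (Ideal.map_eq_top_or_isMaximal_of_surjective (Ideal.Quotient.mk J) Ideal.Quotient.mk_surjective
      (maximalIdeal.isMaximal _)).resolve_left fun h => hP.ne_top ?_
    rw [← Ideal.map_comap_of_surjective (Ideal.Quotient.mk J) Ideal.Quotient.mk_surjective P, this]
    exact h
  have hdim0 := ringKrullDimZero_iff_ringKrullDim_eq_zero.1 this
  refine ⟨Q, hQp, hQq, le_antisymm Groth.Calg4.le_depth_of_flat (Groth.Calg4.depth_le_of_flat ?_), ?_,
    fun h => Groth.Agent.S2865.result (Localization.AtPrime q) (Localization.AtPrime Q) hdim0 h⟩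
  · rw [Ideal.radical_eq_sInf]
    exact le_sInf fun P ⟨hle, hP⟩ => (hprimes P hP hle).ge
  · rw [Groth.Calg4.ringKrullDim_eq_add_of_flat (Localization.AtPrime q) (Localization.AtPrime Q), hdim0, add_zero]

theorem parafactorial_of_ringEquiv {R S : Type u} [CommRing R] [CommRing S] [IsNoetherianRing R]
    [IsNoetherianRing S] [IsLocalRing R] [IsLocalRing S] (e : R ≃+* S)
    (h : ParaF.IsParafactorialLocalRing S) : ParaF.IsParafactorialLocalRing R := by
  let : Algebra R S := e.toRingHom.toAlgebra
  have : Module.Flat R S := RingHom.Flat.of_bijective e.bijective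
  have : IsLocalHom (algebraMap R S) := ⟨fun a ha => (MulEquiv.isUnit_map e).1 ha⟩
  refine Groth.Agent.S2865.result R S ?_ h
  have hmap : (maximalIdeal R).map (algebraMap R S) = maximalIdeal S :=
    IsLocalRing.map_maximalIdeal_of_surjective _ e.surjective
  rw [hmap]
  exact ringKrullDim_eq_zero_of_isField
    ((Ideal.Quotient.maximal_ideal_iff_isField_quotient _).1 (maximalIdeal.isMaximal S))

theorem depth_le_of_ringEquiv {R S : Type u} [CommRing R] [CommRing S] [IsNoetherianRing R]
    [IsNoetherianRing S] [IsLocalRing R] [IsLocalRing S] (e : R ≃+* S) :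
    LocCoh.depth R R ≤ LocCoh.depth S S := by
  let : Algebra R S := e.toRingHom.toAlgebra
  have : Module.Flat R S := RingHom.Flat.of_bijective e.bijective
  have : IsLocalHom (algebraMap R S) := ⟨fun a ha => (MulEquiv.isUnit_map e).1 ha⟩
  exact Groth.Calg4.le_depth_of_flat

variable {A B : Type u} [CommRing A] [CommRing B] [IsNoetherianRing A] [IsLocalRing A]
  [IsNoetherianRing B] [IsLocalRing B] [Algebra A B] [IsLocalHom (algebraMap A B)]

/-- The case of a separable residue extension and a complete algebra. -/
theorem isParafactorial_of_complete [IsAdicComplete (maximalIdeal B) B]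
    (hfs : EGA41.IsFormallySmoothAdic A (maximalIdeal A) B (maximalIdeal B))
    [Algebra.IsGeometricallyReduced (ResidueField A) (ResidueField B)]
    (q : Ideal B) [q.IsPrime] (hq : ¬ q ≤ (maximalIdeal A).map (algebraMap A B))
    (hdepth : (3 : ℕ∞) ≤ LocCoh.depth (Localization.AtPrime q) (Localization.AtPrime q)) :
    ParaF.IsParafactorialLocalRing (Localization.AtPrime q) := by
  obtain ⟨A', _, _, _, _, n, e, _, _, he, -⟩ := exists_cohen_presentation hfs
  let q' := q.comap e.toRingHom
  have hmap : q'.primeCompl.map e.toMonoidHom = q.primeCompl := by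
    ext b
    exact ⟨fun ⟨c, hc, hcb⟩ => hcb ▸ hc, fun hb => ⟨e.symm b, fun h => hb (by simpa [q'] using h), e.apply_symm_apply b⟩⟩
  let ε : Localization.AtPrime q' ≃+* Localization.AtPrime q :=
    IsLocalization.ringEquivOfRingEquiv _ _ e hmap
  refine parafactorial_of_ringEquiv ε.symm (PowerSeriesReg.isParafactorial_mv A' n q' (fun hle => hq ?_)
    (hdepth.trans (depth_le_of_ringEquiv ε.symm)))
  rw [← he]
  exact le_trans (Ideal.map_comap_of_surjective e.toRingHom e.surjective q).ge (Ideal.map_mono hle)

omit [IsNoetherianRing A] in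
theorem completion_data
    (hfs : EGA41.IsFormallySmoothAdic A (maximalIdeal A) B (maximalIdeal B))
    [Algebra.IsGeometricallyReduced (ResidueField A) (ResidueField B)] :
    ∃ _ : IsLocalHom (algebraMap A (AdicCompletion (maximalIdeal B) B)),
      EGA41.IsFormallySmoothAdic A (maximalIdeal A) (AdicCompletion (maximalIdeal B) B)
        (maximalIdeal (AdicCompletion (maximalIdeal B) B)) ∧
      Algebra.IsGeometricallyReduced (ResidueField A) (ResidueField (AdicCompletion (maximalIdeal B) B)) := by
  let Bh := AdicCompletion (maximalIdeal B) B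
  have : IsLocalHom (algebraMap A Bh) := by
    rw [IsScalarTower.algebraMap_eq A B Bh]; infer_instance
  have h1 := (Groth.Agent.S2461.result (maximalIdeal A) (maximalIdeal B)).mp hfs
  rw [← AdicCompletion.maximalIdeal_eq_map] at h1
  let r : ResidueField B ≃+* ResidueField Bh :=
    RingEquiv.ofBijective _ (Groth.Ega41Exist.bijective_residueField_map_completion (A := B))
  let rA : ResidueField B ≃ₐ[ResidueField A] ResidueField Bh := AlgEquiv.ofRingEquiv (f := r) fun x => by
    obtain ⟨a, rfl⟩ := residue_surjective x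
    show ResidueField.map (algebraMap B Bh) (residue B (algebraMap A B a)) = residue Bh (algebraMap A Bh a)
    rw [ResidueField.map_residue, ← IsScalarTower.algebraMap_apply A B Bh]
  exact ⟨inferInstance, h1, Algebra.IsGeometricallyReduced.of_injective rA.symm.toAlgHom rA.symm.injective⟩

/-- The case of a separable residue extension. -/
theorem isParafactorial_of_separable
    (hfs : EGA41.IsFormallySmoothAdic A (maximalIdeal A) B (maximalIdeal B))
    [Algebra.IsGeometricallyReduced (ResidueField A) (ResidueField B)]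
    (q : Ideal B) [q.IsPrime] (hq : ¬ q ≤ (maximalIdeal A).map (algebraMap A B))
    (hdepth : (3 : ℕ∞) ≤ LocCoh.depth (Localization.AtPrime q) (Localization.AtPrime q)) :
    ParaF.IsParafactorialLocalRing (Localization.AtPrime q) := by
  let Bh := AdicCompletion (maximalIdeal B) B
  have : IsNoetherianRing Bh :=
    Groth.Calg1.isNoetherianRing_adicCompletion _ (IsNoetherian.noetherian (maximalIdeal B))
  have : IsAdicComplete (maximalIdeal Bh) Bh := by
    rw [AdicCompletion.maximalIdeal_eq_map]
    exact (IsAdicComplete.map_algebraMap_iff _ _).mpr (AdicCompletion.isAdicComplete (IsNoetherian.noetherian _))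
  have : IsLocalHom (algebraMap B Bh) := by
    refine ((IsLocalRing.local_hom_TFAE (algebraMap B Bh)).out 3 0).mp fun x hx => ?_
    rw [Ideal.mem_comap, AdicCompletion.maximalIdeal_eq_map]
    exact Ideal.mem_map_of_mem _ hx
  have : IsLocalHom (algebraMap A Bh) := by
    rw [IsScalarTower.algebraMap_eq A B Bh]; infer_instance
  have h1 := (Groth.Agent.S2461.result (maximalIdeal A) (maximalIdeal B)).mp hfs
  rw [← AdicCompletion.maximalIdeal_eq_map] at h1
  let r : ResidueField B ≃+* ResidueField Bh :=
    RingEquiv.ofBijective _ (Groth.Ega41Exist.bijective_residueField_map_completion (A := B))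
  let rA : ResidueField B ≃ₐ[ResidueField A] ResidueField Bh := AlgEquiv.ofRingEquiv (f := r) fun x => by
    obtain ⟨a, rfl⟩ := residue_surjective x
    show ResidueField.map (algebraMap B Bh) (residue B (algebraMap A B a)) = residue Bh (algebraMap A Bh a)
    rw [ResidueField.map_residue, ← IsScalarTower.algebraMap_apply A B Bh]
  have : Algebra.IsGeometricallyReduced (ResidueField A) (ResidueField Bh) :=
    Algebra.IsGeometricallyReduced.of_injective rA.symm.toAlgHom rA.symm.injective
  have : Module.FaithfullyFlat B Bh := Module.FaithfullyFlat.of_flat_of_isLocalHom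
  obtain ⟨Q, hQ, hQq, hd, -, himp⟩ := exists_descend (C := Bh) q
  refine himp (isParafactorial_of_complete h1 Q (fun hle => hq ?_) (hdepth.trans hd.le))
  rw [← hQq, ← Ideal.comap_map_eq_self_of_faithfullyFlat (B := Bh) ((maximalIdeal A).map (algebraMap A B)),
    Ideal.map_map, ← IsScalarTower.algebraMap_eq]
  exact Ideal.comap_mono hle

theorem eq_one_tmul_of_purelyInseparable {k k' K : Type u} [Field k] [Field k'] [Field K] [Algebra k k']
    [Algebra k K] [IsPurelyInseparable k k'] (x : k' ⊗[k] K) : IsNilpotent x ∨ IsUnit x := by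
  obtain ⟨n, hn, c, hc⟩ :=
    IsPurelyInseparable.exists_pow_mem_range_tensorProduct (k := k) (R := K) (Algebra.TensorProduct.comm k k' K x)
  have hx : x ^ n = 1 ⊗ₜ[k] c := by
    apply (Algebra.TensorProduct.comm k k' K).injective
    rw [map_pow, ← hc, Algebra.TensorProduct.comm_tmul]
    rfl
  by_cases hc0 : c = 0
  · exact Or.inl ⟨n, by rw [hx, hc0, TensorProduct.tmul_zero]⟩
  · refine Or.inr ((isUnit_pow_iff hn.ne').1 ?_)
    rw [hx]
    exact (isUnit_iff_ne_zero.2 hc0).map (Algebra.TensorProduct.includeRight : K →ₐ[k] k' ⊗[k] K)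

theorem isFormallySmoothAdic_of_topology {A B : Type u} [CommRing A] [CommRing B] [Algebra A B] (a : Ideal A)
    {b b' : Ideal B} (h : EGA41.IsFormallySmoothAdic A a B b) (hb : ∃ N, b' ^ N ≤ b) (hb' : b ≤ b') :
    EGA41.IsFormallySmoothAdic A a B b' := by
  obtain ⟨N, hN⟩ := hb
  intro C _ _ J hJ hk u ⟨k, hu⟩
  exact h C J hJ hk u ⟨k, fun x hx => hu x (Ideal.pow_right_mono hb' k hx)⟩

set_option maxHeartbeats 1000000 in
/-- A finite flat extension killing the inseparability of the residue extension. -/
theorem exists_separable_reduction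
    (hfs : EGA41.IsFormallySmoothAdic A (maximalIdeal A) B (maximalIdeal B))
    (hres : ∃ (k' : Type u) (_ : Field k') (_ : Algebra (ResidueField A) k'),
      Module.Finite (ResidueField A) k' ∧ IsPurelyInseparable (ResidueField A) k' ∧
        Algebra.IsGeometricallyReduced k'
          ((k' ⊗[ResidueField A] ResidueField B) ⧸ nilradical (k' ⊗[ResidueField A] ResidueField B)))
    (q : Ideal B) [q.IsPrime] (hq : ¬ q ≤ (maximalIdeal A).map (algebraMap A B)) :
    ∃ (A' R : Type u) (_ : CommRing A') (_ : CommRing R) (_ : IsNoetherianRing A') (_ : IsLocalRing A')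
      (_ : IsNoetherianRing R) (_ : IsLocalRing R) (_ : Algebra A' R) (_ : IsLocalHom (algebraMap A' R))
      (φ : A →+* A') (_ : EGA41.IsFormallySmoothAdic A' (maximalIdeal A') R (maximalIdeal R))
      (_ : Algebra.IsGeometricallyReduced (ResidueField A') (ResidueField R)) (Q : Ideal R) (_ : Q.IsPrime),
      φ.Flat ∧ (Q.comap (algebraMap A' R)).comap φ = q.comap (algebraMap A B) ∧
      (¬ Q ≤ (maximalIdeal A').map (algebraMap A' R)) ∧
      LocCoh.depth (Localization.AtPrime q) (Localization.AtPrime q) =
        LocCoh.depth (Localization.AtPrime Q) (Localization.AtPrime Q) ∧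
      (ParaF.IsParafactorialLocalRing (Localization.AtPrime Q) →
        ParaF.IsParafactorialLocalRing (Localization.AtPrime q)) := by
  classical
  obtain ⟨k', _, _, hfin, hpi, hgr⟩ := hres
  obtain ⟨A'', _, _, hlocA, hlhA, hflatA, hfinA, e, he⟩ := Groth.Agent.S2366.result (A := A) k'
  have : IsNoetherianRing A'' := IsNoetherianRing.of_finite A A''
  set k := ResidueField A
  set K := ResidueField B
  let T := k' ⊗[k] K
  have : Nontrivial T := (Algebra.TensorProduct.includeRight_injective (R := k) (A := k') (B := K)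
    (algebraMap k k').injective).nontrivial
  let Qf := T ⧸ nilradical T
  have hQfield : IsField Qf := by
    refine ⟨⟨0, 1, fun h => ?_⟩, mul_comm, fun {a} ha => ?_⟩
    · have h1 : (1 : T) ∈ nilradical T := Ideal.Quotient.eq_zero_iff_mem.1 h.symm
      exact not_isNilpotent_one (mem_nilradical.1 h1)
    · obtain ⟨x, rfl⟩ := Ideal.Quotient.mk_surjective a
      rcases eq_one_tmul_of_purelyInseparable x with hx | hx
      · exact absurd (Ideal.Quotient.eq_zero_iff_mem.2 (mem_nilradical.2 hx)) ha
      · exact ⟨Ideal.Quotient.mk _ ↑hx.unit⁻¹, by rw [← map_mul, IsUnit.mul_val_inv, map_one]⟩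
  letI : Field Qf := hQfield.toField
  let pA : A'' →+* k' := e.toRingHom.comp (Ideal.Quotient.mk _)
  have hpA : ∀ a : A, pA (algebraMap A A'' a) = algebraMap k k' (residue A a) := he
  have hpAs : Function.Surjective pA := e.surjective.comp Ideal.Quotient.mk_surjective
  let R := A'' ⊗[A] B
  let : Algebra B R := Algebra.TensorProduct.rightAlgebra
  let comm := Algebra.TensorProduct.commRight A B A''
  have hfinR : Module.Finite B R := Module.Finite.equiv comm.toLinearEquiv
  have hflatR : Module.Flat B R := Module.Flat.of_linearEquiv comm.symm.toLinearEquiv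
  have : IsNoetherianRing R := IsNoetherianRing.of_finite B R
  let algAQ : Algebra A Qf := ((algebraMap k Qf).comp (residue A)).toAlgebra
  let iA : A'' →ₐ[A] Qf :=
    { ((algebraMap k' Qf).comp pA : A'' →+* Qf) with
      commutes' := fun a => by
        show algebraMap k' Qf (pA (algebraMap A A'' a)) = algebraMap k Qf (residue A a)
        rw [hpA, ← IsScalarTower.algebraMap_apply] }
  let iB : B →ₐ[A] Qf :=
    { (((Ideal.Quotient.mk (nilradical T)).comp
        (Algebra.TensorProduct.includeRight : K →ₐ[k] T).toRingHom).comp (residue B) : B →+* Qf) with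
      commutes' := fun a => by
        show Ideal.Quotient.mk (nilradical T) ((Algebra.TensorProduct.includeRight : K →ₐ[k] T) (algebraMap k K (residue A a))) = _
        rw [AlgHom.commutes]
        rfl }
  let π : R →ₐ[A] Qf := Algebra.TensorProduct.lift iA iB fun _ _ => Commute.all _ _
  have hπt : ∀ a b, π (a ⊗ₜ[A] b) = Ideal.Quotient.mk (nilradical T) (pA a ⊗ₜ[k] residue B b) := fun a b => by
    rw [Algebra.TensorProduct.lift_tmul]
    show Ideal.Quotient.mk (nilradical T) (pA a ⊗ₜ[k] (1 : K)) *
      Ideal.Quotient.mk (nilradical T) ((1 : k') ⊗ₜ[k] residue B b) = _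
    rw [← map_mul, Algebra.TensorProduct.tmul_mul_tmul, mul_one, one_mul]
  have hπs : Function.Surjective π := fun z => by
    obtain ⟨x, rfl⟩ := Ideal.Quotient.mk_surjective z
    induction x using TensorProduct.induction_on with
    | zero => exact ⟨0, by simp⟩
    | tmul c d =>
      obtain ⟨a, rfl⟩ := hpAs c
      obtain ⟨b, rfl⟩ := residue_surjective d
      exact ⟨a ⊗ₜ b, hπt a b⟩
    | add x y hx hy =>
      obtain ⟨a, ha⟩ := hx
      obtain ⟨b, hb⟩ := hy
      exact ⟨a + b, by rw [map_add, ha, hb, map_add]⟩
  set P₀ := RingHom.ker π.toRingHom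
  have hP₀ : P₀.IsMaximal := RingHom.ker_isMaximal_of_surjective _ hπs
  -- the ideal of definition
  set b := (maximalIdeal A'').map (algebraMap A'' R) ⊔
    (maximalIdeal B).map (Algebra.TensorProduct.includeRight : B →ₐ[A] R).toRingHom with hb
  have hmA'' : ∀ a ∈ maximalIdeal A'', pA a = 0 := fun a ha => by
    by_contra h
    have hm : (maximalIdeal A).map (algebraMap A A'') = maximalIdeal A'' :=
      IsLocalRing.eq_maximalIdeal (Ideal.Quotient.maximal_of_isField _ (e.toMulEquiv.isField (Field.toIsField k')))
    rw [← hm, ← Ideal.Quotient.eq_zero_iff_mem] at ha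
    exact h (by show e (Ideal.Quotient.mk _ a) = 0; rw [ha, map_zero])
  have hbP : b ≤ P₀ := by
    refine sup_le (Ideal.map_le_iff_le_comap.2 fun a ha => ?_) (Ideal.map_le_iff_le_comap.2 fun c hc => ?_)
    · show π (a ⊗ₜ[A] (1 : B)) = 0
      rw [hπt, hmA'' a ha, TensorProduct.zero_tmul, map_zero]
    · show π ((1 : A'') ⊗ₜ[A] c) = 0
      rw [hπt, (residue_eq_zero_iff c).2 hc, TensorProduct.tmul_zero, map_zero]
  have hunique : ∀ P : Ideal R, P.IsMaximal → b ≤ P → P = P₀ := by
    intro P hP hbP'
    let : Field (R ⧸ P) := Ideal.Quotient.field P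
    let mk := Ideal.Quotient.mk P
    let jA : A'' →+* R ⧸ P := mk.comp (algebraMap A'' R)
    let jB : B →+* R ⧸ P := mk.comp (Algebra.TensorProduct.includeRight : B →ₐ[A] R).toRingHom
    have hjA : ∀ a, pA a = 0 → jA a = 0 := fun a ha => by
      refine Ideal.Quotient.eq_zero_iff_mem.2 (hbP' (Submodule.mem_sup_left (Ideal.mem_map_of_mem _ ?_)))
      by_contra hu
      have := (not_not.1 hu).map pA
      rw [ha] at this
      exact not_isUnit_zero this
    let gA : k' →+* R ⧸ P := RingHom.liftOfSurjective pA hpAs ⟨jA, hjA⟩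
    have hgA : ∀ a, gA (pA a) = jA a := fun a => RingHom.liftOfRightInverse_comp_apply _ _ _ _ a
    have hjB : ∀ c ∈ maximalIdeal B, jB c = 0 := fun c hc =>
      Ideal.Quotient.eq_zero_iff_mem.2 (hbP' (Submodule.mem_sup_right (Ideal.mem_map_of_mem _ hc)))
    let gB : K →+* R ⧸ P := Ideal.Quotient.lift _ jB hjB
    have hgB : ∀ c, gB (residue B c) = jB c := fun c => rfl
    letI : Algebra k (R ⧸ P) := (gB.comp (algebraMap k K)).toAlgebra
    let GA : k' →ₐ[k] R ⧸ P :=
      { gA with
        commutes' := fun x => by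
          obtain ⟨a, rfl⟩ := residue_surjective x
          show gA (algebraMap k k' (residue A a)) = gB (residue B (algebraMap A B a))
          rw [← hpA, hgA, hgB]
          show mk _ = mk _
          rw [AlgHom.toRingHom_eq_coe, RingHom.coe_coe, AlgHom.commutes, ← IsScalarTower.algebraMap_apply] }
    let GB : K →ₐ[k] R ⧸ P := { gB with commutes' := fun x => rfl }
    let G : T →ₐ[k] R ⧸ P := Algebra.TensorProduct.lift GA GB fun _ _ => Commute.all _ _
    have hnil : ∀ x ∈ nilradical T, G x = 0 := fun x hx => ((mem_nilradical.1 hx).map G).eq_zero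
    let G' : Qf →+* R ⧸ P := Ideal.Quotient.lift _ G.toRingHom hnil
    have hfac : ∀ z, G' (π z) = mk z := fun z => by
      induction z using TensorProduct.induction_on with
      | zero => simp
      | tmul a c =>
        rw [hπt, show G' (Ideal.Quotient.mk _ (pA a ⊗ₜ[k] residue B c)) = G (pA a ⊗ₜ[k] residue B c) from rfl,
          Algebra.TensorProduct.lift_tmul]
        show gA (pA a) * gB (residue B c) = _
        rw [hgA, hgB]
        show mk (a ⊗ₜ[A] (1 : B)) * mk ((1 : A'') ⊗ₜ[A] c) = _
        rw [← map_mul, Algebra.TensorProduct.tmul_mul_tmul, mul_one, one_mul]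
      | add x y hx hy => rw [map_add, map_add, hx, hy, map_add]
    refine (hP₀.eq_of_le hP.ne_top fun z hz => ?_).symm
    rw [← Ideal.Quotient.eq_zero_iff_mem]
    show mk z = 0
    rw [← hfac, show π z = 0 from hz, map_zero]
  have hint : Algebra.IsIntegral B R := inferInstance
  have hmaxB : ∀ P : Ideal R, P.IsPrime → b ≤ P → P.IsMaximal := fun P hP hbP' => by
    refine Ideal.isMaximal_of_isIntegral_of_isMaximal_comap (R := B) P ?_
    rw [show P.comap (algebraMap B R) = maximalIdeal B from ((maximalIdeal.isMaximal B).eq_of_le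
      (Ideal.comap_ne_top _ hP.ne_top) fun c hc => hbP' (Submodule.mem_sup_right (Ideal.mem_map_of_mem _ hc))).symm]
    exact maximalIdeal.isMaximal B
  have hmA : (maximalIdeal A).map (algebraMap A A'') = maximalIdeal A'' :=
    IsLocalRing.eq_maximalIdeal (Ideal.Quotient.maximal_of_isField _ (e.toMulEquiv.isField (Field.toIsField k')))
  have hloc : IsLocalRing R := by
    refine IsLocalRing.of_unique_max_ideal ⟨P₀, hP₀, fun P hP => hunique P hP ?_⟩
    have hPB : P.comap (algebraMap B R) = maximalIdeal B :=
      IsLocalRing.eq_maximalIdeal (Ideal.isMaximal_comap_of_isIntegral_of_isMaximal P)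
    refine sup_le ?_ (Ideal.map_le_iff_le_comap.2 fun c hc => hPB.ge hc)
    rw [← hmA, Ideal.map_map]
    refine Ideal.map_le_iff_le_comap.2 fun a ha => ?_
    show algebraMap A'' R (algebraMap A A'' a) ∈ P
    rw [← IsScalarTower.algebraMap_apply, ← AlgHom.commutes (Algebra.TensorProduct.includeRight : B →ₐ[A] R) a]
    exact hPB.ge (Groth.Ega41Flat.map_maximalIdeal_le (A := A) (B := B) (Ideal.mem_map_of_mem _ ha))
  have hP₀m : P₀ = maximalIdeal R := IsLocalRing.eq_maximalIdeal hP₀
  obtain ⟨N, hN⟩ : ∃ N, maximalIdeal R ^ N ≤ b := by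
    refine Ideal.exists_pow_le_of_le_radical_of_fg ?_ (IsNoetherian.noetherian _)
    rw [Ideal.radical_eq_sInf]
    exact le_sInf fun P ⟨hle, hP⟩ => (IsLocalRing.eq_maximalIdeal (hmaxB P hP hle)).ge
  have : IsLocalHom (algebraMap B R) := by
    refine ((IsLocalRing.local_hom_TFAE (algebraMap B R)).out 3 0).mp fun c hc => ?_
    rw [Ideal.mem_comap, ← hP₀m]
    exact hbP (Submodule.mem_sup_right (Ideal.mem_map_of_mem _ hc))
  have : IsLocalHom (algebraMap A'' R) := by
    refine ((IsLocalRing.local_hom_TFAE (algebraMap A'' R)).out 3 0).mp fun c hc => ?_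
    rw [Ideal.mem_comap, ← hP₀m]
    exact hbP (Submodule.mem_sup_left (Ideal.mem_map_of_mem _ hc))
  have hfs' : EGA41.IsFormallySmoothAdic A'' (maximalIdeal A'') R (maximalIdeal R) := by
    refine isFormallySmoothAdic_of_topology _ ?_ ⟨N, hN⟩ (hbP.trans hP₀m.le)
    exact Groth.Agent.S4535.result (maximalIdeal A) (maximalIdeal B) (maximalIdeal A'')
      ⟨1, by rw [pow_one, hmA]⟩ hfs
  -- the residue extension is separable
  let eA : ResidueField A'' ≃+* k' := (Ideal.quotEquivOfEq hmA.symm).trans e
  have heA : ∀ a, eA (residue A'' a) = pA a := fun a => rfl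
  let eR : ResidueField R ≃+* Qf :=
    (Ideal.quotEquivOfEq hP₀m.symm).trans (RingHom.quotientKerEquivOfSurjective (f := π.toRingHom) hπs)
  have heR : ∀ z, eR (residue R z) = π z := fun z => rfl
  have : Algebra.IsGeometricallyReduced (ResidueField A'') (ResidueField R) := by
    refine Groth.Ega4b.isGeometricallyReduced_of_equiv eA.symm eR.symm (fun x => ?_) hgr
    obtain ⟨a, rfl⟩ := hpAs x
    rw [show eA.symm (pA a) = residue A'' a from eA.symm_apply_eq.2 (heA a).symm, RingEquiv.symm_apply_eq]
    show algebraMap k' Qf (pA a) = eR (residue R (a ⊗ₜ[A] (1 : B)))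
    rw [heR, hπt, map_one]
    rfl
  have : Module.FaithfullyFlat B R := Module.FaithfullyFlat.of_flat_of_isLocalHom
  obtain ⟨Q, hQ, hQq, hd, -, himp⟩ := exists_descend (C := R) q
  refine ⟨A'', R, inferInstance, inferInstance, inferInstance, inferInstance, inferInstance, inferInstance,
    inferInstance, inferInstance, algebraMap A A'', hfs', inferInstance, Q, hQ,
    RingHom.flat_algebraMap_iff.2 hflatA, ?_, fun hle => hq ?_, hd, himp⟩
  · rw [← hQq, Ideal.comap_comap, Ideal.comap_comap]
    refine congrArg (fun h => Q.comap h) (RingHom.ext fun a => ?_)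
    show algebraMap A'' R (algebraMap A A'' a) = (Algebra.TensorProduct.includeRight : B →ₐ[A] R) (algebraMap A B a)
    rw [← IsScalarTower.algebraMap_apply, AlgHom.commutes]
  rw [← hQq, ← Ideal.comap_map_eq_self_of_faithfullyFlat (B := R) ((maximalIdeal A).map (algebraMap A B))]
  refine Ideal.comap_mono (hle.trans ?_)
  rw [← hmA, Ideal.map_map, Ideal.map_map]
  refine le_of_eq (congrArg (fun h => Ideal.map h _) (RingHom.ext fun a => ?_))
  show algebraMap A'' R (algebraMap A A'' a) = (Algebra.TensorProduct.includeRight : B →ₐ[A] R) (algebraMap A B a)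
  rw [← IsScalarTower.algebraMap_apply, AlgHom.commutes]

/-- The general case: finite radicial multiplicity of the residue extension. -/
theorem isParafactorial_of_radicial
    (hfs : EGA41.IsFormallySmoothAdic A (maximalIdeal A) B (maximalIdeal B))
    (hres : ∃ (k' : Type u) (_ : Field k') (_ : Algebra (ResidueField A) k'),
      Module.Finite (ResidueField A) k' ∧ IsPurelyInseparable (ResidueField A) k' ∧
        Algebra.IsGeometricallyReduced k'
          ((k' ⊗[ResidueField A] ResidueField B) ⧸ nilradical (k' ⊗[ResidueField A] ResidueField B)))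
    (q : Ideal B) [q.IsPrime] (hq : ¬ q ≤ (maximalIdeal A).map (algebraMap A B))
    (hdepth : (3 : ℕ∞) ≤ LocCoh.depth (Localization.AtPrime q) (Localization.AtPrime q)) :
    ParaF.IsParafactorialLocalRing (Localization.AtPrime q) := by
  obtain ⟨A', R, _, _, _, _, _, _, _, _, φ, hfs', _, Q, _, -, -, hQ, hd, himp⟩ :=
    exists_separable_reduction hfs hres q hq
  exact himp (isParafactorial_of_separable hfs' Q hQ (hd ▸ hdepth))

theorem one_le_depth_of_isDomain {S : Type u} [CommRing S] [IsDomain S] [IsNoetherianRing S] [IsLocalRing S]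
    (h : maximalIdeal S ≠ ⊥) : (1 : ℕ∞) ≤ LocCoh.depth S S := by
  have htop := Groth.LocCohBase.smul_maximalIdeal_ne_top (R := S) S (maximalIdeal.isMaximal S).ne_top
  obtain ⟨x, hx, hx0⟩ := Submodule.exists_mem_ne_zero_of_ne_bot h
  exact_mod_cast (Groth.LocCohBase.le_idealDepth_iff_exists _ htop 1).2
    ⟨[x], rfl, (RingTheory.Sequence.isWeaklyRegular_singleton_iff _ _).2
      (isSMulRegular_iff_right_eq_zero_of_smul.2 fun m hm => (mul_eq_zero.1 hm).resolve_left hx0),
      by simpa using hx⟩

theorem depth_le_of_flat_comap {A A' : Type u} [CommRing A] [CommRing A'] [IsNoetherianRing A]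
    [IsNoetherianRing A'] (φ : A →+* A') (hφ : φ.Flat) (P : Ideal A') [P.IsPrime] :
    LocCoh.depth (Localization.AtPrime (P.comap φ)) (Localization.AtPrime (P.comap φ)) ≤
      LocCoh.depth (Localization.AtPrime P) (Localization.AtPrime P) := by
  let ψ := Localization.localRingHom (P.comap φ) P φ rfl
  let : Algebra (Localization.AtPrime (P.comap φ)) (Localization.AtPrime P) := ψ.toAlgebra
  have : IsLocalHom (algebraMap (Localization.AtPrime (P.comap φ)) (Localization.AtPrime P)) :=
    inferInstanceAs (IsLocalHom ψ)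
  have : Module.Flat (Localization.AtPrime (P.comap φ)) (Localization.AtPrime P) :=
    RingHom.Flat.localRingHom hφ P _ rfl
  exact Groth.Calg4.le_depth_of_flat

/-- In a power series ring a prime outside the extension of the maximal ideal has larger depth than
its trace. -/
theorem depth_add_one_le_mv {A : Type u} [CommRing A] [IsNoetherianRing A] [IsLocalRing A] {n : ℕ}
    (q : Ideal (MvPowerSeries (Fin n) A)) [q.IsPrime]
    (hq : ¬ q ≤ (maximalIdeal A).map (MvPowerSeries.C : A →+* MvPowerSeries (Fin n) A)) :
    LocCoh.depth (Localization.AtPrime (q.comap (MvPowerSeries.C : A →+* MvPowerSeries (Fin n) A)))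
        (Localization.AtPrime (q.comap (MvPowerSeries.C : A →+* MvPowerSeries (Fin n) A))) + 1 ≤
      LocCoh.depth (Localization.AtPrime q) (Localization.AtPrime q) := by
  set C := (MvPowerSeries.C : A →+* MvPowerSeries (Fin n) A)
  set p := q.comap C with hp
  let R' := Localization.AtPrime p
  let R := Localization.AtPrime q
  let ψ := Localization.localRingHom p q C rfl
  let : Algebra R' R := ψ.toAlgebra
  have : IsLocalHom (algebraMap R' R) := inferInstanceAs (IsLocalHom ψ)
  have hC : C.Flat := RingHom.flat_algebraMap_iff.2 (Groth.Ega4Algebra1.flat_powerSeries_base (Fin n) A)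
  have : Module.Flat R' R := RingHom.Flat.localRingHom hC q p rfl
  have hprime : (p.map C).IsPrime := by
    have : p.map C = RingHom.ker (MvPowerSeries.map (Ideal.Quotient.mk p) :
        MvPowerSeries (Fin n) A →+* MvPowerSeries (Fin n) (A ⧸ p)) := by
      ext f
      rw [mem_map_C_iff (IsNoetherian.noetherian _), RingHom.mem_ker, MvPowerSeries.ext_iff]
      simp [Ideal.Quotient.eq_zero_iff_mem]
    rw [this]
    have : Nontrivial (A ⧸ p) := Ideal.Quotient.nontrivial_iff.2 (Ideal.IsPrime.ne_top inferInstance)
    have : IsDomain (MvPowerSeries (Fin n) (A ⧸ p)) := NoZeroDivisors.to_isDomain _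
    exact RingHom.ker_isPrime _
  have hle : p.map C ≤ q := Ideal.map_comap_le
  have hne : p.map C ≠ q := fun h => hq (h ▸ Ideal.map_mono (le_maximalIdeal (Ideal.IsPrime.ne_top (I := p) inferInstance)))
  set J := (maximalIdeal R').map (algebraMap R' R) with hJ
  have hJeq : J = (p.map C).map (algebraMap (MvPowerSeries (Fin n) A) R) := by
    rw [hJ, ← Localization.AtPrime.map_eq_maximalIdeal, Ideal.map_map, Ideal.map_map]
    exact congrArg (fun h => Ideal.map h p) (RingHom.ext (Localization.localRingHom_to_map p q C rfl))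
  have hdisj : Disjoint (q.primeCompl : Set (MvPowerSeries (Fin n) A)) (p.map C : Set _) :=
    Set.disjoint_left.2 fun x hx hx' => hx (hle hx')
  have hJp : J.IsPrime := hJeq ▸ IsLocalization.isPrime_of_isPrime_disjoint q.primeCompl R _ hprime hdisj
  have : IsLocalRing (R ⧸ J) := IsLocalRing.of_surjective' (Ideal.Quotient.mk J) Ideal.Quotient.mk_surjective
  rw [Groth.Ega4b.depth_eq_add_of_flat R' R]
  refine add_le_add_right (one_le_depth_of_isDomain fun h => ?_) _
  have hmax : maximalIdeal R ≤ J := fun x hx => Ideal.Quotient.eq_zero_iff_mem.1 ((Submodule.eq_bot_iff _).1 h _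
    ((IsLocalRing.map_maximalIdeal_of_surjective (Ideal.Quotient.mk J) Ideal.Quotient.mk_surjective).le
      (Ideal.mem_map_of_mem _ hx)))
  refine hne (le_antisymm hle fun x hx => ?_)
  have h1 := hmax ((IsLocalization.AtPrime.to_map_mem_maximal_iff R q x).2 hx)
  rw [hJeq, ← Ideal.mem_comap, ← Ideal.under_def,
    IsLocalization.under_map_of_isPrime_disjoint q.primeCompl R hprime hdisj] at h1
  exact h1

/-- Depth drops at least by one to the base at primes outside the extended maximal ideal. -/
theorem depth_add_one_le_of_separable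
    (hfs : EGA41.IsFormallySmoothAdic A (maximalIdeal A) B (maximalIdeal B))
    [Algebra.IsGeometricallyReduced (ResidueField A) (ResidueField B)]
    (q : Ideal B) [q.IsPrime] (hq : ¬ q ≤ (maximalIdeal A).map (algebraMap A B)) (p : Ideal A) [p.IsPrime]
    (hp : q.comap (algebraMap A B) = p) :
    LocCoh.depth (Localization.AtPrime p) (Localization.AtPrime p) + 1 ≤
      LocCoh.depth (Localization.AtPrime q) (Localization.AtPrime q) := by
  let Bh := AdicCompletion (maximalIdeal B) B
  have : IsNoetherianRing Bh :=
    Groth.Calg1.isNoetherianRing_adicCompletion _ (IsNoetherian.noetherian (maximalIdeal B))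
  have : IsAdicComplete (maximalIdeal Bh) Bh := by
    rw [AdicCompletion.maximalIdeal_eq_map]
    exact (IsAdicComplete.map_algebraMap_iff _ _).mpr (AdicCompletion.isAdicComplete (IsNoetherian.noetherian _))
  obtain ⟨hloc, h1, hgr⟩ := completion_data hfs
  have : Module.FaithfullyFlat B Bh := Module.FaithfullyFlat.of_flat_of_isLocalHom
  obtain ⟨Q, hQ, hQq, hd, -, -⟩ := exists_descend (C := Bh) q
  obtain ⟨A', _, _, _, _, n, e, _, _, he, hcomm⟩ := exists_cohen_presentation h1
  let Q' := Q.comap e.toRingHom
  have hmap : Q'.primeCompl.map e.toMonoidHom = Q.primeCompl := by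
    ext b
    exact ⟨fun ⟨c, hc, hcb⟩ => hcb ▸ hc, fun hb => ⟨e.symm b, fun h => hb (by simpa [Q'] using h), e.apply_symm_apply b⟩⟩
  let ε : Localization.AtPrime Q' ≃+* Localization.AtPrime Q :=
    IsLocalization.ringEquivOfRingEquiv _ _ e hmap
  have hQ' : ¬ Q' ≤ (maximalIdeal A').map (MvPowerSeries.C : A' →+* MvPowerSeries (Fin n) A') := fun hle => hq (by
    rw [← hQq, ← Ideal.comap_map_eq_self_of_faithfullyFlat (B := Bh) ((maximalIdeal A).map (algebraMap A B)),
      Ideal.map_map, ← IsScalarTower.algebraMap_eq, ← he]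
    exact Ideal.comap_mono (le_trans (Ideal.map_comap_of_surjective e.toRingHom e.surjective Q).ge (Ideal.map_mono hle)))
  have hpP : (Q'.comap (MvPowerSeries.C : A' →+* MvPowerSeries (Fin n) A')).comap (algebraMap A A') = p := by
    rw [← hp, ← hQq, Ideal.comap_comap, Ideal.comap_comap, Ideal.comap_comap, ← IsScalarTower.algebraMap_eq]
    exact congrArg (fun h => Q.comap h) (RingHom.ext hcomm)
  subst hpP
  exact (add_le_add_left (depth_le_of_flat_comap (algebraMap A A') (RingHom.flat_algebraMap_iff.2 inferInstance) _) 1).trans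
    ((depth_add_one_le_mv Q' hQ').trans ((depth_le_of_ringEquiv ε).trans hd.ge))

/-- Depth drops at least by one to the base, finite radicial multiplicity version. -/
theorem depth_add_one_le
    (hfs : EGA41.IsFormallySmoothAdic A (maximalIdeal A) B (maximalIdeal B))
    (hres : ∃ (k' : Type u) (_ : Field k') (_ : Algebra (ResidueField A) k'),
      Module.Finite (ResidueField A) k' ∧ IsPurelyInseparable (ResidueField A) k' ∧
        Algebra.IsGeometricallyReduced k'
          ((k' ⊗[ResidueField A] ResidueField B) ⧸ nilradical (k' ⊗[ResidueField A] ResidueField B)))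
    (q : Ideal B) [q.IsPrime] (hq : ¬ q ≤ (maximalIdeal A).map (algebraMap A B)) :
    LocCoh.depth (Localization.AtPrime (q.comap (algebraMap A B))) (Localization.AtPrime (q.comap (algebraMap A B))) + 1 ≤
      LocCoh.depth (Localization.AtPrime q) (Localization.AtPrime q) := by
  obtain ⟨A', R, _, _, _, _, _, _, _, _, φ, hfs', _, Q, _, hφ, hcomp, hQ, hd, -⟩ :=
    exists_separable_reduction hfs hres q hq
  have hgoal : ∀ (P : Ideal A) [P.IsPrime], (Q.comap (algebraMap A' R)).comap φ = P →
      LocCoh.depth (Localization.AtPrime P) (Localization.AtPrime P) + 1 ≤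
        LocCoh.depth (Localization.AtPrime q) (Localization.AtPrime q) := by
    intro P _ hP
    subst hP
    exact (add_le_add_left (depth_le_of_flat_comap φ hφ _) 1).trans
      ((depth_add_one_le_of_separable hfs' Q hQ _ rfl).trans hd.ge)
  exact hgoal _ hcomp

end Groth.ParaFormal.FsReduce
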