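import Groth.Agent.ParaFormal.Basic
import Groth.Agent.PicAux.Cocycle
import Groth.Agent.PicAux.GenLocal

/-!
# Trivialisations of unit cocycles on opens of a scheme
-/

set_option autoImplicit false
universe u

open CategoryTheory AlgebraicGeometry Opposite TopologicalSpace

namespace Groth.ParaFormal

open Groth.PicAux

variable {X : Scheme.{u}} {ι : Type u} (U : ι → X.Opens) (η : ∀ a b, Γ(X, U a ⊓ U b))

/-- A unit cocycle. -/
structure IsCocycle : Prop where
  unit : ∀ a b, IsUnit (η a b)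
  rel : ∀ a b c (W : X.Opens) (ha : W ≤ U a) (hb : W ≤ U b) (hc : W ≤ U c),
    resX X (le_inf ha hc) (η a c) = resX X (le_inf ha hb) (η a b) * resX X (le_inf hb hc) (η b c)

/-- The cocycle `η` is a coboundary over `O`. -/
def Cob (O : X.Opens) : Prop :=
  ∃ h : ∀ a, Γ(X, U a ⊓ O), (∀ a, IsUnit (h a)) ∧
    ∀ a b (W : X.Opens) (ha : W ≤ U a) (hb : W ≤ U b) (hO : W ≤ O),
      resX X (le_inf hb hO) (h b) = resX X (le_inf ha hO) (h a) * resX X (le_inf ha hb) (η a b)

variable {U η}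

theorem Cob.mono {O O' : X.Opens} (h : O' ≤ O) : Cob U η O → Cob U η O' := by
  rintro ⟨g, hu, hg⟩
  refine ⟨fun a => resX X (inf_le_inf_left _ h) (g a), fun a => (hu a).map _, fun a b W ha hb hO => ?_⟩
  simp only [resX_resX]
  exact hg a b W ha hb (hO.trans h)

theorem IsCocycle.diag (hη : IsCocycle U η) (a : ι) (W : X.Opens) (ha : W ≤ U a) :
    resX X (le_inf ha ha) (η a a) = 1 :=
  (((hη.unit a a).map (resX X (le_inf ha ha))).mul_eq_right).1 (hη.rel a a a W ha ha ha).symm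

/-- A cocycle is a coboundary over each member of the cover. -/
theorem IsCocycle.cob_self (hη : IsCocycle U η) (c : ι) {O : X.Opens} (hO : O ≤ U c) : Cob U η O := by
  refine ⟨fun a => resX X (le_inf (inf_le_right.trans hO) inf_le_left) (η c a),
    fun a => (hη.unit c a).map _, fun a b W ha hb hW => ?_⟩
  simp only [resX_resX]
  exact hη.rel c a b W (hW.trans hO) ha hb

section Open

variable {P : X.Opens}

theorem resX_open {V W : (P : Scheme.{u}).Opens} (h : W ≤ V) (x : Γ(X, P.ι ''ᵁ V)) :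
    resX (P : Scheme.{u}) h (x : Γ((P : Scheme.{u}), V)) = resX X (P.ι.image_mono h) x := rfl

/-- A function on the image, as a function on the open subscheme. -/
abbrev toP (W : (P : Scheme.{u}).Opens) (x : Γ(X, P.ι ''ᵁ W)) : Γ((P : Scheme.{u}), W) := x

variable (L : (P : Scheme.{u}).Modules) (e : ∀ a, Γ(L, P.ι ⁻¹ᵁ U a))

variable (η) in
/-- `η` is the cocycle of the bases `e`. -/
def Frames : Prop :=
  (∀ a, Gen L (P.ι ⁻¹ᵁ U a) (e a)) ∧
    ∀ a b (W : (P : Scheme.{u}).Opens) (ha : W ≤ P.ι ⁻¹ᵁ U a) (hb : W ≤ P.ι ⁻¹ᵁ U b),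
      res L ha (e a) =
        toP W (resX X (le_inf ((P.ι.image_mono ha).trans (P.ι.image_preimage_le _))
          ((P.ι.image_mono hb).trans (P.ι.image_preimage_le _))) (η a b)) • res L hb (e b)

variable {L e}

theorem Frames.gen_of_cob (hF : Frames η L e) (hc : P ≤ iSup U) {O : X.Opens} (h : Cob U η O) :
    ∃ s : Γ(L, P.ι ⁻¹ᵁ O), Gen L (P.ι ⁻¹ᵁ O) s := by
  obtain ⟨g, hu, hg⟩ := h
  let V : ι → (P : Scheme.{u}).Opens := fun a => P.ι ⁻¹ᵁ (U a ⊓ O)
  have hV : ∀ a, V a ≤ P.ι ⁻¹ᵁ O := fun a => P.ι.preimage_mono inf_le_right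
  have hVc : P.ι ⁻¹ᵁ O ≤ iSup V := fun z hz => by
    obtain ⟨a, ha⟩ := Opens.mem_iSup.1 (hc z.2)
    exact Opens.mem_iSup.2 ⟨a, ha, hz⟩
  let g' : ∀ a, Γ((P : Scheme.{u}), V a) := fun a => resX X (P.ι.image_preimage_le _) (g a)
  obtain ⟨s, hs, -⟩ := res_glue (M := L) V hV hVc
    (fun a => g' a • res L (P.ι.preimage_mono inf_le_left) (e a)) fun a b => by
      simp only [res_smul, res_res]
      rw [hF.2 a b (V a ⊓ V b) (inf_le_left.trans (P.ι.preimage_mono inf_le_left))
        (inf_le_right.trans (P.ι.preimage_mono inf_le_left)), ← mul_smul]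
      congr 1
      simp only [g', resX_open, resX_resX]
      exact (hg a b _ ((P.ι.image_mono (inf_le_left : V a ⊓ V b ≤ V a)).trans
          ((P.ι.image_preimage_le _).trans inf_le_left))
        ((P.ι.image_mono (inf_le_right : V a ⊓ V b ≤ V b)).trans
          ((P.ι.image_preimage_le _).trans inf_le_left))
        ((P.ι.image_mono (inf_le_left : V a ⊓ V b ≤ V a)).trans
          ((P.ι.image_preimage_le _).trans inf_le_right))).symm
  refine ⟨s, Gen.of_cover V hV hVc fun a => ?_⟩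
  rw [hs a]
  exact ((hF.1 a).res _).smul_unit ((hu a).map _)

theorem Frames.cob_of_gen (hF : Frames η L e) (hUP : ∀ a, U a ≤ P) {O : X.Opens}
    {s : Γ(L, P.ι ⁻¹ᵁ O)} (hs : Gen L (P.ι ⁻¹ᵁ O) s) : Cob U η O := by
  let V : ι → (P : Scheme.{u}).Opens := fun a => P.ι ⁻¹ᵁ (U a ⊓ O)
  choose g hg using fun a => ((hF.1 a).res (show V a ≤ _ from P.ι.preimage_mono inf_le_left)).exists_unit
    (hs.res (show V a ≤ _ from P.ι.preimage_mono inf_le_right))
  have him : ∀ a, U a ⊓ O ≤ P.ι ''ᵁ V a := fun a x hx => ⟨⟨x, hUP a hx.1⟩, hx, rfl⟩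
  refine ⟨fun a => resX X (him a) (g a : Γ((P : Scheme.{u}), V a)), fun a => (g a).isUnit.map _,
    fun a b W ha hb hO => ?_⟩
  have hA : V a ⊓ V b ≤ P.ι ⁻¹ᵁ U a := inf_le_left.trans (P.ι.preimage_mono inf_le_left)
  have hB : V a ⊓ V b ≤ P.ι ⁻¹ᵁ U b := inf_le_right.trans (P.ι.preimage_mono inf_le_left)
  have ea := congrArg (res L (inf_le_left : V a ⊓ V b ≤ V a)) (hg a)
  have eb := congrArg (res L (inf_le_right : V a ⊓ V b ≤ V b)) (hg b)
  simp only [res_smul, res_res] at ea eb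
  rw [ea, hF.2 a b _ hA hB, ← mul_smul] at eb
  have := (hF.1 b).smul_inj hB eb
  simp only [resX_open] at this
  have hW : W ≤ P.ι ''ᵁ (V a ⊓ V b) := fun x hx =>
    ⟨⟨x, hUP a (ha hx)⟩, ⟨⟨ha hx, hO hx⟩, hb hx, hO hx⟩, rfl⟩
  have h2 := (congrArg (resX X hW) this.symm).trans (map_mul (resX X hW) _ _)
  simp only [toP, resX_resX] at h2 ⊢
  exact h2

variable (P) in
/-- Every cocycle on an open is the cocycle of an invertible module. -/
theorem exists_frames (hc : P ≤ iSup U) (hη : IsCocycle U η) :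
    ∃ (L : (P : Scheme.{u}).Modules) (e : ∀ a, Γ(L, P.ι ⁻¹ᵁ U a)),
      Frames η L e ∧ PicF.IsInvertible L := by
  let V : ι → (P : Scheme.{u}).Opens := fun a => P.ι ⁻¹ᵁ U a
  let η' : ∀ a b, Γ((P : Scheme.{u}), V a ⊓ V b) := fun a b =>
    resX X (le_inf ((P.ι.image_mono inf_le_left).trans (P.ι.image_preimage_le _))
      ((P.ι.image_mono inf_le_right).trans (P.ι.image_preimage_le _))) (η a b)
  obtain ⟨L, s, hs, hL, hrel⟩ := exists_module_of_cocycle V η'
    (eq_top_iff.2 fun z _ => by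
      obtain ⟨a, ha⟩ := Opens.mem_iSup.1 (hc z.2)
      exact Opens.mem_iSup.2 ⟨a, ha⟩)
    (fun a b => (hη.unit a b).map _) fun a b c => by
      simp only [η', resX_open, resX_resX]
      exact hη.rel a b c _ ((P.ι.image_mono (inf_le_left.trans inf_le_left)).trans (P.ι.image_preimage_le _))
        ((P.ι.image_mono (inf_le_left.trans inf_le_right)).trans (P.ι.image_preimage_le _))
        ((P.ι.image_mono inf_le_right).trans (P.ι.image_preimage_le _))
  refine ⟨L, s, ⟨hs, fun a b W ha hb => ?_⟩, hL⟩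
  have := congrArg (res L (le_inf ha hb)) (hrel a b)
  simp only [res_smul, res_res, η', resX_open, resX_resX] at this
  exact this

/-- Bases along a cover of an open give a cocycle. -/
theorem exists_cocycle (hUP : ∀ a, U a ≤ P) (he : ∀ a, Gen L (P.ι ⁻¹ᵁ U a) (e a)) :
    ∃ η, IsCocycle U η ∧ Frames η L e := by
  choose c hc using fun a b => ((he b).exists_coeff
    (P.ι.preimage_mono (inf_le_right : U a ⊓ U b ≤ U b)) (res L (P.ι.preimage_mono inf_le_left) (e a)))
  have him : ∀ a b, U a ⊓ U b ≤ P.ι ''ᵁ P.ι ⁻¹ᵁ (U a ⊓ U b) := fun a b x hx => ⟨⟨x, hUP a hx.1⟩, hx, rfl⟩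
  let η : ∀ a b, Γ(X, U a ⊓ U b) := fun a b => resX X (him a b) (c a b)
  have hu : ∀ a b, IsUnit (η a b) := fun a b =>
    (((he b).res _).isUnit_of_smul (hc a b ▸ (he a).res (P.ι.preimage_mono inf_le_left))).map _
  have hF : Frames η L e := by
    refine ⟨he, fun a b W ha hb => ?_⟩
    have hle : W ≤ P.ι ⁻¹ᵁ (U a ⊓ U b) := le_inf ha hb
    have := (congrArg (res L hle) (hc a b)).trans (res_smul hle _ _)
    simp only [res_res, resX_open] at this
    simp only [η, resX_resX]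
    exact this
  refine ⟨η, ⟨hu, fun a b d W ha hb hd => ?_⟩, hF⟩
  have hW : W ≤ P := ha.trans (hUP a)
  let W' : (P : Scheme.{u}).Opens := P.ι ⁻¹ᵁ W
  have key : resX X (le_inf ((P.ι.image_preimage_le W).trans ha) ((P.ι.image_preimage_le W).trans hd)) (η a d) =
      resX X (le_inf ((P.ι.image_preimage_le W).trans ha) ((P.ι.image_preimage_le W).trans hb)) (η a b) *
        resX X (le_inf ((P.ι.image_preimage_le W).trans hb) ((P.ι.image_preimage_le W).trans hd)) (η b d) := by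
    refine (he d).smul_inj (P.ι.preimage_mono hd) (?_ : (_ : Γ((P : Scheme.{u}), W')) • _ = _ • _)
    rw [← hF.2 a d W' (P.ι.preimage_mono ha) (P.ι.preimage_mono hd)]
    refine (hF.2 a b W' (P.ι.preimage_mono ha) (P.ι.preimage_mono hb)).trans ?_
    rw [hF.2 b d W' (P.ι.preimage_mono hb) (P.ι.preimage_mono hd), ← mul_smul]
    rfl
  have hW' : W ≤ P.ι ''ᵁ P.ι ⁻¹ᵁ W := fun x hx => ⟨⟨x, hW hx⟩, hx, rfl⟩
  have h2 := congrArg (resX X hW') key
  simpa only [map_mul, resX_resX] using h2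

/-- On an open with trivial Picard group every cocycle is a coboundary. -/
theorem cob_of_picTrivial (hP : ParaF.PicTrivial (P : Scheme.{u})) (hUP : ∀ a, U a ≤ P)
    (hc : P ≤ iSup U) (hη : IsCocycle U η) : Cob U η ⊤ := by
  obtain ⟨L, e, hF, hL⟩ := exists_frames P hc hη
  obtain ⟨s, hs⟩ := nonempty_iso_structure_iff.1 (hP L hL)
  exact hF.cob_of_gen hUP (O := ⊤) (s := res L le_top s) (hs.res le_top)

end Open

section Pull

variable {Y : Scheme.{u}} (f : Y ⟶ X)

theorem app_resX {V W : X.Opens} (h : W ≤ V) (x : Γ(X, V)) :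
    f.app W (resX X h x) = resX Y (f.preimage_mono h) (f.app V x) :=
  congr($(f.naturality (homOfLE h).op) x)

/-- The inverse image of a cocycle. -/
theorem IsCocycle.pull (hη : IsCocycle U η) :
    IsCocycle (fun a => f ⁻¹ᵁ U a) (fun a b => f.app (U a ⊓ U b) (η a b)) := by
  refine ⟨fun a b => (hη.unit a b).map (f.app _).hom, fun a b c W ha hb hc => ?_⟩
  have hle : W ≤ f ⁻¹ᵁ (U a ⊓ U b ⊓ U c) := le_inf (le_inf ha hb) hc
  have := congrArg (resX Y hle)
    (congrArg (f.app _) (hη.rel a b c (U a ⊓ U b ⊓ U c) (inf_le_left.trans inf_le_left)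
      (inf_le_left.trans inf_le_right) inf_le_right))
  simp only [map_mul, app_resX] at this
  exact (resX_resX _ hle _).symm.trans (this.trans
    (congrArg₂ _ (resX_resX _ hle _) (resX_resX _ hle _)))

end Pull

end Groth.ParaFormal
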