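import Mathlib.RingTheory.Flat.Basic
import Mathlib.LinearAlgebra.TensorProduct.Pi
import Mathlib.LinearAlgebra.TensorProduct.RightExactness
import Mathlib.RingTheory.IsTensorProduct

/-!
# Flat base change of the kernel of a map between finite products
-/

set_option autoImplicit false
universe u

open TensorProduct

namespace Groth.ParaFormal

variable {R S : Type u} [CommRing R] [CommRing S] [Algebra R S] [Module.Flat R S]
  {ι κ : Type u} [Finite ι] [Finite κ]
  {A : ι → Type u} [∀ a, AddCommGroup (A a)] [∀ a, Module R (A a)]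
  {A' : ι → Type u} [∀ a, AddCommGroup (A' a)] [∀ a, Module R (A' a)]
  {B : κ → Type u} [∀ c, AddCommGroup (B c)] [∀ c, Module R (B c)]
  {B' : κ → Type u} [∀ c, AddCommGroup (B' c)] [∀ c, Module R (B' c)]
  (φ : ∀ a, S ⊗[R] A a →ₗ[R] A' a) (ψ : ∀ c, S ⊗[R] B c →ₗ[R] B' c)
  (d : (∀ a, A a) →ₗ[R] ∀ c, B c) (d' : (∀ a, A' a) →ₗ[R] ∀ c, B' c)

/-- The comparison on a finite product. -/
noncomputable def piCompare : S ⊗[R] (∀ a, A a) →ₗ[R] ∀ a, A' a :=
  LinearMap.pi fun a => φ a ∘ₗ (LinearMap.proj (φ := A) a).lTensor S

omit [Module.Flat R S] [Finite ι] in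
theorem piCompare_tmul (s : S) (x : ∀ a, A a) (a : ι) : piCompare φ (s ⊗ₜ x) a = φ a (s ⊗ₜ x a) := rfl

omit [Module.Flat R S] in
theorem piCompare_bijective (hφ : ∀ a, Function.Bijective (φ a)) : Function.Bijective (piCompare φ) := by
  classical
  have := Fintype.ofFinite ι
  have e : piCompare φ = (LinearEquiv.piCongrRight fun a => LinearEquiv.ofBijective (φ a) (hφ a)).toLinearMap ∘ₗ
      (TensorProduct.piRight R R S A).toLinearMap := TensorProduct.ext' fun s x => by
    funext a
    simp [piCompare_tmul]
  rw [e]
  exact ((LinearEquiv.piCongrRight fun a => LinearEquiv.ofBijective (φ a) (hφ a)).bijective).comp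
    (TensorProduct.piRight R R S A).bijective

theorem kernel_baseChange_injective (hφ : ∀ a, Function.Injective (φ a)) :
    Function.Injective (piCompare φ ∘ₗ (LinearMap.ker d).subtype.lTensor S) := by
  classical
  have := Fintype.ofFinite ι
  refine Function.Injective.comp (g := piCompare φ) ?_
    (Module.Flat.lTensor_preserves_injective_linearMap _ (Submodule.injective_subtype _))
  intro y y' h
  refine (TensorProduct.piRight R R S A).injective (funext fun a => hφ a ?_)
  have e : ∀ z, φ a (TensorProduct.piRight R R S A z a) = piCompare φ z a := fun z => by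
    induction z using TensorProduct.induction_on with
    | zero => simp
    | tmul s x => simp [piCompare_tmul]
    | add p q hp hq => simp only [map_add, Pi.add_apply, hp, hq]
  rw [e, e, h]

/-- A family killed by the differential comes from the base change of the kernel. -/
theorem kernel_baseChange_surjective (hφ : ∀ a, Function.Bijective (φ a))
    (hψ : ∀ c, Function.Injective (ψ c))
    (hd : ∀ (s : S) (x : ∀ a, A a) (c : κ), d' (piCompare φ (s ⊗ₜ x)) c = ψ c (s ⊗ₜ d x c))
    {z : ∀ a, A' a} (hz : d' z = 0) :
    ∃ w : S ⊗[R] LinearMap.ker d, piCompare φ ((LinearMap.ker d).subtype.lTensor S w) = z := by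
  classical
  have := Fintype.ofFinite κ
  obtain ⟨y, rfl⟩ := (piCompare_bijective φ hφ).2 z
  have key : ∀ y c, d' (piCompare φ y) c = ψ c (TensorProduct.piRight R R S B (d.lTensor S y) c) := fun y c => by
    induction y using TensorProduct.induction_on with
    | zero => simp
    | tmul s x => simp [hd s x c]
    | add p q hp hq => simp [hp, hq]
  have h0 : d.lTensor S y = 0 := by
    refine (TensorProduct.piRight R R S B).injective (funext fun c => hψ c ?_)
    rw [← key, hz]
    simp
  obtain ⟨w, rfl⟩ := ((Module.Flat.lTensor_exact S (LinearMap.exact_subtype_ker_map d)) y).1 h0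
  exact ⟨w, rfl⟩

omit [Module.Flat R S] in
/-- A map bijective after a flat base change is surjective up to denominators detected there. -/
theorem exists_mem_range_of_baseChange {M N : Type u} [AddCommGroup M] [Module R M] [AddCommGroup N]
    [Module R N] (φ : M →ₗ[R] N) [Module.Flat R S] (hφ : Function.Surjective (φ.lTensor S))
    (q : Ideal S) [q.IsPrime] (t : N) :
    ∃ g : R, algebraMap R S g ∉ q ∧ g • t ∈ LinearMap.range φ := by
  let T : R →ₗ[R] N ⧸ LinearMap.range φ :=
    (LinearMap.range φ).mkQ ∘ₗ LinearMap.toSpanSingleton R N t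
  by_contra! hc
  have hJ : ∀ r ∈ LinearMap.ker T, algebraMap R S r ∈ q := fun r hr => by
    by_contra hn
    exact hc r hn ((Submodule.Quotient.mk_eq_zero _).1 hr)
  have hT : T.lTensor S = 0 := by
    refine TensorProduct.ext' fun s r => ?_
    obtain ⟨w, hw⟩ := hφ (s ⊗ₜ LinearMap.toSpanSingleton R N t r)
    have h1 := congrArg ((LinearMap.range φ).mkQ.lTensor S) hw
    rw [← LinearMap.lTensor_comp_apply, LinearMap.range_mkQ_comp, LinearMap.lTensor_zero,
      LinearMap.zero_apply] at h1
    simpa [T] using h1.symm
  obtain ⟨w, hw⟩ := ((Module.Flat.lTensor_exact S (LinearMap.exact_subtype_ker_map T)) (1 ⊗ₜ 1)).1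
    (by rw [hT]; rfl)
  have hw' : ∀ w, TensorProduct.rid R S ((LinearMap.ker T).subtype.lTensor S w) ∈ q := fun w => by
    induction w using TensorProduct.induction_on with
    | zero => simp
    | tmul s r =>
      simp [Algebra.smul_def]
      exact q.mul_mem_right s (hJ r.1 r.2)
    | add p p' hp hp' => simpa using add_mem hp hp'
  have := hw' w
  rw [hw] at this
  exact Ideal.IsPrime.ne_top ‹_› ((Ideal.eq_top_iff_one _).2 (by simpa using this))

end Groth.ParaFormal
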