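/-
Pointwise descent of an ideal sheaf along a faithfully flat morphism: it suffices to check it
at points of depth at most one.
-/
import Groth.Agent.ParaFormal.StalkIdeal
import Groth.Agent.ParaFormal.DescentDivAlg
import Groth.Agent.Divisors.EffCartierDim
import Mathlib.AlgebraicGeometry.Morphisms.Flat

set_option autoImplicit false
universe u

open CategoryTheory AlgebraicGeometry TopologicalSpace Opposite IntMult IsLocalRing

namespace Groth.ParaFormal

variable {X Y : Scheme.{u}} (f : X ⟶ Y)

/-- The homomorphism of local rings attached to `f x ⤳ y`. -/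
noncomputable def psi (x : X) {y : Y} (h : f x ⤳ y) : Y.presheaf.stalk y →+* X.presheaf.stalk x :=
  (f.stalkMap x).hom.comp (Y.presheaf.stalkSpecializes h).hom

/-- `I` descends the stalks of `J` at all points over `y`. -/
def Desc (J : ∀ x : X, Ideal (X.presheaf.stalk x)) (y : Y) (I : Ideal (Y.presheaf.stalk y)) : Prop :=
  ∀ (x : X) (h : f x = y), I.map (psi f x (specializes_of_eq h)) = J x

theorem psi_spec {x : X} {y y' : Y} (h' : f x ⤳ y') (h : y' ⤳ y) (a : Y.presheaf.stalk y) :
    psi f x h' (Y.presheaf.stalkSpecializes h a) = psi f x (h'.trans h) a := by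
  simp only [psi, RingHom.comp_apply]
  exact congrArg _ (RingHom.congr_fun (spec_comp h h') a)

theorem psi_comp_spec {x : X} {y y' : Y} (h' : f x ⤳ y') (h : y' ⤳ y) :
    (psi f x h').comp (Y.presheaf.stalkSpecializes h).hom = psi f x (h'.trans h) :=
  RingHom.ext (psi_spec f h' h)

theorem spec_psi {x x' : X} (hx : x' ⤳ x) {y : Y} (h : f x ⤳ y) :
    (X.presheaf.stalkSpecializes hx).hom.comp (psi f x h) =
      psi f x' ((hx.map f.continuous).trans h) := by
  simp only [psi]
  rw [← RingHom.comp_assoc, ← CommRingCat.hom_comp, ← Scheme.Hom.stalkSpecializes_stalkMap,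
    CommRingCat.hom_comp, RingHom.comp_assoc, spec_comp]

theorem psi_self (x : X) (h : f x ⤳ f x) : psi f x h = (f.stalkMap x).hom := by
  simp [psi]

theorem isLocalHom_psi (x : X) {y : Y} (h : f x = y) : IsLocalHom (psi f x (specializes_of_eq h)) := by
  subst h; rw [psi_self]; infer_instance

theorem flat_psi [Flat f] (x : X) {y : Y} (h : f x = y) : (psi f x (specializes_of_eq h)).Flat := by
  subst h; rw [psi_self]; exact Flat.stalkMap f x

theorem comap_psi_map [Flat f] (x : X) {y : Y} (h : f x = y) (I : Ideal (Y.presheaf.stalk y)) :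
    (I.map (psi f x (specializes_of_eq h))).comap (psi f x (specializes_of_eq h)) = I :=
  have := isLocalHom_psi f x h
  DescentDivAlg.comap_map_of_flat_local _ (flat_psi f x h) I

variable {f}
variable {J : ∀ x : X, Ideal (X.presheaf.stalk x)}

theorem Desc.eq_comap [Flat f] {y : Y} {I : Ideal (Y.presheaf.stalk y)} (hI : Desc f J y I) (x : X)
    (h : f x = y) : I = (J x).comap (psi f x (specializes_of_eq h)) := by
  rw [← hI x h, comap_psi_map f x h]

theorem Desc.unique [Flat f] [Surjective f] {y : Y} {I I' : Ideal (Y.presheaf.stalk y)}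
    (hI : Desc f J y I) (hI' : Desc f J y I') : I = I' := by
  obtain ⟨x, hx⟩ := f.surjective y
  rw [hI.eq_comap x hx, hI'.eq_comap x hx]

theorem Desc.spec [Flat f] [Surjective f] {y y' : Y} {I : Ideal (Y.presheaf.stalk y)}
    {I' : Ideal (Y.presheaf.stalk y')} (hI : Desc f J y I) (hI' : Desc f J y' I') (h : y' ⤳ y)
    (hS : ∀ (x x' : X) (hx : x' ⤳ x), f x ⤳ y → (J x).map (X.presheaf.stalkSpecializes hx).hom = J x') :
    I.map (Y.presheaf.stalkSpecializes h).hom = I' := by
  obtain ⟨x, hx⟩ := f.surjective y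
  obtain ⟨x', hx', hfx'⟩ := Flat.generalizingMap f (hx.symm ▸ h : y' ⤳ f x)
  have e : (I.map (Y.presheaf.stalkSpecializes h).hom).map (psi f x' (specializes_of_eq hfx')) =
      J x' := by
    rw [Ideal.map_map, psi_comp_spec, ← hS x x' hx' (specializes_of_eq hx), ← hI x hx, Ideal.map_map, spec_psi]
  rw [hI'.eq_comap x' hfx', ← e, comap_psi_map f x' hfx']

/-- The prime of the local ring at `y` belonging to a generisation. -/
theorem specializes_of_comap_le {y y' y'' : Y} (h' : y' ⤳ y) (h'' : y'' ⤳ y)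
    (hle : (maximalIdeal _).comap (Y.presheaf.stalkSpecializes h'').hom ≤
      (maximalIdeal _).comap (Y.presheaf.stalkSpecializes h').hom) : y'' ⤳ y' := by
  obtain ⟨U, hy, -⟩ := Divisors.exists_affine_le y ⊤ trivial
  have h2 := Ideal.comap_mono (f := (Y.presheaf.germ U.1 y hy).hom) hle
  rw [Ideal.comap_comap, Ideal.comap_comap, germ_comp_spec, germ_comp_spec, comap_maximal_eq U.2,
    comap_maximal_eq U.2] at h2
  have h3 := ((PrimeSpectrum.le_iff_specializes _ _).1 h2).map U.2.fromSpec.continuous
  rwa [U.2.fromSpec_primeIdealOf, U.2.fromSpec_primeIdealOf] at h3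

theorem exists_spec_mul {y y' : Y} (h : y' ⤳ y) (K : Ideal (Y.presheaf.stalk y')) :
    (K.comap (Y.presheaf.stalkSpecializes h).hom).map (Y.presheaf.stalkSpecializes h).hom = K := by
  refine le_antisymm Ideal.map_comap_le ?_
  obtain ⟨U, hy, -⟩ := Divisors.exists_affine_le y ⊤ trivial
  have hy' := h.mem_open U.1.2 hy
  let _ := TopCat.Presheaf.algebra_section_stalk Y.presheaf ⟨y', hy'⟩
  have := U.2.isLocalization_stalk ⟨y', hy'⟩
  have hK : (K.comap (Y.presheaf.germ U.1 y' hy').hom).map (Y.presheaf.germ U.1 y' hy').hom = K :=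
    IsLocalization.map_under (U.2.primeIdealOf ⟨y', hy'⟩).asIdeal.primeCompl _ K
  conv_lhs => rw [← hK, ← germ_comp_spec h hy, ← Ideal.map_map, ← Ideal.comap_comap]
  exact Ideal.map_mono Ideal.map_comap_le

theorem dim_lt_of_specializes [IsLocallyNoetherian Y] {y y' : Y} (h : y' ⤳ y) (hne : y' ≠ y) :
    ringKrullDim (Y.presheaf.stalk y') < ringKrullDim (Y.presheaf.stalk y) := by
  obtain ⟨U, hy, -⟩ := Divisors.exists_affine_le y ⊤ trivial
  have hy' := h.mem_open U.1.2 hy
  have : IsNoetherianRing Γ(Y, U.1) := IsLocallyNoetherian.component_noetherian U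
  rw [Divisors.ringKrullDim_stalk_eq_height U.2 hy, Divisors.ringKrullDim_stalk_eq_height U.2 hy',
    WithBot.coe_lt_coe]
  refine Ideal.height_strict_mono_of_isPrime (lt_of_le_of_ne ?_ ?_)
  · refine (PrimeSpectrum.le_iff_specializes _ _).2 ?_
    have h2 : U.2.fromSpec (U.2.primeIdealOf ⟨y', hy'⟩) ⤳ U.2.fromSpec (U.2.primeIdealOf ⟨y, hy⟩) := by
      rw [U.2.fromSpec_primeIdealOf, U.2.fromSpec_primeIdealOf]; exact h
    exact U.2.fromSpec.isOpenEmbedding.isInducing.specializes_iff.1 h2
  · intro e
    apply hne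
    have e2 := congrArg U.2.fromSpec (PrimeSpectrum.ext e)
    rwa [U.2.fromSpec_primeIdealOf, U.2.fromSpec_primeIdealOf] at e2

theorem isUnit_of_spec_eq {y y' : Y} (e : y' = y) (h : y' ⤳ y) (a : Y.presheaf.stalk y)
    (ha : IsUnit (Y.presheaf.stalkSpecializes h a)) : IsUnit a := by
  subst e; simpa using ha

variable [IsLocallyNoetherian Y] [Flat f] [Surjective f]

/-- The inductive step at a point of depth at least two. -/
theorem desc_step (y : Y)
    (hJ : ∀ x : X, f x = y → ∃ h, (∀ b, h * b = 0 → b = 0) ∧ J x = Ideal.span {h})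
    (hS : ∀ (x x' : X) (hx : x' ⤳ x), f x ⤳ y → (J x).map (X.presheaf.stalkSpecializes hx).hom = J x') (hd : (2 : ℕ∞) ≤ LocCoh.depth (Y.presheaf.stalk y) (Y.presheaf.stalk y))
    (IH : ∀ y', y' ⤳ y → y' ≠ y → ∃ I, Desc f J y' I) : ∃ I, Desc f J y I := by
  choose I' hI' using IH
  -- the saturated ideal
  let P : Y.presheaf.stalk y → Prop := fun a =>
    ∀ (y' : Y) (h : y' ⤳ y) (hne : y' ≠ y), Y.presheaf.stalkSpecializes h a ∈ I' y' h hne
  have claimB : ∀ (x : X) (hx : f x = y) (a : Y.presheaf.stalk y),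
      psi f x (specializes_of_eq hx) a ∈ J x → P a := by
    intro x hx a ha y' h hne
    obtain ⟨x', hx', hfx'⟩ := Flat.generalizingMap f (hx.symm ▸ h : y' ⤳ f x)
    rw [(hI' y' h hne).eq_comap x' hfx', Ideal.mem_comap, psi_spec, ← hS x x' hx' (specializes_of_eq hx)]
    have := Ideal.mem_map_of_mem (X.presheaf.stalkSpecializes hx').hom ha
    rwa [← RingHom.comp_apply, spec_psi] at this
  have claimA : ∀ (x : X) (hx : f x = y) (a : Y.presheaf.stalk y), P a →
      psi f x (specializes_of_eq hx) a ∈ J x := by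
    intro x hx a ha
    obtain ⟨s, t, hs, ht, hst⟩ := Groth.PicAux.exists_regular_pair hd
    obtain ⟨h, hh, hJh⟩ := hJ x hx
    obtain ⟨hs', ht'⟩ := DescentDivAlg.regular_pair_map _ (flat_psi f x hx) hst
    have key : ∀ c ∈ maximalIdeal (Y.presheaf.stalk y),
        psi f x (specializes_of_eq hx) c ∈
          ((J x).colon {psi f x (specializes_of_eq hx) a}).radical := by
      intro c hc
      rw [Ideal.radical_eq_sInf, Ideal.mem_sInf]
      intro Q ⟨hQ, hQp⟩
      obtain ⟨x', hx', rfl⟩ := exists_spec_comap_eq x Q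
      rw [Ideal.mem_comap, ← RingHom.comp_apply, spec_psi]
      by_cases he : f x' = y
      · intro hu
        have := isLocalHom_psi f x' he
        exact hc (isUnit_of_map_unit (psi f x' (specializes_of_eq he)) _ hu)
      · have h' : f x' ⤳ y := (hx'.map f.continuous).trans (specializes_of_eq hx)
        have h2 := Ideal.mem_map_of_mem (psi f x' (specializes_refl (f x'))) (ha (f x') h' he)
        rw [hI' (f x') h' he x' rfl, psi_spec, ← hS x x' hx' (specializes_of_eq hx)] at h2
        rw [show psi f x' ((specializes_refl (f x')).trans h') a =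
          X.presheaf.stalkSpecializes hx' (psi f x (specializes_of_eq hx) a) from
            (RingHom.congr_fun (spec_psi f hx' (specializes_of_eq hx)) a).symm] at h2
        obtain ⟨r, hru, hr⟩ := exists_mul_mem hx' _ _ h2
        exact absurd hru (hQ (Submodule.mem_colon_singleton.2 hr))
    obtain ⟨n, hn⟩ := key s hs
    obtain ⟨m, hm⟩ := key t ht
    rw [Submodule.mem_colon_singleton, hJh] at hn hm
    rw [hJh]
    exact DescentDivAlg.mem_span_of_regular_pair hh hs' ht' hn hm
  obtain ⟨x₀, hx₀⟩ := f.surjective y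
  set I := (J x₀).comap (psi f x₀ (specializes_of_eq hx₀)) with hIdef
  have hP : ∀ a, a ∈ I ↔ P a := fun a => ⟨claimB x₀ hx₀ a, claimA x₀ hx₀ a⟩
  have claimC : ∀ (y' : Y) (h : y' ⤳ y) (hne : y' ≠ y),
      I.map (Y.presheaf.stalkSpecializes h).hom = I' y' h hne := by
    intro y' h hne
    refine le_antisymm (Ideal.map_le_iff_le_comap.2 fun a ha => (hP a).1 ha y' h hne) ?_
    conv_lhs => rw [← exists_spec_mul h (I' y' h hne)]
    refine Ideal.map_le_iff_le_comap.2 fun a ha => ?_
    set p := (maximalIdeal (Y.presheaf.stalk y')).comap (Y.presheaf.stalkSpecializes h).hom with hp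
    obtain ⟨s, hs, hsp⟩ : ∃ s, psi f x₀ (specializes_of_eq hx₀) s ∈
        (J x₀).colon {psi f x₀ (specializes_of_eq hx₀) a} ∧ s ∉ p := by
      by_contra! hle
      obtain ⟨Q, hQ, hQp, hQle⟩ := Ideal.exists_ideal_comap_le_prime
        (f := psi f x₀ (specializes_of_eq hx₀)) p
        ((J x₀).colon {psi f x₀ (specializes_of_eq hx₀) a}) (fun s hs => hle s hs)
      obtain ⟨x', hx', rfl⟩ := exists_spec_comap_eq x₀ Q
      have h' : f x' ⤳ y := (hx'.map f.continuous).trans (specializes_of_eq hx₀)
      rw [Ideal.comap_comap, spec_psi,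
        show psi f x' ((hx'.map f.continuous).trans (specializes_of_eq hx₀)) =
          (psi f x' (specializes_refl (f x'))).comp (Y.presheaf.stalkSpecializes h').hom from
            (psi_comp_spec f _ h').symm,
        ← Ideal.comap_comap, psi_self] at hQle
      have hloc : (maximalIdeal (X.presheaf.stalk x')).comap (f.stalkMap x').hom = maximalIdeal _ :=
        IsLocalRing.maximalIdeal_comap _
      rw [hloc] at hQle
      have h'' : f x' ⤳ y' := specializes_of_comap_le h h' hQle
      have hne' : f x' ≠ y := fun e => hne (h.antisymm (e ▸ h'')).eq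
      have h2 := Ideal.mem_map_of_mem (Y.presheaf.stalkSpecializes h'').hom (Ideal.mem_comap.1 ha)
      rw [(hI' y' h hne).spec (hI' (f x') h' hne') h'' fun a b c e => hS a b c (e.trans h)] at h2
      have h3 := Ideal.mem_map_of_mem (psi f x' (specializes_refl (f x'))) h2
      rw [hI' (f x') h' hne' x' rfl, ← RingHom.comp_apply (Y.presheaf.stalkSpecializes h'').hom,
        spec_comp, psi_spec, ← hS x₀ x' hx' (specializes_of_eq hx₀)] at h3
      rw [show psi f x' ((specializes_refl (f x')).trans (h''.trans h)) a =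
          X.presheaf.stalkSpecializes hx' (psi f x₀ (specializes_of_eq hx₀) a) from
            (RingHom.congr_fun (spec_psi f hx' (specializes_of_eq hx₀)) a).symm] at h3
      obtain ⟨r, hru, hr⟩ := exists_mul_mem hx' _ _ h3
      exact (hQ (Submodule.mem_colon_singleton.2 hr)) hru
    have hsI : s * a ∈ I := by
      rw [hIdef, Ideal.mem_comap, map_mul]
      exact Submodule.mem_colon_singleton.1 hs
    have hu : IsUnit (Y.presheaf.stalkSpecializes h s) := not_not.1 hsp
    have h4 := Ideal.mem_map_of_mem (Y.presheaf.stalkSpecializes h).hom hsI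
    rw [map_mul] at h4
    exact (Ideal.unit_mul_mem_iff_mem _ hu).1 h4
  refine ⟨I, fun x hx => le_antisymm
    (Ideal.map_le_iff_le_comap.2 fun a ha => claimA x hx a ((hP a).1 ha)) fun b hb => ?_⟩
  obtain ⟨s, hs, hreg⟩ := DescentDivAlg.exists_regular_mod I fun a ha => (hP a).2 fun y' h hne => by
    have h1 : ∃ c ∈ maximalIdeal (Y.presheaf.stalk y), IsUnit (Y.presheaf.stalkSpecializes h c) := by
      by_contra! hc
      exact hne ((specializes_of_comap_le (y'' := y) h (specializes_refl y) fun c hc' => by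
        simp only [Ideal.mem_comap] at hc' ⊢
        exact hc c (by simpa using hc')).antisymm h).eq.symm
    obtain ⟨c, hc, hu⟩ := h1
    have h2 := Ideal.mem_map_of_mem (Y.presheaf.stalkSpecializes h).hom (ha c hc)
    rw [claimC y' h hne, map_mul] at h2
    exact (Ideal.unit_mul_mem_iff_mem _ hu).1 h2
  set ψ := psi f x (specializes_of_eq hx) with hψ
  have hrad : ψ s ∈ ((I.map ψ).colon {b}).radical := by
    rw [Ideal.radical_eq_sInf, Ideal.mem_sInf]
    intro Q ⟨hQ, hQp⟩
    obtain ⟨x', hx', rfl⟩ := exists_spec_comap_eq x Q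
    rw [Ideal.mem_comap, ← RingHom.comp_apply, hψ, spec_psi]
    by_cases he : f x' = y
    · intro hu
      have := isLocalHom_psi f x' he
      exact hs (isUnit_of_map_unit (psi f x' (specializes_of_eq he)) _ hu)
    · have h' : f x' ⤳ y := (hx'.map f.continuous).trans (specializes_of_eq hx)
      have h2 := Ideal.mem_map_of_mem (X.presheaf.stalkSpecializes hx').hom hb
      rw [hS x x' hx' (specializes_of_eq hx), ← hI' (f x') h' he x' rfl, ← claimC _ h' he, Ideal.map_map, psi_comp_spec,
        show psi f x' ((specializes_of_eq rfl).trans h') =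
          (X.presheaf.stalkSpecializes hx').hom.comp ψ from (spec_psi f hx' _).symm,
        ← Ideal.map_map] at h2
      obtain ⟨r, hru, hr⟩ := exists_mul_mem hx' _ _ h2
      exact absurd hru (hQ (Submodule.mem_colon_singleton.2 hr))
  obtain ⟨n, hn⟩ := hrad
  have hn' : ψ (s ^ n) * b ∈ I.map ψ := by
    rw [map_pow]; exact Submodule.mem_colon_singleton.1 hn
  refine DescentDivAlg.colon_map_of_flat ψ (flat_psi f x hx) I ?_ hn'
  clear hn hn'
  induction n with
  | zero => simp
  | succ n ih => intro a ha; exact ih a (hreg _ (by rwa [← mul_assoc, ← pow_succ']))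

/-- Descent holds everywhere as soon as it holds at the points of depth at most one. -/
theorem desc_of_depth_le_one
    {J : X.IdealSheafData} (hJ : ∀ x : X, ∃ h, (∀ b, h * b = 0 → b = 0) ∧ stalkIdeal J x = Ideal.span {h})
    (h1 : ∀ y : Y, LocCoh.depth (Y.presheaf.stalk y) (Y.presheaf.stalk y) ≤ 1 → ∃ I, Desc f (stalkIdeal J) y I) :
    ∀ y : Y, ∃ I, Desc f (stalkIdeal J) y I := by
  intro y
  induction hd : ringKrullDim (Y.presheaf.stalk y) using WellFoundedLT.induction generalizing y with
  | _ d ih =>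
    by_cases hy : LocCoh.depth (Y.presheaf.stalk y) (Y.presheaf.stalk y) ≤ 1
    · exact h1 y hy
    · exact desc_step y (fun x _ => hJ x) (fun _ _ hx _ => stalkIdeal_spec J hx) (Order.add_one_le_of_lt (not_le.1 hy))
        fun y' h hne => ih _ (hd ▸ dim_lt_of_specializes h hne) y' rfl

end Groth.ParaFormal
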