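/-
Globalisation of pointwise descent of effective Cartier divisors.
-/
import Groth.Agent.ParaFormal.DescentDiv
import Groth.Agent.VarietyBC.BC
import Groth.Agent.Divisors.EffCartier
import Mathlib.AlgebraicGeometry.PullbackCarrier

set_option autoImplicit false
universe u

open CategoryTheory CategoryTheory.Limits AlgebraicGeometry TopologicalSpace Opposite IntMult IsLocalRing

namespace Groth.ParaFormal

variable {X Y : Scheme.{u}} {f : X ⟶ Y} {J : X.IdealSheafData}

theorem exists_nzd_gen (hJ : BlowUp.IsEffCartierIdeal J) (x : X) :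
    ∃ h, (∀ b, h * b = 0 → b = 0) ∧ stalkIdeal J x = Ideal.span {h} := by
  obtain ⟨W, hx, -, g, hg, hgW⟩ := Divisors.exists_generator hJ x ⊤ trivial
  refine ⟨X.presheaf.germ W.1 x hx g, fun b hb => mem_nonZeroDivisors_iff_right.1 (hg x hx) b
    (by rwa [mul_comm]), ?_⟩
  rw [stalkIdeal_eq J W hx, hgW, Ideal.map_span, Set.image_singleton]

/-- A descent at a point comes from the pullback to the local scheme. -/
theorem desc_of_comap_eq [Flat f] {W : Scheme.{u}} (g : W ⟶ Y) [Flat g] [IsPreimmersion g]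
    (I₁ : W.IdealSheafData) (h : I₁.comap (pullback.snd f g) = J.comap (pullback.fst f g))
    (w : W) : ∃ I, Desc f (stalkIdeal J) (g w) I := by
  refine ⟨(stalkIdeal I₁ w).comap (g.stalkMap w).hom, fun x hx => ?_⟩
  obtain ⟨z, hz1, hz2⟩ := Scheme.Pullback.exists_preimage_pullback (f := f) (g := g) x w hx
  subst hz2
  subst hz1
  have hflat : Flat (pullback.fst f g) := inferInstance
  have h2 := congrArg (fun K => stalkIdeal K z) h
  simp only [stalkIdeal_comap] at h2
  have hsq : ((pullback.fst f g).stalkMap z).hom.comp (psi f _ (specializes_of_eq hx)) =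
      ((pullback.snd f g).stalkMap z).hom.comp (g.stalkMap (pullback.snd f g z)).hom := by
    have e1 := Scheme.Hom.stalkMap_congr_hom _ _ (pullback.condition (f := f) (g := g)) z
    simp only [Scheme.Hom.stalkMap_comp] at e1
    simp only [psi, ← CommRingCat.hom_comp]
    rw [Category.assoc]
    congr 1
    rw [e1]
    erw [← Category.assoc, TopCat.Presheaf.stalkSpecializes_comp, TopCat.Presheaf.stalkSpecializes_refl, Category.id_comp]
    exact specializes_of_eq hx.symm
  have := DescentDivAlg.comap_map_of_flat_local ((pullback.fst f g).stalkMap z).hom (Flat.stalkMap _ z)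
  rw [← this (stalkIdeal J _), ← h2,
    ← this (Ideal.map (psi f _ (specializes_of_eq hx)) _)]
  congr 1
  rw [Ideal.map_map, hsq, ← Ideal.map_map,
    Ideal.map_comap_of_surjective _ (g.stalkMap_surjective _)]

theorem exists_generator_of_desc [Flat f] [Surjective f] {S : ∀ x : X, Ideal (X.presheaf.stalk x)}
    {y : Y} (hJ : ∀ x : X, f x = y → ∃ h, (∀ b, h * b = 0 → b = 0) ∧ S x = Ideal.span {h})
    {I : Ideal (Y.presheaf.stalk y)} (hI : Desc f S y I) :
    ∃ a, a ∈ nonZeroDivisors (Y.presheaf.stalk y) ∧ I = Ideal.span {a} := by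
  obtain ⟨x, hx⟩ := f.surjective y
  set ψ := psi f x (specializes_of_eq hx) with hψ
  obtain ⟨h, hh, hJh⟩ := hJ x hx
  have hmap : I.map ψ = Ideal.span {h} := (hI x hx).trans hJh
  obtain ⟨a, ha, c, hc, hac⟩ : ∃ a ∈ I, ∃ c, IsUnit c ∧ ψ a = c * h := by
    by_contra! hne
    have hle : I.map ψ ≤ maximalIdeal _ * Ideal.span {h} := by
      refine Ideal.map_le_iff_le_comap.2 fun a ha => ?_
      obtain ⟨c, hc⟩ := Ideal.mem_span_singleton'.1 (hmap ▸ Ideal.mem_map_of_mem ψ ha)
      rw [Ideal.mem_comap, ← hc]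
      exact Ideal.mul_mem_mul (fun hu => hne a ha c hu hc.symm) (Ideal.mem_span_singleton_self h)
    rw [hmap, Ideal.span_singleton_le_iff_mem, Ideal.mem_mul_span_singleton] at hle
    obtain ⟨z, hz, hzh⟩ := hle
    have h1 : z - 1 = 0 := hh _ (by linear_combination hzh)
    exact (maximalIdeal.isMaximal _).ne_top
      ((Ideal.eq_top_iff_one _).2 (sub_eq_zero.1 h1 ▸ hz))
  refine ⟨a, mem_nonZeroDivisors_iff_right.2 fun b hb => ?_, ?_⟩
  · have h1 : ψ b * c * h = 0 := by rw [mul_assoc, ← hac, ← map_mul, hb, map_zero]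
    have h2 : ψ b = 0 := hc.mul_left_eq_zero.1 (hh _ (by rw [mul_comm]; exact h1))
    have hker := comap_psi_map f x hx (⊥ : Ideal (Y.presheaf.stalk y))
    rw [Ideal.map_bot, ← hψ] at hker
    have h3 : b ∈ (⊥ : Ideal (X.presheaf.stalk x)).comap ψ := Ideal.mem_comap.2 h2
    rw [hker] at h3
    exact h3
  · have e : (Ideal.span {a}).map ψ = I.map ψ := by
      rw [hmap, Ideal.map_span, Set.image_singleton, hac, Ideal.span_singleton_mul_left_unit hc]
    rw [← comap_psi_map f x hx I, ← hψ, ← e, hψ, comap_psi_map f x hx]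

theorem germ_appLE {V : Y.Opens} {V' : X.Opens} (h : V' ≤ f ⁻¹ᵁ V) (i : Γ(Y, V)) {x : X}
    (hx : x ∈ V') :
    X.presheaf.germ V' x hx (f.appLE V V' h i) = f.stalkMap x (Y.presheaf.germ V (f x) (h hx) i) := by
  rw [Scheme.Hom.appLE, CommRingCat.comp_apply, TopCat.Presheaf.germ_res_apply]
  exact (Scheme.Hom.germ_stalkMap_apply f V x (h hx) i).symm

/-- Near every point the descended stalks have a common generator. -/
theorem exists_section_gen [Flat f] [Surjective f]
    (hf : QuasiCompact f ∨ IsOpenMap f) (hJ : BlowUp.IsEffCartierIdeal J)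
    (I : ∀ y : Y, Ideal (Y.presheaf.stalk y)) (hI : ∀ y, Desc f (stalkIdeal J) y (I y)) (y : Y) (O : Y.Opens)
    (hy : y ∈ O) :
    ∃ V : Y.affineOpens, y ∈ V.1 ∧ V.1 ≤ O ∧ ∃ i : Γ(Y, V.1), Divisors.IsNzdSec i ∧
      ∀ (q : Y) (hq : q ∈ V.1), I q = Ideal.span {Y.presheaf.germ V.1 q hq i} := by
  obtain ⟨a, -, hIa⟩ := exists_generator_of_desc (fun x _ => exists_nzd_gen hJ x) (hI y)
  obtain ⟨V, hyV, i, rfl⟩ := TopCat.Presheaf.exists_germ_eq Y.presheaf a
  let T : Set Y := {q | ∃ hq : q ∈ V, I q = Ideal.span {Y.presheaf.germ V q hq i}}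
  have hT : IsOpen (f ⁻¹' T) := by
    rw [isOpen_iff_mem_nhds]
    rintro x ⟨hx, hIx⟩
    obtain ⟨V', hxV', hle, g, -, hgJ⟩ := Divisors.exists_generator hJ x (f ⁻¹ᵁ V) hx
    set i' := f.appLE V V'.1 hle i
    have hJx : ∀ (z : X) (hz : z ∈ V'.1),
        stalkIdeal J z = Ideal.span {X.presheaf.germ V'.1 z hz g} := fun z hz => by
      rw [stalkIdeal_eq J V' hz, hgJ, Ideal.map_span, Set.image_singleton]
    have e : Ideal.span {X.presheaf.germ V'.1 x hxV' i'} = Ideal.span {X.presheaf.germ V'.1 x hxV' g} := by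
      rw [← hJx, ← hI (f x) x rfl, hIx, psi_self, Ideal.map_span, Set.image_singleton, germ_appLE]
    obtain ⟨c, hc⟩ := Ideal.mem_span_singleton'.1 (e ▸ Ideal.mem_span_singleton_self (X.presheaf.germ V'.1 x hxV' i'))
    obtain ⟨d, hd⟩ := Ideal.mem_span_singleton'.1 (e.symm ▸ Ideal.mem_span_singleton_self (X.presheaf.germ V'.1 x hxV' g))
    obtain ⟨C, hxC, c, rfl⟩ := TopCat.Presheaf.exists_germ_eq X.presheaf c
    obtain ⟨D, hxD, d, rfl⟩ := TopCat.Presheaf.exists_germ_eq X.presheaf d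
    let N : X.Opens := C ⊓ D ⊓ V'.1
    have hCN : N ≤ C := inf_le_left.trans inf_le_left
    have hDN : N ≤ D := inf_le_left.trans inf_le_right
    have hVN : N ≤ V'.1 := inf_le_right
    have hxN : x ∈ N := ⟨⟨hxC, hxD⟩, hxV'⟩
    obtain ⟨N1, hxN1, j1, k1, he1⟩ := X.presheaf.germ_eq x hxN hxN
      (X.presheaf.map (homOfLE hCN).op c * X.presheaf.map (homOfLE hVN).op g)
      (X.presheaf.map (homOfLE hVN).op i') (by
        rw [map_mul, TopCat.Presheaf.germ_res_apply, TopCat.Presheaf.germ_res_apply,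
          TopCat.Presheaf.germ_res_apply]; exact hc)
    obtain ⟨N2, hxN2, j2, k2, he2⟩ := X.presheaf.germ_eq x hxN hxN
      (X.presheaf.map (homOfLE hDN).op d * X.presheaf.map (homOfLE hVN).op i')
      (X.presheaf.map (homOfLE hVN).op g) (by
        rw [map_mul, TopCat.Presheaf.germ_res_apply, TopCat.Presheaf.germ_res_apply,
          TopCat.Presheaf.germ_res_apply]; exact hd)
    refine Filter.mem_of_superset ((N1 ⊓ N2).2.mem_nhds ⟨hxN1, hxN2⟩) fun z hz => ?_
    have hzN : z ∈ N := j1.le hz.1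
    have h1 := congrArg (X.presheaf.germ N1 z hz.1) he1
    have h2 := congrArg (X.presheaf.germ N2 z hz.2) he2
    simp only [TopCat.Presheaf.germ_res_apply, map_mul] at h1 h2
    refine ⟨hle (hVN hzN), ?_⟩
    have e2 : (Ideal.span {Y.presheaf.germ V (f z) (hle (hVN hzN)) i}).map
        (psi f z (specializes_of_eq rfl)) = stalkIdeal J z := by
      rw [psi_self, Ideal.map_span, Set.image_singleton, hJx z (hVN hzN), ← germ_appLE hle i (hVN hzN)]
      refine le_antisymm ?_ ?_ <;> rw [Ideal.span_singleton_le_iff_mem, Ideal.mem_span_singleton']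
      · exact ⟨_, h1⟩
      · exact ⟨_, h2⟩
    rw [(hI (f z)).eq_comap z rfl, ← e2, comap_psi_map f z rfl]
  have hTo : IsOpen T := by
    rcases hf with hf | hf
    · exact (Flat.isQuotientMap_of_surjective f).isOpen_preimage.1 hT
    · rw [← Set.image_preimage_eq T f.surjective]; exact hf _ hT
  obtain ⟨W, hyW, hW⟩ := Divisors.exists_affine_le y (⟨T, hTo⟩ ⊓ O) ⟨⟨hyV, hIa⟩, hy⟩
  have hWV : W.1 ≤ V := fun q hq => (hW hq).1.1
  refine ⟨W, hyW, hW.trans inf_le_right, Y.presheaf.map (homOfLE hWV).op i, fun q hq => ?_, fun q hq => ?_⟩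
  · obtain ⟨b, hb, hIb⟩ := exists_generator_of_desc (fun x _ => exists_nzd_gen hJ x) (hI q)
    rw [TopCat.Presheaf.germ_res_apply]
    obtain ⟨hqV, hq'⟩ := (hW hq).1
    obtain ⟨c, hc⟩ := Ideal.mem_span_singleton'.1
      ((hIb.symm.trans hq') ▸ Ideal.mem_span_singleton_self b)
    rw [← hc] at hb
    exact (mul_mem_nonZeroDivisors.1 hb).2
  · rw [TopCat.Presheaf.germ_res_apply]; exact (hW hq).1.2

/-- Pointwise descent glues to an effective Cartier divisor. -/
theorem exists_of_desc [Flat f] [Surjective f]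
    (hf : QuasiCompact f ∨ IsOpenMap f) (hJ : BlowUp.IsEffCartierIdeal J)
    (h : ∀ y : Y, ∃ I, Desc f (stalkIdeal J) y I) :
    ∃ 𝓘 : Y.IdealSheafData, BlowUp.IsEffCartierIdeal 𝓘 ∧ 𝓘.comap f = J := by
  choose I hI using h
  have hgen := exists_section_gen hf hJ I hI
  let K : ∀ U : Y.affineOpens, Ideal Γ(Y, U.1) := fun U =>
    ⨅ (q : Y) (hq : q ∈ U.1), (I q).comap (Y.presheaf.germ U.1 q hq).hom
  have hK : ∀ {U : Y.affineOpens} {b : Γ(Y, U.1)},
      b ∈ K U ↔ ∀ (q : Y) (hq : q ∈ U.1), Y.presheaf.germ U.1 q hq b ∈ I q := fun {U b} => by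
    simp only [K, Ideal.mem_iInf, Ideal.mem_comap]
  have hpow : ∀ (U : Y.affineOpens) (g b : Γ(Y, U.1)),
      (∀ (q : Y) (hq : q ∈ Y.basicOpen g),
        Y.presheaf.germ U.1 q (Y.basicOpen_le g hq) b ∈ I q) → ∃ n : ℕ, g ^ n * b ∈ K U := by
    intro U g b hb
    have hloc : ∀ q : U.1, ∃ (V : Y.Opens) (_ : q.1 ∈ V) (n : ℕ), V ≤ U.1 ∧
        ∀ (z : Y) (_ : z ∈ V) (hzU : z ∈ U.1), Y.presheaf.germ U.1 z hzU (g ^ n * b) ∈ I z := by
      intro q
      obtain ⟨V, hqV, hVU, i, -, hi⟩ := hgen q.1 U.1 q.2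
      set g' := Y.presheaf.map (homOfLE hVU).op g
      set b' := Y.presheaf.map (homOfLE hVU).op b
      have := V.2.isLocalization_basicOpen g'
      have hmem : algebraMap Γ(Y, V.1) Γ(Y, Y.basicOpen g') b' ∈
          (Ideal.span {i}).map (algebraMap Γ(Y, V.1) Γ(Y, Y.basicOpen g')) := by
        refine mem_ideal_of_stalk (Y.affineBasicOpen g') _ _ fun z hz => ?_
        erw [Ideal.map_map, Ideal.map_span, Set.image_singleton]
        change Y.presheaf.germ (Y.basicOpen g') z hz (Y.presheaf.map (homOfLE (Y.basicOpen_le g')).op b') ∈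
          Ideal.span {Y.presheaf.germ (Y.basicOpen g') z hz (Y.presheaf.map (homOfLE (Y.basicOpen_le g')).op i)}
        rw [TopCat.Presheaf.germ_res_apply, TopCat.Presheaf.germ_res_apply, TopCat.Presheaf.germ_res_apply, ← hi]
        refine hb z ?_
        have hz' : z ∈ Y.basicOpen g' := hz
        rw [Scheme.basicOpen_res] at hz'
        exact hz'.2
      obtain ⟨_, ⟨n, rfl⟩, hn⟩ := (IsLocalization.algebraMap_mem_map_algebraMap_iff
        (Submonoid.powers g') _ (Ideal.span {i}) b').1 hmem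
      refine ⟨V.1, hqV, n, hVU, fun z hz hzU => ?_⟩
      rw [hi z hz]
      obtain ⟨c, hc⟩ := Ideal.mem_span_singleton'.1 hn
      have hc' := congrArg (Y.presheaf.germ V.1 z hz) hc
      simp only [g', b', map_mul, map_pow, TopCat.Presheaf.germ_res_apply] at hc'
      rw [map_mul, map_pow, ← hc']
      exact Ideal.mul_mem_left _ _ (Ideal.mem_span_singleton_self _)
    choose V hqV n hVU hn using hloc
    obtain ⟨t, ht⟩ := U.2.isCompact.elim_finite_subcover (fun q : U.1 => (V q : Set Y))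
      (fun q => (V q).2) fun z hz => Set.mem_iUnion.2 ⟨⟨z, hz⟩, hqV ⟨z, hz⟩⟩
    refine ⟨t.sup n, hK.2 fun z hz => ?_⟩
    obtain ⟨q, hq⟩ := Set.mem_iUnion.1 (ht hz)
    obtain ⟨hqt, hzq⟩ := Set.mem_iUnion.1 hq
    rw [← Nat.sub_add_cancel (Finset.le_sup (f := n) hqt), pow_add, mul_assoc, map_mul]
    exact Ideal.mul_mem_left _ _ (hn q z hzq hz)
  have hmap : ∀ (U : Y.affineOpens) (g : Γ(Y, U.1)),
      (K U).map (Y.presheaf.map (homOfLE (Y.basicOpen_le g)).op).hom = K (Y.affineBasicOpen g) := by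
    intro U g
    refine le_antisymm (Ideal.map_le_iff_le_comap.2 fun b hb => hK.2 fun q hq => ?_) fun c hc => ?_
    · change Y.presheaf.germ (Y.basicOpen g) q hq (Y.presheaf.map (homOfLE (Y.basicOpen_le g)).op b) ∈ I q
      rw [TopCat.Presheaf.germ_res_apply]
      exact hK.1 hb q _
    · have := U.2.isLocalization_basicOpen g
      obtain ⟨b, ⟨_, m, rfl⟩, rfl⟩ := IsLocalization.exists_mk'_eq (Submonoid.powers g) c
      have hspec := IsLocalization.mk'_spec Γ(Y, Y.basicOpen g) b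
        (⟨g ^ m, m, rfl⟩ : Submonoid.powers g)
      obtain ⟨n, hn⟩ := hpow U g b fun q hq => by
        have h1 := congrArg (Y.presheaf.germ (Y.basicOpen g) q hq) hspec
        rw [map_mul] at h1
        change _ * _ = Y.presheaf.germ (Y.basicOpen g) q hq (Y.presheaf.map (homOfLE (Y.basicOpen_le g)).op b) at h1
        rw [TopCat.Presheaf.germ_res_apply] at h1
        rw [← h1]
        exact Ideal.mul_mem_right _ _ (hK.1 hc q hq)
      exact (IsLocalization.mk'_mem_map_algebraMap_iff (Submonoid.powers g) Γ(Y, Y.basicOpen g) _ b _).2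
        ⟨g ^ n, ⟨n, rfl⟩, hn⟩
  let 𝓘 : Y.IdealSheafData := { ideal := K, map_ideal_basicOpen := hmap }
  have hid : ∀ U, 𝓘.ideal U = K U := fun U => rfl
  have hstalk : ∀ q, stalkIdeal 𝓘 q = I q := by
    intro q
    obtain ⟨V, hqV, -, i, -, hi⟩ := hgen q ⊤ trivial
    rw [stalkIdeal_eq 𝓘 V hqV, hi q hqV, hid]
    refine le_antisymm (Ideal.map_le_iff_le_comap.2 fun b hb => ?_)
      ((Ideal.span_singleton_le_iff_mem _).2 (Ideal.mem_map_of_mem _ (hK.2 fun z hz => ?_)))
    · rw [Ideal.mem_comap, ← hi q hqV]; exact hK.1 hb q hqV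
    · rw [hi z hz]; exact Ideal.mem_span_singleton_self _
  refine ⟨𝓘, Divisors.isEffCartierIdeal_of_local fun y => ?_, idealSheaf_ext fun x => ?_⟩
  · obtain ⟨V, hyV, -, i, hi, hgi⟩ := hgen y ⊤ trivial
    refine ⟨V, hyV, i, hi, ?_⟩
    ext b
    rw [ideal_eq_comap_stalk]
    refine ⟨fun hb => mem_ideal_of_stalk V _ b fun z hz => ?_, fun hb z hz => ?_⟩
    · rw [Ideal.map_span, Set.image_singleton, ← hgi z hz, ← hstalk]; exact hb z hz
    · obtain ⟨c, rfl⟩ := Ideal.mem_span_singleton'.1 hb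
      rw [hstalk, map_mul, hgi z hz]
      exact Ideal.mul_mem_left _ _ (Ideal.mem_span_singleton_self _)
  · rw [stalkIdeal_comap, hstalk, ← hI (f x) x rfl, psi_self]

end Groth.ParaFormal
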