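/-
Principal ideals generated by germs of sections.
-/
import Groth.Agent.ParaFormal.StalkIdeal
import Groth.Agent.PicAux.Cocycle

set_option autoImplicit false
universe u

open CategoryTheory AlgebraicGeometry TopologicalSpace Opposite
open Groth.PicAux

namespace Groth.ParaFormal

variable {X : Scheme.{u}}

theorem germ_resX' {U V : X.Opens} (h : V ≤ U) (x : X) (hx : x ∈ V) (r : Γ(X, U)) :
    X.presheaf.germ V x hx (resX X h r) = X.presheaf.germ U x (h hx) r :=
  TopCat.Presheaf.germ_res_apply _ _ _ _ _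

/-- A divisibility between germs spreads to a neighbourhood. -/
theorem exists_nhds_mul_eq {W : X.Opens} (a b : Γ(X, W)) (x : X) (hx : x ∈ W)
    (h : X.presheaf.germ W x hx a ∈ Ideal.span {X.presheaf.germ W x hx b}) :
    ∃ (N : X.Opens) (hN : N ≤ W) (c : Γ(X, N)), x ∈ N ∧ c * resX X hN b = resX X hN a := by
  obtain ⟨c, hc⟩ := Ideal.mem_span_singleton'.1 h
  obtain ⟨C, hxC, c, rfl⟩ := TopCat.Presheaf.exists_germ_eq X.presheaf c
  obtain ⟨N, hxN, j, k, he⟩ := X.presheaf.germ_eq x (U := C ⊓ W) (V := C ⊓ W) ⟨hxC, hx⟩ ⟨hxC, hx⟩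
    (resX X inf_le_left c * resX X inf_le_right b) (resX X inf_le_right a) (by
      rw [map_mul, germ_resX', germ_resX', germ_resX']; exact hc)
  refine ⟨N, j.le.trans inf_le_right, resX X (j.le.trans inf_le_left) c, hxN, ?_⟩
  rw [map_mul] at he
  change resX X j.le _ * resX X j.le _ = resX X k.le _ at he
  simp only [resX_resX] at he ⊢
  exact he

theorem isOpen_span_eq {W : X.Opens} (a b : Γ(X, W)) :
    IsOpen {x : X | ∃ hx : x ∈ W,
      Ideal.span {X.presheaf.germ W x hx a} = Ideal.span {X.presheaf.germ W x hx b}} := by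
  rw [isOpen_iff_mem_nhds]
  rintro x ⟨hx, e⟩
  obtain ⟨N, hN, c, hxN, hc⟩ := exists_nhds_mul_eq a b x hx (e ▸ Ideal.mem_span_singleton_self _)
  obtain ⟨N', hN', d, hxN', hd⟩ := exists_nhds_mul_eq b a x hx (e.symm ▸ Ideal.mem_span_singleton_self _)
  refine Filter.mem_of_superset ((N ⊓ N').2.mem_nhds ⟨hxN, hxN'⟩) fun z hz => ⟨hN hz.1, ?_⟩
  have h1 := congrArg (X.presheaf.germ N z hz.1) hc
  have h2 := congrArg (X.presheaf.germ N' z hz.2) hd
  simp only [map_mul, germ_resX'] at h1 h2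
  refine le_antisymm ?_ ?_ <;> rw [Ideal.span_singleton_le_iff_mem, Ideal.mem_span_singleton']
  · exact ⟨_, h1⟩
  · exact ⟨_, h2⟩

theorem eq_of_mul_nzd {R : Type*} [CommRing R] {b c c' : R} (hb : b ∈ nonZeroDivisors R)
    (h : c * b = c' * b) : c = c' :=
  sub_eq_zero.1 (mem_nonZeroDivisors_iff_right.1 hb _ (by rw [sub_mul, h, sub_self]))

/-- Pointwise divisibility by a section with regular germs is global. -/
theorem exists_mul_eq_of_germ {W : X.Opens} (a b : Γ(X, W)) (hb : Divisors.IsNzdSec b)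
    (h : ∀ (x : X) (hx : x ∈ W), X.presheaf.germ W x hx a ∈ Ideal.span {X.presheaf.germ W x hx b}) :
    ∃ c, c * b = a := by
  choose N hN c hxN hc using fun x : W => exists_nhds_mul_eq a b x.1 x.2 (h x.1 x.2)
  have hcov : W ≤ iSup N := fun x hx => Opens.mem_iSup.2 ⟨⟨x, hx⟩, hxN ⟨x, hx⟩⟩
  have hagree : ∀ i j, resX X (inf_le_left : N i ⊓ N j ≤ N i) (c i) =
      resX X (inf_le_right : N i ⊓ N j ≤ N j) (c j) := by
    refine fun i j => Divisors.section_ext fun z hz => eq_of_mul_nzd (hb z (hN i hz.1)) ?_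
    have h1 := congrArg (X.presheaf.germ (N i) z hz.1) (hc i)
    have h2 := congrArg (X.presheaf.germ (N j) z hz.2) (hc j)
    simp only [map_mul, germ_resX'] at h1 h2 ⊢
    exact h1.trans h2.symm
  obtain ⟨y, hy, -⟩ := resX_glue N hN hcov c hagree
  refine ⟨y, resX_ext N hN hcov fun i => ?_⟩
  rw [map_mul, hy, hc]

theorem exists_unit_mul_eq {W : X.Opens} (a b : Γ(X, W)) (hb : Divisors.IsNzdSec b)
    (h : ∀ (x : X) (hx : x ∈ W),
      Ideal.span {X.presheaf.germ W x hx a} = Ideal.span {X.presheaf.germ W x hx b}) :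
    ∃ c, IsUnit c ∧ c * b = a := by
  have ha : Divisors.IsNzdSec a := fun x hx => by
    obtain ⟨c, hc⟩ := Ideal.mem_span_singleton'.1 ((h x hx).symm ▸ Ideal.mem_span_singleton_self (X.presheaf.germ W x hx b))
    exact (mul_mem_nonZeroDivisors.1 (hc ▸ hb x hx)).2
  obtain ⟨c, hc⟩ := exists_mul_eq_of_germ a b hb fun x hx => h x hx ▸ Ideal.mem_span_singleton_self _
  obtain ⟨d, hd⟩ := exists_mul_eq_of_germ b a ha fun x hx => (h x hx).symm ▸ Ideal.mem_span_singleton_self _
  refine ⟨c, IsUnit.of_mul_eq_one (b := d) ?_, hc⟩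
  exact eq_of_mul_nzd hb.mem_nonZeroDivisors (by rw [one_mul, mul_comm c, mul_assoc, hc, hd])

end Groth.ParaFormal
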