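/-
Descent of Cartier divisors which are trivial on the generic fibres, given by local fractions
`p / d` with `p` regular upstairs and `d` regular downstairs.
-/
import Groth.Agent.ParaFormal.DivSpread
import Groth.Agent.ParaFormal.DescentDivGlobal
import Groth.Agent.RefRank.BigOpen
import Groth.Agent.S3839
import Groth.Agent.S9501

set_option autoImplicit false
universe u

open CategoryTheory AlgebraicGeometry TopologicalSpace Opposite IsLocalRing
open Groth.PicAux

namespace Groth.ParaFormal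

variable {X Y : Scheme.{u}} (f : X ⟶ Y)

/-- A divisor given on charts by fractions, trivial on the generic fibres. -/
structure FracDiv (ι : Type u) where
  U : ι → X.Opens
  V : ι → Y.Opens
  cover : ∀ x : X, ∃ a, x ∈ U a
  le : ∀ a, U a ≤ f ⁻¹ᵁ V a
  p : ∀ a, Γ(X, U a)
  d : ∀ a, Γ(Y, V a)
  p_nzd : ∀ a, Divisors.IsNzdSec (p a)
  d_nzd : ∀ a, Divisors.IsNzdSec (d a)
  compat : ∀ (a b : ι) (x : X) (ha : x ∈ U a) (hb : x ∈ U b),
    Ideal.span {X.presheaf.germ (U a) x ha (p a)} *
        Ideal.span {f.stalkMap x (Y.presheaf.germ (V b) (f x) (le b hb) (d b))} =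
      Ideal.span {X.presheaf.germ (U b) x hb (p b)} *
        Ideal.span {f.stalkMap x (Y.presheaf.germ (V a) (f x) (le a ha) (d a))}
  gen : ∀ (a : ι) (x : X) (ha : x ∈ U a), (∀ z, z ⤳ f x → z = f x) →
    IsUnit (X.presheaf.germ (U a) x ha (p a))

variable {f} {ι : Type u} (D : FracDiv f ι)

namespace FracDiv

/-- Germ of the numerator, as an ideal. -/
noncomputable def P (a : ι) (x : X) (ha : x ∈ D.U a) : Ideal (X.presheaf.stalk x) :=
  Ideal.span {X.presheaf.germ (D.U a) x ha (D.p a)}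

/-- Germ of the denominator, as an ideal. -/
noncomputable def Q (a : ι) (x : X) (ha : x ∈ D.U a) : Ideal (X.presheaf.stalk x) :=
  Ideal.span {f.stalkMap x (Y.presheaf.germ (D.V a) (f x) (D.le a ha) (D.d a))}

/-- The image in the local ring at `x` of an element of the local ring at `y`, as an ideal. -/
noncomputable def sp (x : X) {y : Y} (h : f x ⤳ y) (q : Y.presheaf.stalk y) :
    Ideal (X.presheaf.stalk x) :=
  Ideal.span {psi f x h q}

theorem sp_mul (x : X) {y : Y} (h : f x ⤳ y) (q q' : Y.presheaf.stalk y) :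
    sp x h (q * q') = sp x h q * sp x h q' := by
  simp only [sp, map_mul, Ideal.span_singleton_mul_span_singleton]

theorem sp_map {x x' : X} (hx : x' ⤳ x) {y : Y} (h : f x ⤳ y) (q : Y.presheaf.stalk y) :
    (sp x h q).map (X.presheaf.stalkSpecializes hx).hom = sp x' ((hx.map f.continuous).trans h) q := by
  simp only [sp, Ideal.map_span, Set.image_singleton, ← spec_psi f hx h]
  rfl

theorem sp_spec (x : X) {y y' : Y} (h' : f x ⤳ y') (h : y' ⤳ y) (q : Y.presheaf.stalk y) :
    sp x h' (Y.presheaf.stalkSpecializes h q) = sp x (h'.trans h) q := by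
  rw [sp, psi_spec]; rfl

theorem P_map {x x' : X} (hx : x' ⤳ x) (a : ι) (ha : x ∈ D.U a) :
    (D.P a x ha).map (X.presheaf.stalkSpecializes hx).hom = D.P a x' (hx.mem_open (D.U a).2 ha) := by
  rw [P, P, Ideal.map_span, Set.image_singleton, TopCat.Presheaf.germ_stalkSpecializes_apply]

theorem Q_eq (a : ι) (x : X) (ha : x ∈ D.U a) {y : Y} (h : f x ⤳ y) (hy : y ∈ D.V a) :
    D.Q a x ha = sp x h (Y.presheaf.germ (D.V a) y hy (D.d a)) := by
  rw [Q, sp, psi, RingHom.comp_apply]
  congr 3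
  exact (TopCat.Presheaf.germ_stalkSpecializes_apply _ _ _ _).symm

theorem Q_map {x x' : X} (hx : x' ⤳ x) (a : ι) (ha : x ∈ D.U a) :
    (D.Q a x ha).map (X.presheaf.stalkSpecializes hx).hom = D.Q a x' (hx.mem_open (D.U a).2 ha) := by
  rw [D.Q_eq a x ha (specializes_refl _) (D.le a ha), sp_map, ← D.Q_eq]

theorem cancel {R : Type u} [CommRing R] {c : R} (hc : c ∈ nonZeroDivisors R) {I J : Ideal R}
    (h : I * Ideal.span {c} = J * Ideal.span {c}) : I = J := by
  ext z
  have : ∀ {K : Ideal R}, z * c ∈ K * Ideal.span {c} ↔ z ∈ K := fun {K} => by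
    rw [Ideal.mem_mul_span_singleton]
    exact ⟨fun ⟨w, hw, e⟩ => eq_of_mul_nzd hc e ▸ hw, fun hz => ⟨z, hz, rfl⟩⟩
  rw [← this (K := I), h, this]

theorem cancel_Q [Flat f] {a : ι} {x : X} {ha : x ∈ D.U a} {I J : Ideal (X.presheaf.stalk x)}
    (h : I * D.Q a x ha = J * D.Q a x ha) : I = J :=
  cancel (Divisors.mem_nonZeroDivisors_of_flat _ (Flat.stalkMap f x) (D.d_nzd a _ _)) h

theorem cancel_P {a : ι} {x : X} {ha : x ∈ D.U a} {I J : Ideal (X.presheaf.stalk x)}
    (h : I * D.P a x ha = J * D.P a x ha) : I = J :=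
  cancel (D.p_nzd a x ha) h

theorem cancel_sp [Flat f] {x : X} {y : Y} (hx : f x = y) {e : Y.presheaf.stalk y}
    (he : e ∈ nonZeroDivisors (Y.presheaf.stalk y)) {I J : Ideal (X.presheaf.stalk x)}
    (h : I * sp x (specializes_of_eq hx) e = J * sp x (specializes_of_eq hx) e) : I = J :=
  cancel (Divisors.mem_nonZeroDivisors_of_flat _ (flat_psi f x hx) he) h

theorem PQ (a b : ι) (x : X) (ha : x ∈ D.U a) (hb : x ∈ D.U b) :
    D.P a x ha * D.Q b x hb = D.P b x hb * D.Q a x ha := D.compat a b x ha hb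

/-- `q / e` is an equation of the divisor at `x`. -/
def Rel (x : X) {y : Y} (h : f x ⤳ y) (q e : Y.presheaf.stalk y) : Prop :=
  ∀ (a : ι) (ha : x ∈ D.U a), sp x h q * D.Q a x ha = sp x h e * D.P a x ha

theorem rel_of_chart [Flat f] {x : X} {y : Y} {h : f x ⤳ y} {q e : Y.presheaf.stalk y} (b : ι)
    (hb : x ∈ D.U b) (e' : sp x h q * D.Q b x hb = sp x h e * D.P b x hb) : D.Rel x h q e := by
  intro a ha
  refine D.cancel_Q (a := b) (ha := hb) ?_
  calc sp x h q * D.Q a x ha * D.Q b x hb = D.Q a x ha * (sp x h q * D.Q b x hb) := by ring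
    _ = sp x h e * (D.P b x hb * D.Q a x ha) := by rw [e']; ring
    _ = sp x h e * D.P a x ha * D.Q b x hb := by rw [← D.PQ a b x ha hb]; ring

theorem Rel.spec_point [Flat f] {x x' : X} (hx : x' ⤳ x) {y : Y} {h : f x ⤳ y} {q e : Y.presheaf.stalk y}
    (r : D.Rel x h q e) : D.Rel x' ((hx.map f.continuous).trans h) q e := by
  obtain ⟨a, ha⟩ := D.cover x
  refine D.rel_of_chart a (hx.mem_open (D.U a).2 ha) ?_
  have := congrArg (Ideal.map (X.presheaf.stalkSpecializes hx).hom) (r a ha)
  rwa [Ideal.map_mul, Ideal.map_mul, sp_map, sp_map, D.P_map, D.Q_map] at this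

theorem Rel.span_eq [Flat f] {x : X} {y : Y} (hx : f x = y) {q e q' e' : Y.presheaf.stalk y}
    (r : D.Rel x (specializes_of_eq hx) q e) (r' : D.Rel x (specializes_of_eq hx) q' e') :
    Ideal.span {q * e'} = Ideal.span {q' * e} := by
  obtain ⟨a, ha⟩ := D.cover x
  have key : sp x (specializes_of_eq hx) (q * e') = sp x (specializes_of_eq hx) (q' * e) := by
    refine D.cancel_Q (a := a) (ha := ha) ?_
    calc sp x _ (q * e') * D.Q a x ha = sp x _ e' * (sp x _ q * D.Q a x ha) := by rw [sp_mul]; ring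
      _ = sp x _ e * (sp x _ e' * D.P a x ha) := by rw [r a ha]; ring
      _ = sp x _ (q' * e) * D.Q a x ha := by rw [← r' a ha, sp_mul]; ring
  have h2 := congrArg (Ideal.comap (psi f x (specializes_of_eq hx))) key
  simp only [sp] at h2
  have e1 := comap_psi_map f x hx (Ideal.span {q * e'})
  have e2 := comap_psi_map f x hx (Ideal.span {q' * e})
  rw [Ideal.map_span, Set.image_singleton] at e1 e2
  rwa [e1, e2] at h2

theorem Rel.change [Flat f] {x : X} {y : Y} (hx : f x = y) {q e q' e' : Y.presheaf.stalk y}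
    (r : D.Rel x (specializes_of_eq hx) q e) (he : e ∈ nonZeroDivisors (Y.presheaf.stalk y))
    (hs : Ideal.span {q * e'} = Ideal.span {q' * e}) : D.Rel x (specializes_of_eq hx) q' e' := by
  intro a ha
  have hs' : sp x (specializes_of_eq hx) (q * e') = sp x (specializes_of_eq hx) (q' * e) := by
    have := congrArg (Ideal.map (psi f x (specializes_of_eq hx))) hs
    rwa [Ideal.map_span, Ideal.map_span, Set.image_singleton, Set.image_singleton] at this
  rw [sp_mul, sp_mul] at hs'
  refine cancel_sp hx he ?_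
  calc sp x _ q' * D.Q a x ha * sp x _ e = (sp x _ q' * sp x _ e) * D.Q a x ha := by ring
    _ = sp x _ e' * (sp x _ q * D.Q a x ha) := by rw [← hs']; ring
    _ = sp x _ e' * D.P a x ha * sp x _ e := by rw [r a ha]; ring

/-- The pointwise descent statement. -/
def Good (y : Y) : Prop :=
  ∃ q e : Y.presheaf.stalk y, q ∈ nonZeroDivisors _ ∧ e ∈ nonZeroDivisors _ ∧
    ∀ (x : X) (hx : f x = y), D.Rel x (specializes_of_eq hx) q e

variable [IsLocallyNoetherian Y] [Flat f] [Surjective f]

omit [IsLocallyNoetherian Y] [Flat f] [Surjective f] in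
theorem good_of_maximal (y : Y) (hy : ∀ z, z ⤳ y → z = y) : D.Good y := by
  refine ⟨1, 1, Submonoid.one_mem _, Submonoid.one_mem _, fun x hx a ha => ?_⟩
  have hmax : ∀ z, z ⤳ f x → z = f x := by rw [hx]; exact hy
  have hd : IsUnit (Y.presheaf.germ (D.V a) (f x) (D.le a ha) (D.d a)) :=
    Divisors.isUnit_germ_of_maximal' (D.d_nzd a) (D.le a ha) hmax
  simp only [sp, map_one, Ideal.span_singleton_one, FracDiv.P, FracDiv.Q,
    Ideal.span_singleton_eq_top.2 (hd.map (f.stalkMap x).hom),
    Ideal.span_singleton_eq_top.2 (D.gen a x ha hmax)]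

omit [IsLocallyNoetherian Y] [Surjective f] in
theorem good_of_dim_one (y : Y) [IsDomain (Y.presheaf.stalk y)]
    [IsDiscreteValuationRing (Y.presheaf.stalk y)] [IsIntegral (f.fiber y)]
    (hlow : ∀ y', y' ⤳ y → y' ≠ y → ∀ z, z ⤳ y' → z = y') : D.Good y := by
  obtain ⟨π, hπ⟩ := IsDiscreteValuationRing.exists_irreducible (Y.presheaf.stalk y)
  have hπn : π ∈ nonZeroDivisors (Y.presheaf.stalk y) := mem_nonZeroDivisors_of_ne_zero hπ.ne_zero
  have key : ∀ (x : X) (hx : f x = y), ∃ n k : ℕ,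
      D.Rel x (specializes_of_eq hx) (π ^ n) (π ^ k) := by
    intro x hx
    obtain ⟨a, ha⟩ := D.cover x
    have hyV : y ∈ D.V a := hx ▸ D.le a ha
    have hδ : Y.presheaf.germ (D.V a) y hyV (D.d a) ≠ 0 :=
      nonZeroDivisors.ne_zero (D.d_nzd a y hyV)
    obtain ⟨k, u, hu⟩ := IsDiscreteValuationRing.eq_unit_mul_pow_irreducible hδ hπ
    set ψ := psi f x (specializes_of_eq hx) with hψ
    have hloc := isLocalHom_psi f x hx
    have hprime : (Ideal.span {ψ π}).IsPrime := by
      obtain ⟨z, hz⟩ : x ∈ Set.range (f.fiberι y) := by rw [Scheme.Hom.range_fiberι]; exact hx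
      obtain ⟨-, hker⟩ := Groth.Agent.S9501.result f y z
      subst hz
      have e : (maximalIdeal (Y.presheaf.stalk y)).map ψ =
          RingHom.ker ((f.fiberι y).stalkMap z).hom := by
        rw [hker]
        have key : ∀ (y' : Y) (h : f (f.fiberι y z) = y'),
            (maximalIdeal (Y.presheaf.stalk y')).map (psi f (f.fiberι y z) (specializes_of_eq h)) =
              (maximalIdeal (Y.presheaf.stalk (f (f.fiberι y z)))).map (f.stalkMap (f.fiberι y z)).hom := by
          rintro y' rfl; rw [psi_self]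
        exact key y hx
      rw [hπ.maximalIdeal_eq, Ideal.map_span, Set.image_singleton] at e
      rw [e]
      exact RingHom.ker_isPrime _
    have hnz : ∀ b, ψ π * b = 0 → b = 0 := fun b hb =>
      mem_nonZeroDivisors_iff_right.1 (Divisors.mem_nonZeroDivisors_of_flat ψ
        (flat_psi f x hx) hπn) b (by rwa [mul_comm])
    have hrad : ψ π ∈ (D.P a x ha).radical := by
      rw [Ideal.radical_eq_sInf, Ideal.mem_sInf]
      intro Q ⟨hQ, hQp⟩
      obtain ⟨x', hx', rfl⟩ := exists_spec_comap_eq x Q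
      rw [Ideal.mem_comap, hψ, ← RingHom.comp_apply, spec_psi]
      by_cases hxy : f x' = y
      · intro hu
        have := isLocalHom_psi f x' hxy
        exact hπ.not_isUnit (isUnit_of_map_unit (psi f x' (specializes_of_eq hxy)) _ hu)
      · exfalso
        have h' : f x' ⤳ y := (hx'.map f.continuous).trans (specializes_of_eq hx)
        have h5 := D.gen a x' (hx'.mem_open (D.U a).2 ha) (hlow _ h' hxy)
        have h6 : X.presheaf.germ (D.U a) x ha (D.p a) ∈
            (maximalIdeal (X.presheaf.stalk x')).comap (X.presheaf.stalkSpecializes hx').hom :=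
          hQ (Ideal.mem_span_singleton_self _)
        rw [Ideal.mem_comap] at h6
        erw [TopCat.Presheaf.germ_stalkSpecializes_apply] at h6
        exact h6 h5
    obtain ⟨N, hN⟩ := hrad
    obtain ⟨c, hc⟩ := Ideal.mem_span_singleton'.1 hN
    obtain ⟨n, hn⟩ := Groth.Agent.S3839.eq_pow_mul_of_mul_eq_pow hprime hnz N _ c
      (by rw [mul_comm]; exact hc)
    refine ⟨n, k, D.rel_of_chart a ha ?_⟩
    rw [D.Q_eq a x ha (specializes_of_eq hx) hyV, hu, sp_mul,
      show sp x (specializes_of_eq hx) (u : Y.presheaf.stalk y) = ⊤ from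
        Ideal.span_singleton_eq_top.2 (u.isUnit.map ψ), Ideal.top_mul, FracDiv.P, hn, mul_comm]
    congr 1
    rw [sp, map_pow]
  obtain ⟨g, hg⟩ : ∃ g, g = f.fiberι y (genericPoint (f.fiber y)) := ⟨_, rfl⟩
  have hgy : f g = y := by
    have : g ∈ f ⁻¹' {y} := by rw [← Scheme.Hom.range_fiberι]; exact ⟨_, hg.symm⟩
    exact this
  obtain ⟨n, k, hr⟩ := key g hgy
  refine ⟨π ^ n, π ^ k, pow_mem hπn n, pow_mem hπn k, fun x hx => ?_⟩
  obtain ⟨n', k', hr'⟩ := key x hx
  obtain ⟨z, hz⟩ : x ∈ Set.range (f.fiberι y) := by rw [Scheme.Hom.range_fiberι]; exact hx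
  have hgx : g ⤳ x := hg ▸ hz ▸ (genericPoint_specializes z).map (f.fiberι y).continuous
  exact Rel.change D hx hr' (pow_mem hπn k') (Rel.span_eq D hgy (hr'.spec_point D hgx) hr)

theorem good_of_depth (y : Y) (hd : (2 : ℕ∞) ≤ LocCoh.depth (Y.presheaf.stalk y) (Y.presheaf.stalk y))
    (IH : ∀ y', y' ⤳ y → y' ≠ y → D.Good y') : D.Good y := by
  classical
  obtain ⟨x₀, hx₀⟩ := f.surjective y
  obtain ⟨a₀, ha₀⟩ := D.cover x₀
  have hy₀ : y ∈ D.V a₀ := hx₀ ▸ D.le a₀ ha₀
  set e := Y.presheaf.germ (D.V a₀) y hy₀ (D.d a₀) with he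
  have hen : e ∈ nonZeroDivisors _ := D.d_nzd a₀ y hy₀
  -- the local equations away from the closed point
  have hr : ∀ (y' : Y) (h : y' ⤳ y), y' ≠ y → ∃ r, r ∈ nonZeroDivisors (Y.presheaf.stalk y') ∧
      ∀ (x : X) (hx : f x = y'), D.Rel x (specializes_of_eq hx) r (Y.presheaf.stalkSpecializes h e) := by
    intro y' h hne
    obtain ⟨q', e', hq', he', hrel⟩ := IH y' h hne
    obtain ⟨x, hxs, hx⟩ := Flat.generalizingMap f (hx₀.symm ▸ h : y' ⤳ f x₀)
    have he1 : Y.presheaf.stalkSpecializes h e ∈ nonZeroDivisors (Y.presheaf.stalk y') := by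
      rw [he, TopCat.Presheaf.germ_stalkSpecializes_apply]; exact D.d_nzd a₀ y' _
    have ha := hxs.mem_open (D.U a₀).2 ha₀
    have h1 := hrel x hx a₀ ha
    rw [D.Q_eq a₀ x ha (specializes_of_eq hx) (h.mem_open (D.V a₀).2 hy₀), ← sp_mul] at h1
    have h2 : q' * Y.presheaf.stalkSpecializes h e ∈ Ideal.span {e'} := by
      rw [← comap_psi_map f x hx (Ideal.span {e'}), Ideal.mem_comap, Ideal.map_span, Set.image_singleton,
        ← Ideal.span_singleton_le_iff_mem]
      change sp x (specializes_of_eq hx) (q' * Y.presheaf.stalkSpecializes h e) ≤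
        sp x (specializes_of_eq hx) e'
      rw [he, TopCat.Presheaf.germ_stalkSpecializes_apply, h1]
      exact Ideal.mul_le_left
    obtain ⟨r, hr⟩ := Ideal.mem_span_singleton'.1 h2
    refine ⟨r, (mul_mem_nonZeroDivisors.1 (hr ▸ mul_mem_nonZeroDivisors.2 ⟨hq', he1⟩ :
      r * e' ∈ nonZeroDivisors _)).1, fun z hz => Rel.change D hz (hrel z hz) he' ?_⟩
    rw [hr, mul_comm]
  choose r hrn hrel using hr
  -- integrality
  have hint : ∀ (x : X) (hx : f x ⤳ y) (a : ι) (ha : x ∈ D.U a),
      ∃ c, c ∈ nonZeroDivisors (X.presheaf.stalk x) ∧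
        Ideal.span {c} * D.Q a x ha = sp x hx e * D.P a x ha := by
    have hint₀ : ∀ (x : X) (hx : f x ⤳ y) (hne : f x ≠ y) (a : ι) (ha : x ∈ D.U a),
        sp x (specializes_refl _) (r (f x) hx hne) * D.Q a x ha = sp x hx e * D.P a x ha := by
      intro x hx hne a ha
      have := hrel (f x) hx hne x rfl a ha
      rwa [sp_spec] at this
    intro x hx a ha
    by_cases hxy : f x = y
    swap
    · exact ⟨_, Divisors.mem_nonZeroDivisors_of_flat _ (flat_psi f x rfl) (hrn (f x) hx hxy),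
        hint₀ x hx hxy a ha⟩
    set ψ := psi f x hx with hψ
    set p := X.presheaf.germ (D.U a) x ha (D.p a) with hp
    set d := f.stalkMap x (Y.presheaf.germ (D.V a) (f x) (D.le a ha) (D.d a)) with hd'
    obtain ⟨s, t, hs, ht, hst⟩ := Groth.PicAux.exists_regular_pair hd
    have hflat : ψ.Flat := flat_psi f x hxy
    obtain ⟨hs', ht'⟩ := DescentDivAlg.regular_pair_map ψ hflat hst
    have hdn : d ∈ nonZeroDivisors (X.presheaf.stalk x) :=
      Divisors.mem_nonZeroDivisors_of_flat _ (Flat.stalkMap f x) (D.d_nzd a _ _)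
    have key : ∀ c ∈ maximalIdeal (Y.presheaf.stalk y),
        ψ c ∈ ((Ideal.span {d}).colon {ψ e * p}).radical := by
      intro c hc
      rw [Ideal.radical_eq_sInf, Ideal.mem_sInf]
      intro Q ⟨hQ, hQp⟩
      obtain ⟨x', hx', rfl⟩ := exists_spec_comap_eq x Q
      rw [Ideal.mem_comap, hψ, ← RingHom.comp_apply, spec_psi]
      by_cases he' : f x' = y
      · intro hu
        have := isLocalHom_psi f x' he'
        exact hc (isUnit_of_map_unit (psi f x' (specializes_of_eq he')) _ hu)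
      · have h' : f x' ⤳ y := (hx'.map f.continuous).trans hx
        have h2 : Ideal.span {X.presheaf.stalkSpecializes hx' (ψ e * p)} ≤
            (Ideal.span {d}).map (X.presheaf.stalkSpecializes hx').hom := by
          have h3 : (sp x hx e * D.P a x ha).map (X.presheaf.stalkSpecializes hx').hom =
              sp x' (specializes_refl _) (r (f x') h' he') * (D.Q a x ha).map (X.presheaf.stalkSpecializes hx').hom := by
            rw [Ideal.map_mul, sp_map, D.P_map, D.Q_map, hint₀ x' h' he' a (hx'.mem_open (D.U a).2 ha)]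
          rw [sp, FracDiv.P, Ideal.span_singleton_mul_span_singleton, Ideal.map_span, Set.image_singleton] at h3
          exact h3.le.trans Ideal.mul_le_right
        obtain ⟨w, hwu, hw⟩ := exists_mul_mem hx' _ _ ((Ideal.span_singleton_le_iff_mem _).1 h2)
        exact absurd hwu (hQ (Submodule.mem_colon_singleton.2 hw))
    obtain ⟨n, hn⟩ := key s hs
    obtain ⟨m, hm⟩ := key t ht
    rw [Submodule.mem_colon_singleton] at hn hm
    obtain ⟨c, hc⟩ := Ideal.mem_span_singleton'.1 (DescentDivAlg.mem_span_of_regular_pair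
      (fun z hz => mem_nonZeroDivisors_iff_right.1 hdn z (by rwa [mul_comm])) hs' ht' hn hm)
    refine ⟨c, (mul_mem_nonZeroDivisors.1 (hc.symm ▸ mul_mem_nonZeroDivisors.2
      ⟨Divisors.mem_nonZeroDivisors_of_flat ψ hflat hen, D.p_nzd a x ha⟩ : c * d ∈ nonZeroDivisors _)).1, ?_⟩
    rw [FracDiv.Q, sp, FracDiv.P, Ideal.span_singleton_mul_span_singleton,
      Ideal.span_singleton_mul_span_singleton, hc]
  choose α hα using D.cover
  choose c hcn hc using fun x hx => hint x hx (α x) (hα x)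
  let S : ∀ x : X, Ideal (X.presheaf.stalk x) := fun x =>
    if h : f x ⤳ y then Ideal.span {c x h} else ⊥
  have hS : ∀ x (h : f x ⤳ y), S x = Ideal.span {c x h} := fun x h => dif_pos h
  have hSQ : ∀ (x : X) (h : f x ⤳ y) (a : ι) (ha : x ∈ D.U a),
      S x * D.Q a x ha = sp x h e * D.P a x ha := by
    intro x h a ha
    obtain ⟨c', -, hc'⟩ := hint x h a ha
    refine D.cancel_Q (a := α x) (ha := hα x) ?_
    calc S x * D.Q a x ha * D.Q (α x) x (hα x) = S x * D.Q (α x) x (hα x) * D.Q a x ha := by ring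
      _ = sp x h e * (D.P (α x) x (hα x) * D.Q a x ha) := by rw [hS x h, hc]; ring
      _ = sp x h e * D.P a x ha * D.Q (α x) x (hα x) := by rw [← D.PQ a (α x) x ha (hα x)]; ring
  obtain ⟨I, hI⟩ := desc_step (J := S) y
    (fun x hx => ⟨c x (specializes_of_eq hx),
      fun b hb => mem_nonZeroDivisors_iff_right.1 (hcn x _) b (by rwa [mul_comm]), hS x _⟩)
    (fun x x' hx' hx => D.cancel_Q (a := α x) (ha := hx'.mem_open (D.U (α x)).2 (hα x)) (by
      rw [hSQ x' ((hx'.map f.continuous).trans hx), ← D.Q_map hx' (α x) (hα x), ← Ideal.map_mul, hSQ x hx (α x) (hα x),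
        Ideal.map_mul, sp_map, D.P_map]))
    hd fun y' h hne => ⟨Ideal.span {r y' h hne}, fun x hx => by
      obtain ⟨a, ha⟩ := D.cover x
      refine D.cancel_Q (a := a) (ha := ha) ?_
      rw [Ideal.map_span, Set.image_singleton, hSQ x ((specializes_of_eq hx).trans h)]
      have := hrel y' h hne x hx a ha
      rwa [sp_spec] at this⟩
  obtain ⟨q, hqn, rfl⟩ := exists_generator_of_desc
    (fun x hx => ⟨c x (specializes_of_eq hx),
      fun b hb => mem_nonZeroDivisors_iff_right.1 (hcn x _) b (by rwa [mul_comm]), hS x _⟩) hI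
  refine ⟨q, e, hqn, hen, fun x hx a ha => ?_⟩
  rw [← hSQ x (specializes_of_eq hx) a ha, ← hI x hx, Ideal.map_span, Set.image_singleton]
  rfl

theorem good (hY : Pi1.IsNormalScheme Y)
    (hfib : ∀ y : Y, ringKrullDim (Y.presheaf.stalk y) = 1 → IsIntegral (f.fiber y)) :
    ∀ y : Y, D.Good y := by
  intro y
  induction hd : ringKrullDim (Y.presheaf.stalk y) using WellFoundedLT.induction generalizing y with
  | _ d ih =>
    have := (hY y).1
    have := (hY y).2
    by_cases h2 : (2 : WithBot ℕ∞) ≤ d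
    · exact D.good_of_depth y (RefRank.two_le_depth_of_normal (hd ▸ h2))
        fun y' h hne => ih _ (hd ▸ dim_lt_of_specializes h hne) y' rfl
    by_cases hmax : ∀ z, z ⤳ y → z = y
    · exact D.good_of_maximal y hmax
    obtain ⟨y₁, hy₁⟩ := not_forall.1 hmax
    obtain ⟨hy₁, hne₁⟩ := Classical.not_imp.1 hy₁
    have hpos := dim_lt_of_specializes hy₁ hne₁
    rw [hd] at hpos
    have h1 : d = 1 := by
      induction d with
      | bot => exact absurd hpos (not_lt_bot)
      | coe d =>
        have hlt : d < (2 : ℕ∞) := not_le.1 fun h => h2 (WithBot.coe_le_coe.2 h)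
        have hd0 : (0 : WithBot ℕ∞) < (d : WithBot ℕ∞) :=
          lt_of_le_of_lt ringKrullDim_nonneg_of_nontrivial hpos
        have h0 : (0 : ℕ∞) < d := WithBot.coe_lt_coe.1 hd0
        refine congrArg _ (le_antisymm ?_ (Order.one_le_iff_pos.2 h0))
        exact (ENat.lt_add_one_iff (by norm_num)).1 (by simpa [one_add_one_eq_two] using hlt)
    subst h1
    have hnf : ¬ IsField (Y.presheaf.stalk y) := fun hf' => by
      rw [ringKrullDim_eq_zero_of_isField hf'] at hd
      exact zero_ne_one hd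
    have : Ring.KrullDimLE 1 (Y.presheaf.stalk y) := Ring.krullDimLE_iff.2 (by simp [hd])
    have : Ring.DimensionLEOne (Y.presheaf.stalk y) := ⟨fun {P} hP hP' => by
      have : (⊥ : Ideal (Y.presheaf.stalk y)).IsPrime := Ideal.isPrime_bot
      exact Ring.krullDimLE_one_iff_of_isPrime_bot.1 inferInstance P hP hP'⟩
    have h3 : IsIntegrallyClosed (Y.presheaf.stalk y) ∧
        ∃! P : Ideal (Y.presheaf.stalk y), P ≠ ⊥ ∧ P.IsPrime :=
      ⟨inferInstance, maximalIdeal _,
        ⟨fun e => hnf (IsLocalRing.isField_iff_maximalIdeal_eq.2 e), inferInstance⟩,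
        fun P hP => IsLocalRing.eq_maximalIdeal (hP.2.isMaximal hP.1)⟩
    have : IsDiscreteValuationRing (Y.presheaf.stalk y) :=
      ((IsDiscreteValuationRing.TFAE _ hnf).out 0 3).2 h3
    have := hfib y hd
    refine D.good_of_dim_one y fun y' h hne z hz => ?_
    by_contra hzne
    have e1 := hd ▸ dim_lt_of_specializes h hne
    have e2 := dim_lt_of_specializes hz hzne
    have := (hY y').1
    have h0 : ringKrullDim (Y.presheaf.stalk y') ≤ 0 := by
      generalize ringKrullDim (Y.presheaf.stalk y') = c at e1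
      induction c with
      | bot => exact bot_le
      | coe c => exact WithBot.coe_le_coe.2 (Order.lt_one_iff.1 (WithBot.coe_lt_coe.1 e1)).le
    exact absurd ringKrullDim_nonneg_of_nontrivial (not_le.2 (lt_of_lt_of_le e2 h0))

/-- Local equations downstairs. -/
theorem exists_equations [IsLocallyNoetherian X] (hf : QuasiCompact f ∨ IsOpenMap f)
    (hY : Pi1.IsNormalScheme Y)
    (hfib : ∀ y : Y, ringKrullDim (Y.presheaf.stalk y) = 1 → IsIntegral (f.fiber y)) (y : Y) :
    ∃ (W : Y.Opens) (q e : Γ(Y, W)), y ∈ W ∧ Divisors.IsNzdSec q ∧ Divisors.IsNzdSec e ∧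
      ∀ (x : X) (hx : f x ∈ W), D.Rel x (specializes_refl (f x))
        (Y.presheaf.germ W (f x) hx q) (Y.presheaf.germ W (f x) hx e) := by
  have hgood := D.good hY hfib
  obtain ⟨q₀, e₀, hq₀, he₀, hrel⟩ := hgood y
  obtain ⟨A, hyA, q₁, hq₁, rfl⟩ := Divisors.exists_isNzdSec_of_germ q₀ hq₀
  obtain ⟨B, hyB, e₁, he₁, rfl⟩ := Divisors.exists_isNzdSec_of_germ e₀ he₀
  set W : Y.Opens := A ⊓ B
  set q := resX Y (inf_le_left : W ≤ A) q₁
  set e := resX Y (inf_le_right : W ≤ B) e₁
  let T : Set Y := {y' | ∃ hy' : y' ∈ W, ∀ (x : X) (hx : f x = y'),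
    D.Rel x (specializes_of_eq hx) (Y.presheaf.germ W y' hy' q) (Y.presheaf.germ W y' hy' e)}
  have hT : IsOpen (f ⁻¹' T) := by
    rw [isOpen_iff_mem_nhds]
    rintro x ⟨hxW, hxr⟩
    obtain ⟨a, ha⟩ := D.cover x
    set N : X.Opens := D.U a ⊓ f ⁻¹ᵁ W
    set Aq := f.appLE W N inf_le_right q * f.appLE (D.V a) N (inf_le_left.trans (D.le a)) (D.d a)
    set Bp := f.appLE W N inf_le_right e * resX X (inf_le_left : N ≤ D.U a) (D.p a)
    have hA : ∀ (z : X) (hz : z ∈ N), Ideal.span {X.presheaf.germ N z hz Aq} =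
        sp z (specializes_refl _) (Y.presheaf.germ W (f z) hz.2 q) * D.Q a z hz.1 := by
      intro z hz
      rw [sp, psi_self, FracDiv.Q, Ideal.span_singleton_mul_span_singleton, map_mul, germ_appLE, germ_appLE]
    have hB : ∀ (z : X) (hz : z ∈ N), Ideal.span {X.presheaf.germ N z hz Bp} =
        sp z (specializes_refl _) (Y.presheaf.germ W (f z) hz.2 e) * D.P a z hz.1 := by
      intro z hz
      rw [sp, psi_self, FracDiv.P, Ideal.span_singleton_mul_span_singleton, map_mul, germ_appLE]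
      exact congrArg (fun w => Ideal.span {_ * w}) (germ_resX' (inf_le_left : N ≤ D.U a) z hz (D.p a))
    refine Filter.mem_of_superset ((isOpen_span_eq Aq Bp).mem_nhds
      ⟨⟨ha, hxW⟩, by rw [hA, hB]; exact hxr x rfl a ha⟩) ?_
    rintro z ⟨hz, he⟩
    rw [hA, hB] at he
    have hrz := D.rel_of_chart a hz.1 he
    obtain ⟨q', e', -, he'n, hrel'⟩ := hgood (f z)
    exact ⟨hz.2, fun z' hz' => Rel.change D hz' (hrel' z' hz') he'n
      (Rel.span_eq D rfl (hrel' z rfl) hrz)⟩
  have hTo : IsOpen T := by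
    rcases hf with hf | hf
    · exact (Flat.isQuotientMap_of_surjective f).isOpen_preimage.1 hT
    · rw [← Set.image_preimage_eq T f.surjective]; exact hf _ hT
  have hyT : y ∈ T := ⟨⟨hyA, hyB⟩, fun x hx => by
    simp only [q, e, germ_resX']; exact hrel x hx⟩
  let W' : Y.Opens := ⟨T, hTo⟩
  have hW' : W' ≤ W := fun z hz => hz.1
  refine ⟨W', resX Y hW' q, resX Y hW' e, hyT, (hq₁.res _).res _, (he₁.res _).res _, fun x hx => ?_⟩
  simp only [germ_resX']
  exact hx.2 x rfl

end FracDiv

end Groth.ParaFormal
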