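/-
Line bundles trivial on the generic fibres give fractional divisors.
-/
import Groth.Agent.ParaFormal.DivDescent
import Groth.Agent.PicAux.GenLocal
import Groth.Agent.PicAux.Pullback
import Mathlib.AlgebraicGeometry.Fiber

set_option autoImplicit false
universe u

open CategoryTheory CategoryTheory.Limits AlgebraicGeometry TopologicalSpace Opposite IsLocalRing
open Groth.PicAux

namespace Groth.ParaFormal

variable {X Y : Scheme.{u}}

/-- A normal locally Noetherian scheme is locally the spectrum of a domain. -/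
theorem exists_affine_domain [IsLocallyNoetherian Y] (hY : Pi1.IsNormalScheme Y) (y : Y) :
    ∃ V : Y.affineOpens, y ∈ V.1 ∧ IsDomain Γ(Y, V.1) := by
  have hred : IsReduced Y := by
    have : ∀ z : Y, _root_.IsReduced (Y.presheaf.stalk z) := fun z => have := (hY z).1; inferInstance
    exact isReduced_of_isReduced_stalk Y
  obtain ⟨U, hy, -⟩ := Divisors.exists_affine_le y ⊤ trivial
  have : IsNoetherianRing Γ(Y, U.1) := IsLocallyNoetherian.component_noetherian U
  let _ := TopCat.Presheaf.algebra_section_stalk Y.presheaf ⟨y, hy⟩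
  have := U.2.isLocalization_stalk ⟨y, hy⟩
  have hdom : IsDomain (Y.presheaf.stalk y) := (hY y).1
  set p := (U.2.primeIdealOf ⟨y, hy⟩).asIdeal
  set P := RingHom.ker (algebraMap Γ(Y, U.1) (Y.presheaf.stalk y)) with hP
  have hPle : ∀ Q : Ideal Γ(Y, U.1), Q.IsPrime → Q ≤ p → P ≤ Q := by
    intro Q hQ hQp a ha
    obtain ⟨⟨c, hc⟩, hca⟩ := (IsLocalization.map_eq_zero_iff p.primeCompl (Y.presheaf.stalk y) a).1 ha
    have hca' : c * a = 0 := hca
    exact (hQ.mem_or_mem (hca' ▸ Q.zero_mem : c * a ∈ Q)).resolve_left fun h => hc (hQp h)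
  have hPprime : P.IsPrime := RingHom.ker_isPrime _
  have hPp : P ≤ p := fun a ha => by
    by_contra hna
    exact (IsLocalization.map_units (Y.presheaf.stalk y) (⟨a, hna⟩ : p.primeCompl)).ne_zero ha
  classical
  have hfin := minimalPrimes.finite_of_isNoetherianRing (R := Γ(Y, U.1))
  have hex : ∀ Q ∈ hfin.toFinset.erase P, ∃ t ∈ Q, t ∉ p := by
    intro Q hQ
    obtain ⟨hne, hQ⟩ := Finset.mem_erase.1 hQ
    rw [Set.Finite.mem_toFinset] at hQ
    refine Set.not_subset.1 fun hle => hne ?_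
    exact le_antisymm (hQ.2 ⟨hPprime, bot_le⟩ (hPle Q hQ.1.1 hle)) (hPle Q hQ.1.1 hle)
  choose! t htQ htp using hex
  set s := ∏ Q ∈ hfin.toFinset.erase P, t Q with hs
  have hsp : s ∉ p := fun h => by
    obtain ⟨Q, hQ, hQs⟩ := (Ideal.IsPrime.prod_mem_iff (hp := inferInstance)).1 h
    exact htp Q hQ hQs
  have hloc := U.2.isLocalization_basicOpen s
  refine ⟨Y.affineBasicOpen s, (Y.mem_basicOpen s y hy).2
    (IsLocalization.map_units (Y.presheaf.stalk y) (⟨s, hsp⟩ : p.primeCompl)), ?_⟩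
  have hVred : _root_.IsReduced Γ(Y, Y.basicOpen s) := IsReduced.component_reduced _
  have hnt : Nontrivial Γ(Y, Y.basicOpen s) :=
    (Y.presheaf.germ (Y.basicOpen s) y ((Y.mem_basicOpen s y hy).2
      (IsLocalization.map_units (Y.presheaf.stalk y) (⟨s, hsp⟩ : p.primeCompl)))).hom.domain_nontrivial
  have key : ∀ (Q : Ideal Γ(Y, Y.basicOpen s)), Q.IsPrime →
      P.map (algebraMap Γ(Y, U.1) Γ(Y, Y.basicOpen s)) ≤ Q := by
    intro Q hQ
    obtain ⟨M, hM, hMle⟩ := Ideal.exists_minimalPrimes_le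
      (bot_le : ⊥ ≤ Q.comap (algebraMap Γ(Y, U.1) Γ(Y, Y.basicOpen s)))
    refine Ideal.map_le_iff_le_comap.2 (le_trans ?_ hMle)
    by_contra hPM
    have hMP : M ∈ hfin.toFinset.erase P :=
      Finset.mem_erase.2 ⟨fun e => hPM e.ge, hfin.mem_toFinset.2 hM⟩
    have hsM : s ∈ M := by
      rw [hs, ← Finset.mul_prod_erase _ _ hMP]
      exact M.mul_mem_right _ (htQ M hMP)
    exact hQ.ne_top (Q.eq_top_of_isUnit_mem (hMle hsM)
      (IsLocalization.map_units Γ(Y, Y.basicOpen s) (⟨s, 1, pow_one s⟩ : Submonoid.powers s)))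
  have : NoZeroDivisors Γ(Y, Y.basicOpen s) := by
    refine ⟨fun {a b} hab => ?_⟩
    obtain ⟨a', m, rfl⟩ := IsLocalization.exists_mk'_eq (Submonoid.powers s) a
    obtain ⟨b', k, rfl⟩ := IsLocalization.exists_mk'_eq (Submonoid.powers s) b
    rw [← IsLocalization.mk'_mul, IsLocalization.mk'_eq_zero_iff] at hab
    obtain ⟨⟨_, n, rfl⟩, hn⟩ := hab
    have hz : ∀ (c : Γ(Y, U.1)) (j : Submonoid.powers s), c ∈ P →
        IsLocalization.mk' Γ(Y, Y.basicOpen s) c j = 0 := by
      intro c j hc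
      refine IsNilpotent.eq_zero ((mem_nilradical).1 ?_)
      rw [nilradical, Ideal.radical_eq_sInf, Ideal.mem_sInf]
      intro Q ⟨_, hQ⟩
      rw [IsLocalization.mk'_eq_mul_mk'_one]
      exact Q.mul_mem_right _ (key Q hQ (Ideal.mem_map_of_mem _ hc))
    have hn' : s ^ n * (a' * b') ∈ P := by
      rw [show s ^ n * (a' * b') = 0 from hn]; exact P.zero_mem
    rcases hPprime.mem_or_mem hn' with h | h
    · exact absurd (hPp (hPprime.mem_of_pow_mem n h)) hsp
    rcases hPprime.mem_or_mem h with h | h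
    · exact Or.inl (hz _ _ h)
    · exact Or.inr (hz _ _ h)
  change IsDomain Γ(Y, Y.basicOpen s)
  exact NoZeroDivisors.to_isDomain _

/-- The local rings of a flat scheme over a normal one embed in those over the generic points. -/
theorem eq_zero_of_generic [IsLocallyNoetherian X] (f : X ⟶ Y) [Flat f]
    (hY : Pi1.IsNormalScheme Y) (x : X) (b : X.presheaf.stalk x)
    (h : ∀ (x' : X) (hx : x' ⤳ x), (∀ z, z ⤳ f x' → z = f x') →
      X.presheaf.stalkSpecializes hx b = 0) : b = 0 := by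
  by_contra hb
  have := (hY (f x)).1
  obtain ⟨P, hP, hle⟩ := exists_le_isAssociatedPrime_of_isNoetherianRing (X.presheaf.stalk x) b hb
  have := hP.isPrime
  obtain ⟨x', hx', hPx⟩ := exists_spec_comap_eq x P
  have hzero : ∀ c : Y.presheaf.stalk (f x), f.stalkMap x c ∈ P → c = 0 := by
    intro c hc
    by_contra hc0
    obtain ⟨w, hw⟩ := (isAssociatedPrime_iff.1 hP).2
    have h1 := Divisors.mem_nonZeroDivisors_of_flat _ (Flat.stalkMap f x) (mem_nonZeroDivisors_of_ne_zero hc0)
    have hcw : f.stalkMap x c * w = 0 := by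
      rw [hw, Submodule.mem_colon_singleton, Submodule.mem_bot] at hc; exact hc
    have hw0 : w = 0 := mem_nonZeroDivisors_iff_right.1 h1 w (by rw [mul_comm]; exact hcw)
    apply hP.isPrime.ne_top
    rw [hw, Ideal.eq_top_iff_one, Submodule.mem_colon_singleton, one_smul, hw0]
    exact Submodule.zero_mem _
  have hmax : ∀ z, z ⤳ f x' → z = f x' := by
    intro z hz
    have h' : f x' ⤳ f x := hx'.map f.continuous
    refine (hz.antisymm ?_).eq
    refine specializes_of_comap_le (hz.trans h') h' fun c hc => ?_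
    have e : c = 0 := by
      refine hzero c ?_
      rw [← hPx, Ideal.mem_comap, ← Scheme.Hom.stalkSpecializes_stalkMap_apply]
      rw [Ideal.mem_comap] at hc
      exact fun hu => hc (isUnit_of_map_unit (f.stalkMap x').hom _ hu)
    rw [e]; exact Submodule.zero_mem _
  have hmem : X.presheaf.stalkSpecializes hx' b ∈
      (⊥ : Ideal (X.presheaf.stalk x)).map (X.presheaf.stalkSpecializes hx').hom := by
    rw [h x' hx' hmax]; exact Submodule.zero_mem _
  obtain ⟨s, hsu, hs⟩ := exists_mul_mem hx' ⊥ b hmem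
  have : s ∈ P := hle (Submodule.mem_colon_singleton.2 hs)
  rw [← hPx, Ideal.mem_comap] at this
  exact this hsu

/-- Sections of a generic fibre over an affine chart are fractions. -/
theorem exists_fibre_fraction (f : X ⟶ Y) {η : Y} {U : X.Opens} {V : Y.Opens} (hU : IsAffineOpen U)
    (hV : IsAffineOpen V) (hη : η ∈ V) (hUV : U ≤ f ⁻¹ᵁ V)
    (hfield : IsField (Y.presheaf.stalk η)) :
    ∀ w : Γ(f.fiber η, f.fiberι η ⁻¹ᵁ U), ∃ (p : Γ(X, U)) (d : Γ(Y, V)), IsUnit (Y.presheaf.germ V η hη d) ∧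
      w * (f.fiberι η).app U (f.appLE V U hUV d) = (f.fiberι η).app U p := by
  set g := f.fiberι η with hg
  set j := Y.fromSpecResidueField η with hj
  have hUT : (⊤ : (Spec (Y.residueField η)).Opens) ≤ j ⁻¹ᵁ V := fun z _ => by
    change j z ∈ V
    rw [hj, Scheme.fromSpecResidueField_apply]; exact hη
  have H : IsPullback g (f.fiberToSpecResidueField η) f j := IsPullback.of_hasPullback f j
  have hUY : g ⁻¹ᵁ U = g ⁻¹ᵁ U ⊓ f.fiberToSpecResidueField η ⁻¹ᵁ ⊤ := by simp
  have hiso := isIso_pushoutSection_of_isAffineOpen H hUT hUV hUY hV (isAffineOpen_top _) hU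
  have hpo := (isIso_pushoutSection_iff H hUT hUV hUY).1 hiso
  let ρ : Γ(Y, V) →+* Γ(f.fiber η, g ⁻¹ᵁ U) := (g.app U).hom.comp (f.appLE V U hUV).hom
  have hρ : ∀ a, ρ a = (f.fiberToSpecResidueField η).appLE ⊤ (g ⁻¹ᵁ U) (by simp) (j.appLE V ⊤ hUT a) := by
    intro a
    have e := congr($(hpo.w) a)
    simp only [CommRingCat.comp_apply] at e
    rw [← e]
    simp only [ρ, RingHom.comp_apply, Scheme.Hom.app_eq_appLE]
  let S : Subring Γ(f.fiber η, g ⁻¹ᵁ U) :=
    { carrier := {w | ∃ (p : Γ(X, U)) (d : Γ(Y, V)), IsUnit (Y.presheaf.germ V η hη d) ∧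
        w * ρ d = g.app U p}
      one_mem' := ⟨1, 1, by simp, by simp⟩
      zero_mem' := ⟨0, 1, by simp, by simp⟩
      mul_mem' := by
        rintro a b ⟨p, d, hd, e⟩ ⟨p', d', hd', e'⟩
        refine ⟨p * p', d * d', by rw [map_mul]; exact hd.mul hd', ?_⟩
        rw [map_mul, map_mul, ← e, ← e']; ring
      add_mem' := by
        rintro a b ⟨p, d, hd, e⟩ ⟨p', d', hd', e'⟩
        refine ⟨p * f.appLE V U hUV d' + p' * f.appLE V U hUV d, d * d',
          by rw [map_mul]; exact hd.mul hd', ?_⟩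
        rw [map_add, map_mul, map_mul, map_mul, ← e, ← e']
        simp only [ρ, RingHom.comp_apply]; ring
      neg_mem' := by
        rintro a ⟨p, d, hd, e⟩
        exact ⟨-p, d, hd, by rw [map_neg, ← e, neg_mul]⟩ }
  have hX : ∀ p, g.appLE U (g ⁻¹ᵁ U) le_rfl p ∈ S := fun p =>
    ⟨p, 1, by simp, by simp [Scheme.Hom.app_eq_appLE]⟩
  have hK : ∀ c, (f.fiberToSpecResidueField η).appLE ⊤ (g ⁻¹ᵁ U) (by simp) c ∈ S := by
    intro c
    obtain ⟨z, hz⟩ : ∃ z : Spec (Y.residueField η), z = closedPoint (Y.residueField η) := ⟨_, rfl⟩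
    have hjz : j z = η := Scheme.fromSpecResidueField_apply _ _
    obtain ⟨α, hα⟩ := j.stalkMap_surjective z ((Spec (Y.residueField η)).presheaf.germ ⊤ z trivial c)
    have hzV : j z ∈ V := hUT (trivial : z ∈ (⊤ : (Spec (Y.residueField η)).Opens))
    let _ := TopCat.Presheaf.algebra_section_stalk Y.presheaf ⟨j z, hzV⟩
    have := hV.isLocalization_stalk ⟨j z, hzV⟩
    obtain ⟨⟨a, d⟩, had⟩ := IsLocalization.surj (hV.primeIdealOf ⟨j z, hzV⟩).asIdeal.primeCompl α
    have hd : IsUnit (Y.presheaf.germ V (j z) hzV d.1) := IsLocalization.map_units _ d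
    have htr : ∀ (y' : Y) (hy' : y' ∈ V), y' = η → IsUnit (Y.presheaf.germ V y' hy' d.1) →
        IsUnit (Y.presheaf.germ V η hη d.1) := by
      rintro y' hy' rfl hu; exact hu
    have hdη : IsUnit (Y.presheaf.germ V η hη d.1) := htr _ hzV hjz hd
    refine ⟨f.appLE V U hUV a, d.1, hdη, ?_⟩
    change _ = ρ a
    rw [hρ, hρ, ← map_mul]
    congr 1
    refine Divisors.section_ext fun z' hz' => ?_
    have : z' = z := Subsingleton.elim _ _
    subst this
    have h1 := congrArg (j.stalkMap z') had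
    rw [map_mul, hα] at h1
    change _ * j.stalkMap z' (Y.presheaf.germ V (j z') hzV d.1) =
      j.stalkMap z' (Y.presheaf.germ V (j z') hzV a) at h1
    rw [map_mul, germ_appLE, germ_appLE]
    exact h1
  have hS : S = ⊤ := by
    let inl' : Γ(X, U) ⟶ CommRingCat.of S :=
      CommRingCat.ofHom ((g.appLE U (g ⁻¹ᵁ U) le_rfl).hom.codRestrict S hX)
    let inr' : Γ(Spec (Y.residueField η), ⊤) ⟶ CommRingCat.of S :=
      CommRingCat.ofHom (((f.fiberToSpecResidueField η).appLE ⊤ (g ⁻¹ᵁ U) (by simp)).hom.codRestrict S hK)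
    have hw : f.appLE V U hUV ≫ inl' = j.appLE V ⊤ hUT ≫ inr' := by
      ext a
      exact congr($(hpo.w) a)
    let h := hpo.desc inl' inr' hw
    have hid : h ≫ CommRingCat.ofHom S.subtype = 𝟙 _ := hpo.hom_ext
      (by rw [hpo.inl_desc_assoc]; ext; rfl) (by rw [hpo.inr_desc_assoc]; ext; rfl)
    refine eq_top_iff.2 fun w _ => ?_
    have e : ((h w : S) : Γ(f.fiber η, g ⁻¹ᵁ U)) = w := congr($hid w)
    rw [← e]; exact (h w).2
  intro w
  have : w ∈ S := hS ▸ Subring.mem_top w
  exact this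

theorem isField_stalk_of_maximal [IsLocallyNoetherian Y] (hY : Pi1.IsNormalScheme Y) (η : Y)
    (hη : ∀ z, z ⤳ η → z = η) : IsField (Y.presheaf.stalk η) := by
  have := (hY η).1
  refine IsLocalRing.isField_iff_maximalIdeal_eq.2 ?_
  have : (⊥ : Ideal (Y.presheaf.stalk η)).IsPrime := Ideal.isPrime_bot
  obtain ⟨z, hz, e⟩ := exists_spec_comap_eq η (⊥ : Ideal (Y.presheaf.stalk η))
  obtain rfl := hη z hz
  rw [← e]
  simp

theorem stalkMap_fiberι_bijective (f : X ⟶ Y) (η : Y) (hfield : IsField (Y.presheaf.stalk η))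
    (z : f.fiber η) : Function.Bijective ((f.fiberι η).stalkMap z).hom := by
  obtain ⟨hsurj, hker⟩ := Groth.Agent.S9501.result f η z
  refine ⟨(RingHom.injective_iff_ker_eq_bot _).2 ?_, hsurj⟩
  have hfz : f (f.fiberι η z) = η := by
    have : f.fiberι η z ∈ f ⁻¹' {η} := by rw [← Scheme.Hom.range_fiberι]; exact ⟨z, rfl⟩
    exact this
  have key : ∀ y : Y, f (f.fiberι η z) = y → IsField (Y.presheaf.stalk y) →
      IsField (Y.presheaf.stalk (f (f.fiberι η z))) := by rintro y rfl h; exact h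
  rw [hker, IsLocalRing.isField_iff_maximalIdeal_eq.1 (key η hfz hfield)]
  exact Ideal.map_bot

/-- A line bundle trivial on the generic fibres is given by a fractional divisor. -/
theorem exists_fracDiv [IsLocallyNoetherian X] [IsLocallyNoetherian Y] (f : X ⟶ Y) [Flat f]
    (hY : Pi1.IsNormalScheme Y) (L : X.Modules) (hL : PicF.IsInvertible L)
    (htriv : ∀ η : Y, (∀ z : Y, z ⤳ η → z = η) →
      Nonempty ((Scheme.Modules.pullback (f.fiberι η)).obj L ≅ Coh.structureModule (f.fiber η))) :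
    ∃ (D : FracDiv f X) (e : ∀ a, Γ(L, D.U a)), (∀ a, Gen L (D.U a) (e a)) ∧
      ∀ (a b : X) (r : Γ(X, D.U a ⊓ D.U b)),
        res L inf_le_left (e a) = r • res L inf_le_right (e b) →
        ∀ (x : X) (ha : x ∈ D.U a) (hb : x ∈ D.U b),
          X.presheaf.germ (D.U a) x ha (D.p a) *
              f.stalkMap x (Y.presheaf.germ (D.V b) (f x) (D.le b hb) (D.d b)) =
            X.presheaf.germ (D.U a ⊓ D.U b) x ⟨ha, hb⟩ r * (X.presheaf.germ (D.U b) x hb (D.p b) *
              f.stalkMap x (Y.presheaf.germ (D.V a) (f x) (D.le a ha) (D.d a))) := by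
  obtain ⟨U₀, e₀, -, hxU₀, he₀⟩ := exists_gen_cover hL
  choose V hxV hVdom using fun a : X => exists_affine_domain hY (f a)
  choose U hxU hUle using fun a : X =>
    Divisors.exists_affine_le a (U₀ a ⊓ f ⁻¹ᵁ (V a).1) ⟨hxU₀ a, hxV a⟩
  let e : ∀ a, Γ(L, (U a).1) := fun a => res L ((hUle a).trans inf_le_left) (e₀ a)
  have he : ∀ a, Gen L (U a).1 (e a) := fun a => (he₀ a).res _
  have hUV : ∀ a, (U a).1 ≤ f ⁻¹ᵁ (V a).1 := fun a => (hUle a).trans inf_le_right
  -- the generic point of each chart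
  let η : X → Y := fun a => have := hVdom a; (V a).2.fromSpec ⟨⊥, Ideal.isPrime_bot⟩
  have hηV : ∀ a, η a ∈ (V a).1 := fun a => by
    change η a ∈ ((V a).1 : Set Y)
    rw [← (V a).2.range_fromSpec]; exact ⟨_, rfl⟩
  have hηgen : ∀ a, ∀ y ∈ (V a).1, η a ⤳ y := by
    intro a y hy
    have := hVdom a
    have h1 : (⟨⊥, Ideal.isPrime_bot⟩ : PrimeSpectrum Γ(Y, (V a).1)) ⤳ (V a).2.primeIdealOf ⟨y, hy⟩ :=
      (PrimeSpectrum.le_iff_specializes _ _).1 bot_le
    have h2 := h1.map (V a).2.fromSpec.continuous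
    rwa [(V a).2.fromSpec_primeIdealOf] at h2
  have hηmax : ∀ a, ∀ z, z ⤳ η a → z = η a := fun a z hz =>
    (hz.antisymm (hηgen a z (hz.mem_open (V a).1.2 (hηV a)))).eq
  have hηeq : ∀ a (y : Y), y ∈ (V a).1 → (∀ z, z ⤳ y → z = y) → η a = y := fun a y hy hm =>
    hm _ (hηgen a y hy)
  -- trivialisations on the generic fibres
  let φ := fun (η : Y) (h : ∀ z : Y, z ⤳ η → z = η) => (htriv η h).some
  let t : ∀ (η : Y) (h : ∀ z : Y, z ⤳ η → z = η) (a : X),
      Γ(f.fiber η, f.fiberι η ⁻¹ᵁ (U a).1) := fun η h a =>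
    toFun ((φ η h).hom.app (f.fiberι η ⁻¹ᵁ (U a).1) (pullSec (f.fiberι η) L (e a)))
  have ht : ∀ η h a, IsUnit (t η h a) := fun η h a => by
    refine (gen_oneSec _).isUnit_of_smul ?_
    rw [← eq_toFun_smul_oneSec]
    exact ((he a).pull (f.fiberι η)).map (φ η h).hom
  have hrelt : ∀ η h (a b : X) (r : Γ(X, (U a).1 ⊓ (U b).1)),
      res L inf_le_left (e a) = r • res L inf_le_right (e b) →
      resX _ ((f.fiberι η).preimage_mono inf_le_left) (t η h a) =
        (f.fiberι η).app ((U a).1 ⊓ (U b).1) r *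
          resX _ ((f.fiberι η).preimage_mono inf_le_right) (t η h b) := by
    intro η h a b r hr
    have h1 := congrArg (fun m => (φ η h).hom.app _ (pullSec (f.fiberι η) L m)) hr
    simp only [pullSec_smul, ← res_pullSec, Scheme.Modules.Hom.app_smul, app_res] at h1
    have h2 := congrArg toFun h1
    simp only [toFun_smul, toFun_res] at h2
    exact h2
  choose p d hd hpd using fun a : X => exists_fibre_fraction f (U a).2 (V a).2 (hηV a) (hUV a)
    (isField_stalk_of_maximal hY _ (hηmax a)) (t (η a) (hηmax a) a)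
  -- the germs at points of generic fibres
  have key : ∀ (a : X) (η' : Y) (h' : ∀ z : Y, z ⤳ η' → z = η') (z : f.fiber η')
      (hz : f.fiberι η' z ∈ (U a).1),
      (f.fiber η').presheaf.germ _ z hz (t η' h' a) *
          (f.fiberι η').stalkMap z (f.stalkMap (f.fiberι η' z)
            (Y.presheaf.germ (V a).1 (f (f.fiberι η' z)) (hUV a hz) (d a))) =
        (f.fiberι η').stalkMap z (X.presheaf.germ (U a).1 (f.fiberι η' z) hz (p a)) := by
    intro a η' h' z hz
    have hfz : f (f.fiberι η' z) = η' := by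
      have : f.fiberι η' z ∈ f ⁻¹' {η'} := by rw [← Scheme.Hom.range_fiberι]; exact ⟨z, rfl⟩
      exact this
    obtain rfl : η a = η' := hηeq a η' (hfz ▸ hUV a hz) h'
    have h1 := congrArg ((f.fiber (η a)).presheaf.germ _ z hz) (hpd a)
    rw [map_mul] at h1
    rw [← germ_appLE (hUV a) (d a) hz]
    erw [Scheme.Hom.germ_stalkMap_apply, Scheme.Hom.germ_stalkMap_apply]
    exact h1
  have hdn : ∀ a, Divisors.IsNzdSec (d a) := by
    intro a
    have := hVdom a
    refine Divisors.isNzdSec_of_mem (V a).2 (mem_nonZeroDivisors_of_ne_zero fun h0 => ?_)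
    have := hd a
    rw [h0, map_zero] at this
    exact not_isUnit_zero this
  have hgen : ∀ (a : X) (x : X) (ha : x ∈ (U a).1), (∀ z, z ⤳ f x → z = f x) →
      IsUnit (X.presheaf.germ (U a).1 x ha (p a)) := by
    intro a x ha hm
    obtain ⟨η', hη'⟩ : ∃ η', f x = η' := ⟨_, rfl⟩
    obtain ⟨z, rfl⟩ : x ∈ Set.range (f.fiberι η') := by rw [Scheme.Hom.range_fiberι]; exact hη'
    refine isUnit_of_map_unit ((f.fiberι η').stalkMap z).hom _ ?_
    rw [← key a η' (hη' ▸ hm) z ha]
    exact ((ht η' (hη' ▸ hm) a).map ((f.fiber η').presheaf.germ _ z ha).hom).mul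
      ((IsUnit.map (f.stalkMap _).hom (Divisors.isUnit_germ_of_maximal' (hdn a) (hUV a ha) hm)).map
        ((f.fiberι η').stalkMap z).hom)
  have hpn : ∀ a, Divisors.IsNzdSec (p a) := fun a x ha =>
    mem_nonZeroDivisors_iff_right.2 fun b hb => eq_zero_of_generic f hY x b fun x' hx' hm => by
      have h1 := congrArg (X.presheaf.stalkSpecializes hx') hb
      rw [map_mul, map_zero, TopCat.Presheaf.germ_stalkSpecializes_apply] at h1
      exact (hgen a x' (hx'.mem_open (U a).1.2 ha) hm).mul_left_eq_zero.1 h1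
  have hrel : ∀ (a b : X) (r : Γ(X, (U a).1 ⊓ (U b).1)),
      res L inf_le_left (e a) = r • res L inf_le_right (e b) →
      ∀ (x : X) (ha : x ∈ (U a).1) (hb : x ∈ (U b).1),
        X.presheaf.germ (U a).1 x ha (p a) *
            f.stalkMap x (Y.presheaf.germ (V b).1 (f x) (hUV b hb) (d b)) =
          X.presheaf.germ ((U a).1 ⊓ (U b).1) x ⟨ha, hb⟩ r * (X.presheaf.germ (U b).1 x hb (p b) *
            f.stalkMap x (Y.presheaf.germ (V a).1 (f x) (hUV a ha) (d a))) := by
    intro a b r hr x ha hb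
    rw [← sub_eq_zero]
    refine eq_zero_of_generic f hY x _ fun x' hx' hm => ?_
    have ha' := hx'.mem_open (U a).1.2 ha
    have hb' := hx'.mem_open (U b).1.2 hb
    simp only [map_sub, map_mul, TopCat.Presheaf.germ_stalkSpecializes_apply,
      ← Scheme.Hom.stalkSpecializes_stalkMap_apply]
    rw [sub_eq_zero]
    obtain ⟨η', hη'⟩ : ∃ η', f x' = η' := ⟨_, rfl⟩
    have hm' : ∀ z, z ⤳ η' → z = η' := hη' ▸ hm
    obtain ⟨z, rfl⟩ : x' ∈ Set.range (f.fiberι η') := by rw [Scheme.Hom.range_fiberι]; exact hη'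
    apply (stalkMap_fiberι_bijective f η' (isField_stalk_of_maximal hY η' hm') z).1
    simp only [map_mul]
    rw [← key a η' hm' z ha', ← key b η' hm' z hb']
    have h1 := congrArg ((f.fiber η').presheaf.germ _ z
      (show z ∈ f.fiberι η' ⁻¹ᵁ ((U a).1 ⊓ (U b).1) from ⟨ha', hb'⟩)) (hrelt η' hm' a b r hr)
    rw [map_mul, germ_resX', germ_resX', ← Scheme.Hom.germ_stalkMap_apply] at h1
    rw [h1]
    ring
  refine ⟨{
    U := fun a => (U a).1
    V := fun a => (V a).1
    cover := fun x => ⟨x, hxU x⟩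
    le := hUV
    p := p
    d := d
    p_nzd := hpn
    d_nzd := hdn
    gen := hgen
    compat := fun a b x ha hb => ?_ }, e, he, hrel⟩
  obtain ⟨r, hr⟩ := (he b).exists_coeff (inf_le_right : (U a).1 ⊓ (U b).1 ≤ (U b).1)
    (res L inf_le_left (e a))
  have hu : IsUnit r := ((he b).res _).isUnit_of_smul (hr ▸ (he a).res inf_le_left)
  rw [Ideal.span_singleton_mul_span_singleton, Ideal.span_singleton_mul_span_singleton,
    hrel a b r hr x ha hb, Ideal.span_singleton_mul_left_unit (hu.map (X.presheaf.germ _ x _).hom)]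

end Groth.ParaFormal
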