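import Groth.Agent.ParaFormal.Cob
import Groth.Agent.ParaFormal.DescentAlg
import Groth.Agent.Misc5Sym.BaseChangeSquare
import Groth.Agent.QCohMod.Affine

/-!
# Cocycle sections over affine opens and flat base change
-/

set_option autoImplicit false
universe u

open CategoryTheory AlgebraicGeometry Opposite TopologicalSpace TensorProduct

namespace Groth.ParaFormal

open Groth.PicAux

variable {X X' : Scheme.{u}} (f : X' ⟶ X) [Flat f] {D : X.Opens} (hD : IsAffineOpen D)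
  {D' : X'.Opens} (hD' : IsAffineOpen D') (e : D' ≤ f ⁻¹ᵁ D)

omit [Flat f] in
theorem appLE_id_eq {Y : Scheme.{u}} {A W : Y.Opens} (h : W ≤ A) (r : Γ(Y, A)) :
    Scheme.Hom.appLE (𝟙 Y) A W h r = resX Y h r := by
  simp only [Scheme.Hom.appLE, Scheme.Hom.id_app]
  rfl

omit [Flat f] in
theorem appLE_eq_resX {W : X.Opens} {W' : X'.Opens} (h : W' ≤ f ⁻¹ᵁ W) (r : Γ(X, W)) :
    f.appLE W W' h r = resX X' h (f.app W r) := rfl

include hD hD' in
omit [Flat f] in
/-- Functions on the part of `D'` over an affine open of `D` form a tensor product. -/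
theorem exists_chart {W : X.Opens} (hW : IsAffineOpen W) (hWD : W ≤ D) :
    letI : Algebra Γ(X, D) Γ(X', D') := (f.appLE D D' e).hom.toAlgebra
    letI : Algebra Γ(X, D) Γ(X, W) := (resX X hWD).toAlgebra
    letI : Module Γ(X, D) Γ(X', D' ⊓ f ⁻¹ᵁ W) :=
      Module.compHom _ ((resX X' (inf_le_left : D' ⊓ f ⁻¹ᵁ W ≤ D')).comp (f.appLE D D' e).hom)
    ∃ φ : Γ(X', D') ⊗[Γ(X, D)] Γ(X, W) →ₗ[Γ(X, D)] Γ(X', D' ⊓ f ⁻¹ᵁ W),
      Function.Bijective φ ∧ ∀ s x, φ (s ⊗ₜ x) =
        resX X' inf_le_left s * resX X' inf_le_right (f.app W x) := by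
  letI : Algebra Γ(X, D) Γ(X', D') := (f.appLE D D' e).hom.toAlgebra
  letI : Algebra Γ(X, D) Γ(X, W) := (resX X hWD).toAlgebra
  letI mW' : Module Γ(X, D) Γ(X', D' ⊓ f ⁻¹ᵁ W) :=
    Module.compHom _ ((resX X' (inf_le_left : D' ⊓ f ⁻¹ᵁ W ≤ D')).comp (f.appLE D D' e).hom)
  have H : IsPullback f (𝟙 X') (𝟙 X) f := IsPullback.of_vert_isIso ⟨by simp⟩
  have hk := Groth.Misc5Sym.exists_sections_tensor H e hWD hD hD' hW
    (UY := D' ⊓ f ⁻¹ᵁ W) (inf_comm _ _) inf_le_right inf_le_left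
  rw [show (Scheme.Hom.appLE (𝟙 X) D W hWD).hom = resX X hWD from RingHom.ext fun r => appLE_id_eq hWD r] at hk
  obtain ⟨ε, hε⟩ := hk
  have hε' : ∀ s x, ε (s ⊗ₜ x) = resX X' inf_le_left s * resX X' inf_le_right (f.app W x) := fun s x => by
    rw [hε, appLE_id_eq, appLE_eq_resX]
  refine ⟨{ ε.toAddMonoidHom with map_smul' := fun r z => ?_ }, ε.bijective, hε'⟩
  induction z using TensorProduct.induction_on with
  | zero => simp
  | tmul s x =>
    change ε (r • s ⊗ₜ x) = resX X' inf_le_left (f.appLE D D' e r) * ε (s ⊗ₜ x)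
    rw [TensorProduct.smul_tmul', hε', hε', Algebra.smul_def, map_mul, mul_assoc]
    rfl
  | add p q hp hq =>
    change ε (r • (p + q)) = r • ε (p + q)
    rw [smul_add, map_add, map_add, smul_add]
    exact congrArg₂ (· + ·) hp hq

variable {ι : Type u} [Finite ι] (G : ι → X.Opens) (hG : ∀ a, IsAffineOpen (G a)) (hGD : ∀ a, G a ≤ D)
  (hG₂ : ∀ a b, IsAffineOpen (G a ⊓ G b))

/-- Sections of the cocycle module over `G`. -/
def IsSec {η : ∀ a b, Γ(X, G a ⊓ G b)} (x : ∀ a, Γ(X, G a)) : Prop :=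
  ∀ a b, resX X inf_le_right (x b) = resX X inf_le_left (x a) * η a b

include hD hD' e hG hGD hG₂ in
/-- Over an affine open flat over `D`, cocycle sections are combinations of pullbacks. -/
theorem sec_induction (η : ∀ a b, Γ(X, G a ⊓ G b)) (z : ∀ a, Γ(X', D' ⊓ f ⁻¹ᵁ G a))
    (hz : ∀ a b, resX X' (inf_le_inf_left _ (f.preimage_mono inf_le_right)) (z b) =
      resX X' (inf_le_inf_left _ (f.preimage_mono inf_le_left)) (z a) *
        resX X' (inf_le_right : D' ⊓ f ⁻¹ᵁ (G a ⊓ G b) ≤ _) (f.app _ (η a b)))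
    (P : (∀ a, Γ(X', D' ⊓ f ⁻¹ᵁ G a)) → Prop) (h0 : P 0) (hadd : ∀ z z', P z → P z' → P (z + z'))
    (hP : ∀ (s : Γ(X', D')) (x : ∀ a, Γ(X, G a)), IsSec (η := η) G x →
      P fun a => resX X' inf_le_left s * resX X' inf_le_right (f.app (G a) (x a))) : P z := by
  letI : Algebra Γ(X, D) Γ(X', D') := (f.appLE D D' e).hom.toAlgebra
  have : Module.Flat Γ(X, D) Γ(X', D') := HasRingHomProperty.appLE @Flat f ‹_› ⟨D, hD⟩ ⟨D', hD'⟩ e
  have hpairD : ∀ p : ι × ι, G p.1 ⊓ G p.2 ≤ D := fun p => inf_le_left.trans (hGD p.1)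
  letI : ∀ a, Algebra Γ(X, D) Γ(X, G a) := fun a => (resX X (hGD a)).toAlgebra
  letI : ∀ p : ι × ι, Algebra Γ(X, D) Γ(X, G p.1 ⊓ G p.2) := fun p => (resX X (hpairD p)).toAlgebra
  letI : ∀ a, Module Γ(X, D) Γ(X', D' ⊓ f ⁻¹ᵁ G a) := fun a =>
    Module.compHom _ ((resX X' (inf_le_left : D' ⊓ f ⁻¹ᵁ G a ≤ D')).comp (f.appLE D D' e).hom)
  letI : ∀ p : ι × ι, Module Γ(X, D) Γ(X', D' ⊓ f ⁻¹ᵁ (G p.1 ⊓ G p.2)) := fun p =>
    Module.compHom _ ((resX X' (inf_le_left : D' ⊓ f ⁻¹ᵁ (G p.1 ⊓ G p.2) ≤ D')).comp (f.appLE D D' e).hom)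
  choose φ hφ hφt using fun a => exists_chart f hD hD' e (hG a) (hGD a)
  choose ψ hψ hψt using fun p : ι × ι => exists_chart f hD hD' e (hG₂ p.1 p.2) (hpairD p)
  let d : (∀ a, Γ(X, G a)) →ₗ[Γ(X, D)] ∀ p : ι × ι, Γ(X, G p.1 ⊓ G p.2) :=
    { toFun := fun x p => resX X inf_le_right (x p.2) - resX X inf_le_left (x p.1) * η p.1 p.2
      map_add' := fun x y => by funext p; simp [map_add]; ring
      map_smul' := fun r x => by
        funext p
        change resX X inf_le_right (resX X (hGD p.2) r * x p.2) -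
          resX X inf_le_left (resX X (hGD p.1) r * x p.1) * η p.1 p.2 = resX X (hpairD p) r * _
        simp only [map_mul, resX_resX]
        ring }
  let d' : (∀ a, Γ(X', D' ⊓ f ⁻¹ᵁ G a)) →ₗ[Γ(X, D)] ∀ p : ι × ι, Γ(X', D' ⊓ f ⁻¹ᵁ (G p.1 ⊓ G p.2)) :=
    { toFun := fun z p => resX X' (inf_le_inf_left _ (f.preimage_mono inf_le_right)) (z p.2) -
        resX X' (inf_le_inf_left _ (f.preimage_mono inf_le_left)) (z p.1) *
          resX X' inf_le_right (f.app _ (η p.1 p.2))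
      map_add' := fun x y => by funext p; simp [map_add]; ring
      map_smul' := fun r x => by
        funext p
        change resX X' _ (resX X' inf_le_left (f.appLE D D' e r) * x p.2) -
          resX X' _ (resX X' inf_le_left (f.appLE D D' e r) * x p.1) * _ =
            resX X' inf_le_left (f.appLE D D' e r) * _
        simp only [map_mul, resX_resX]
        ring }
  obtain ⟨w, hw⟩ := kernel_baseChange_surjective φ ψ d d' hφ (fun p => (hψ p).1) (fun s x p => by
    simp only [d, d', LinearMap.coe_mk, AddHom.coe_mk, piCompare_tmul, hφt, hψt, map_sub, map_mul,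
      app_resX, resX_resX]
    ring) (z := z) (funext fun p => sub_eq_zero.2 (hz p.1 p.2))
  subst hw
  clear hz
  induction w using TensorProduct.induction_on with
  | zero => simpa using h0
  | tmul s x =>
    have hx : IsSec (η := η) G x.1 := fun a b => sub_eq_zero.1 (congrFun x.2 (a, b))
    convert hP s x.1 hx using 1
    funext a
    rw [LinearMap.lTensor_tmul, piCompare_tmul, hφt]
    rfl
  | add p q hp hq =>
    rw [map_add, map_add]
    exact hadd _ _ hp hq

include hD hD' e hG hGD hG₂ in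
/-- If functions on `D'` extend uniquely from the part over `G`, a compatible family over `G` is
induced from `D` up to a denominator invertible at the point. -/
theorem exists_denominator (hinj : ∀ r r' : Γ(X', D'),
      (∀ a, resX X' (inf_le_left : D' ⊓ f ⁻¹ᵁ G a ≤ D') r = resX X' inf_le_left r') → r = r')
    (hsurj : ∀ z : ∀ a, Γ(X', D' ⊓ f ⁻¹ᵁ G a),
      (∀ a b, resX X' (inf_le_inf_left _ (f.preimage_mono inf_le_right) :
          D' ⊓ f ⁻¹ᵁ (G a ⊓ G b) ≤ D' ⊓ f ⁻¹ᵁ G b) (z b) =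
        resX X' (inf_le_inf_left _ (f.preimage_mono inf_le_left)) (z a)) →
      ∃ r : Γ(X', D'), ∀ a, resX X' inf_le_left r = z a)
    (x : ∀ a, Γ(X, G a)) (hx : ∀ a b, resX X (inf_le_right : G a ⊓ G b ≤ G b) (x b) = resX X inf_le_left (x a))
    (y : X') (hy : y ∈ D') :
    ∃ (g : Γ(X, D)) (r : Γ(X, D)), f y ∈ X.basicOpen g ∧
      ∀ a, resX X (hGD a) r = resX X (hGD a) g * x a := by
  letI : Algebra Γ(X, D) Γ(X', D') := (f.appLE D D' e).hom.toAlgebra
  have : Module.Flat Γ(X, D) Γ(X', D') := HasRingHomProperty.appLE @Flat f ‹_› ⟨D, hD⟩ ⟨D', hD'⟩ e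
  have hpairD : ∀ p : ι × ι, G p.1 ⊓ G p.2 ≤ D := fun p => inf_le_left.trans (hGD p.1)
  letI : ∀ a, Algebra Γ(X, D) Γ(X, G a) := fun a => (resX X (hGD a)).toAlgebra
  letI : ∀ p : ι × ι, Algebra Γ(X, D) Γ(X, G p.1 ⊓ G p.2) := fun p => (resX X (hpairD p)).toAlgebra
  letI : ∀ a, Module Γ(X, D) Γ(X', D' ⊓ f ⁻¹ᵁ G a) := fun a =>
    Module.compHom _ ((resX X' (inf_le_left : D' ⊓ f ⁻¹ᵁ G a ≤ D')).comp (f.appLE D D' e).hom)
  letI : ∀ p : ι × ι, Module Γ(X, D) Γ(X', D' ⊓ f ⁻¹ᵁ (G p.1 ⊓ G p.2)) := fun p =>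
    Module.compHom _ ((resX X' (inf_le_left : D' ⊓ f ⁻¹ᵁ (G p.1 ⊓ G p.2) ≤ D')).comp (f.appLE D D' e).hom)
  choose φ hφ hφt using fun a => exists_chart f hD hD' e (hG a) (hGD a)
  let d : (∀ a, Γ(X, G a)) →ₗ[Γ(X, D)] ∀ p : ι × ι, Γ(X, G p.1 ⊓ G p.2) :=
    { toFun := fun x p => resX X inf_le_right (x p.2) - resX X inf_le_left (x p.1)
      map_add' := fun x y => by funext p; simp [map_add]; ring
      map_smul' := fun r x => by
        funext p
        change resX X inf_le_right (resX X (hGD p.2) r * x p.2) -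
          resX X inf_le_left (resX X (hGD p.1) r * x p.1) = resX X (hpairD p) r * _
        simp only [map_mul, resX_resX]
        ring }
  let ρ : Γ(X, D) →ₗ[Γ(X, D)] LinearMap.ker d :=
    { toFun := fun r => ⟨fun a => resX X (hGD a) r, funext fun p => by simp [d, resX_resX]⟩
      map_add' := fun r r' => Subtype.ext (funext fun a => map_add _ r r')
      map_smul' := fun r r' => Subtype.ext (funext fun a => map_mul _ r r') }
  have hk := kernel_baseChange_injective (S := Γ(X', D')) φ d (fun a => (hφ a).1)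
  have hcompat : ∀ w, ∀ a b, resX X' (inf_le_inf_left _ (f.preimage_mono inf_le_right) :
      D' ⊓ f ⁻¹ᵁ (G a ⊓ G b) ≤ D' ⊓ f ⁻¹ᵁ G b) (piCompare φ ((LinearMap.ker d).subtype.lTensor Γ(X', D') w) b) =
      resX X' (inf_le_inf_left _ (f.preimage_mono inf_le_left))
        (piCompare φ ((LinearMap.ker d).subtype.lTensor Γ(X', D') w) a) := by
    intro w a b
    induction w using TensorProduct.induction_on with
    | zero => simp
    | tmul s t =>
      have ht := congrArg (f.app _) (sub_eq_zero.1 (congrFun t.2 (a, b)))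
      simp only [app_resX] at ht
      have ht' := congrArg (resX X' (inf_le_right : D' ⊓ f ⁻¹ᵁ (G a ⊓ G b) ≤ f ⁻¹ᵁ (G a ⊓ G b))) ht
      simp only [resX_resX] at ht'
      simp only [LinearMap.lTensor_tmul, piCompare_tmul, hφt, map_mul, resX_resX, Submodule.subtype_apply]
      rw [ht']
    | add p q hp hq => simp only [map_add, Pi.add_apply, hp, hq]
  have hρ : Function.Surjective (ρ.lTensor Γ(X', D')) := fun w => by
    obtain ⟨r, hr⟩ := hsurj _ (hcompat w)
    refine ⟨r ⊗ₜ 1, hk (funext fun a => ?_)⟩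
    simp only [LinearMap.coe_comp, Function.comp_apply, LinearMap.lTensor_tmul, piCompare_tmul, hφt,
      Submodule.subtype_apply]
    rw [← hr a]
    change resX X' inf_le_left r * resX X' inf_le_right (f.app (G a) (resX X (hGD a) 1)) = _
    simp
  let q := hD'.primeIdealOf ⟨y, hy⟩
  have := q.2
  obtain ⟨g, hg, r, hr⟩ := exists_mem_range_of_baseChange ρ hρ q.asIdeal
    (⟨x, funext fun p => sub_eq_zero.2 (hx p.1 p.2)⟩ : LinearMap.ker d)
  refine ⟨g, r, ?_, fun a => congrFun (congrArg Subtype.val hr) a⟩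
  have hy' : y ∈ X'.basicOpen (f.appLE D D' e g) :=
    (Groth.QCohMod.mem_basicOpen_iff_notMem_primeIdealOf hD' _ y hy).2 hg
  rw [Scheme.Hom.appLE, CommRingCat.comp_apply, Scheme.basicOpen_res] at hy'
  rw [← Scheme.preimage_basicOpen] at hy'
  exact hy'.2

end Groth.ParaFormal
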