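/-
Good ideals of parafactorial normal local rings are principal.
-/
import Groth.Agent.ParaFormal.GoodIdeal

set_option autoImplicit false
universe u

open CategoryTheory AlgebraicGeometry TopologicalSpace IsLocalRing Groth.PicAux

namespace Groth.ParaFormal

variable {A : Type u} [CommRing A]

local notation "U" => FEt.puncturedSpec A

/-- On a parafactorial normal local ring good ideals are principal. -/
theorem isPrincipal_of_good [IsDomain A] [IsNoetherianRing A] [IsLocalRing A] [IsIntegrallyClosed A]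
    (hdim : (2 : WithBot ℕ∞) ≤ ringKrullDim A) (hpar : ParaF.IsParafactorialLocalRing A)
    (I : Ideal A) (hI : Good I) : I.IsPrincipal := by
  classical
  rw [Groth.Agent.S2824.result] at hpar
  obtain ⟨hres, hpic⟩ := hpar
  have hbij : Function.Bijective (phi U ⊤) := by
    have hb := (resX_bijective_congr le_top le_top (Scheme.Opens.ι_image_top _).symm).1 hres
    have h := hb.comp (ConcreteCategory.bijective_of_isIso (Scheme.ΓSpecIso (CommRingCat.of A)).inv)
    exact ⟨fun a b hab => h.1 ((phi_top_eq ⊤ a).symm.trans (hab.trans (phi_top_eq ⊤ b))),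
      fun y => (h.2 y).imp fun a ha => (phi_top_eq ⊤ a).trans ha⟩
  have hm0 : maximalIdeal A ≠ ⊥ := fun e => by
    rw [ringKrullDim_eq_zero_of_isField (IsLocalRing.isField_iff_maximalIdeal_eq.2 e)] at hdim
    norm_num at hdim
  let η₀ : (U : Scheme.{u}) := ⟨⟨⊥, Ideal.isPrime_bot⟩, fun hc => hm0 (congrArg PrimeSpectrum.asIdeal hc).symm⟩
  have : Nonempty (U : Scheme.{u}) := ⟨η₀⟩
  have : IsIntegral (U : Scheme.{u}) := isIntegral_of_isOpenImmersion (U).ι
  have hloc : ∀ z : (U : Scheme.{u}), ∃ f ∈ I, f ≠ 0 ∧ ∃ g, g ∉ z.1.asIdeal ∧ g ∈ maximalIdeal A ∧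
      ∀ x ∈ I, ∃ c, g * x = c * f := by
    intro z
    have hzm : z.1.asIdeal ≠ maximalIdeal A := fun e => z.2 (PrimeSpectrum.ext e)
    obtain ⟨β, hβ, s, hs, hgen⟩ := hI.loc z.1.asIdeal inferInstance hzm
    obtain ⟨t, ht, htz⟩ := SetLike.not_le_iff_exists.1 fun hle : maximalIdeal A ≤ z.1.asIdeal =>
      hzm ((le_maximalIdeal z.1.isPrime.ne_top).antisymm hle)
    refine ⟨β, hβ, fun e => ?_, s * t, fun h => (z.1.isPrime.mem_or_mem h).elim hs htz,
      Ideal.mul_mem_left _ _ ht, fun x hx => ?_⟩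
    · obtain ⟨b, hb, hb0⟩ := Submodule.exists_mem_ne_zero_of_ne_bot hI.ne_bot
      obtain ⟨c, hc⟩ := hgen b hb
      rw [e, mul_zero] at hc
      exact hb0 ((mul_eq_zero.1 hc).resolve_left fun h => hs (h ▸ z.1.asIdeal.zero_mem))
    · obtain ⟨c, hc⟩ := hgen x hx
      exact ⟨c * t, by linear_combination t * hc⟩
  choose f hf hf0 g hg hgm hgen using hloc
  let W : ((U : Scheme.{u}) : Type u) → (U : Scheme.{u}).Opens := fun a =>
    (U : Scheme.{u}).basicOpen (phi U ⊤ (g a))
  have hmemW : ∀ a z, z ∈ W a ↔ g a ∉ z.1.asIdeal := fun a z => mem_basicOpen_phi_iff (V := ⊤) trivial _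
  have hW : iSup W = ⊤ := eq_top_iff.2 fun z _ => Opens.mem_iSup.2 ⟨z, (hmemW z z).2 (hg z)⟩
  choose c hc using hgen
  have hgu : ∀ a (V : (U : Scheme.{u}).Opens), V ≤ W a → IsUnit (phi U V (g a)) := fun a V hV =>
    isUnit_phi fun z hz => (hmemW a z).1 (hV hz)
  let η : ∀ a b, Γ((U : Scheme.{u}), W a ⊓ W b) := fun a b =>
    phi U (W a ⊓ W b) (c b (f a) (hf a)) * ↑(hgu b (W a ⊓ W b) inf_le_right).unit⁻¹
  have hη : ∀ a b, η a b * phi U _ (f b) = phi U _ (f a) := by
    intro a b
    refine (hgu b (W a ⊓ W b) inf_le_right).mul_left_cancel ?_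
    calc phi U _ (g b) * (η a b * phi U _ (f b))
        = phi U _ (g b) * ↑(hgu b (W a ⊓ W b) inf_le_right).unit⁻¹ *
            (phi U _ (c b (f a) (hf a)) * phi U _ (f b)) := by simp only [η]; ring
      _ = phi U _ (g b) * phi U _ (f a) := by
        rw [IsUnit.mul_val_inv, one_mul, ← map_mul, ← hc b (f a) (hf a), map_mul]
  have hres : ∀ a b (V : (U : Scheme.{u}).Opens) (h : V ≤ W a ⊓ W b),
      resX _ h (η a b) * phi U V (f b) = phi U V (f a) := fun a b V h => by
    rw [← resX_phi h, ← resX_phi h, ← map_mul, hη]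
  have hunit : ∀ a b, IsUnit (η a b) := fun a b => by
    refine IsUnit.of_mul_eq_one (resX _ (inf_comm (W a) (W b)).le (η b a))
      (phi_mul_cancel hbij.1 (hf0 a) ?_)
    rw [mul_one, ← mul_assoc, mul_comm (phi U _ (f a)), mul_assoc, mul_comm (phi U _ (f a)),
      hres b a, hη]
  obtain ⟨L, s, hs, hL, hrel⟩ := exists_module_of_cocycle W η hW hunit fun a b d =>
    phi_mul_cancel hbij.1 (hf0 d) (by
      rw [mul_comm, hres, mul_comm, mul_assoc, hres, hres])
  obtain ⟨t, ht⟩ := nonempty_iso_structure_iff.1 (hpic L hL)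
  choose h hh using fun a => (ht.res (le_top : W a ≤ ⊤)).exists_unit (hs a)
  have hhrel : ∀ a b, resX _ (inf_le_left : W a ⊓ W b ≤ W a) (h a : Γ((U : Scheme.{u}), W a)) =
      η a b * resX _ (inf_le_right : W a ⊓ W b ≤ W b) (h b : Γ((U : Scheme.{u}), W b)) := by
    intro a b
    refine ht.smul_inj le_top ?_
    have := hrel a b
    rw [hh a, hh b] at this
    simpa only [res_smul, res_res, mul_smul] using this
  obtain ⟨t₀, ht₀, -⟩ := resX_glue W (fun _ => le_top) hW.ge
    (fun a => phi U (W a) (f a) * ↑(h a)⁻¹) fun a b => by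
      refine ((h a).isUnit.map (resX _ inf_le_left)).mul_right_cancel ?_
      rw [map_mul, map_mul, resX_phi, resX_phi, mul_assoc, ← map_mul, Units.inv_mul, map_one,
        mul_one, hhrel a b, mul_assoc, ← mul_assoc (resX _ inf_le_right _) (η a b),
        mul_comm (resX _ inf_le_right _) (η a b), mul_assoc (η a b), ← map_mul, Units.inv_mul,
        map_one, mul_one, mul_comm, hη]
  obtain ⟨T, rfl⟩ := hbij.2 t₀
  have hT : ∀ a, phi U (W a) T * (h a : Γ((U : Scheme.{u}), W a)) = phi U (W a) (f a) := by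
    intro a
    rw [← resX_phi (le_top : W a ≤ ⊤), ht₀ a, mul_assoc, Units.inv_mul, mul_one]
  refine ⟨T, le_antisymm (fun x hx => ?_) ((Ideal.span_singleton_le_iff_mem _).2 ?_)⟩
  · have hw : ∀ a, phi U (W a) T * (phi U (W a) (c a x hx) * ↑(hgu a (W a) le_rfl).unit⁻¹ *
        (h a : Γ((U : Scheme.{u}), W a))) = phi U (W a) x := by
      intro a
      calc _ = ↑(hgu a (W a) le_rfl).unit⁻¹ * (phi U (W a) (c a x hx) * phi U (W a) (f a)) := by
            rw [← hT a]; ring
        _ = _ := by rw [← map_mul, ← hc a x hx, map_mul, ← mul_assoc, IsUnit.val_inv_mul, one_mul]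
    have hT0 : T ≠ 0 := by
      rintro rfl
      have := hT η₀
      rw [map_zero, zero_mul] at this
      refine hf0 η₀ (hbij.1 ?_)
      have hne : Nonempty (W η₀) := ⟨⟨_, (hmemW _ _).2 (hg _)⟩⟩
      apply map_injective_of_isIntegral (U : Scheme.{u})
        (homOfLE (le_top : W η₀ ≤ ⊤))
      rw [map_zero]
      exact (resX_phi le_top _).trans this.symm
    obtain ⟨w₀, hw₀, -⟩ := resX_glue W (fun _ => le_top) hW.ge
      (fun a => phi U (W a) (c a x hx) * ↑(hgu a (W a) le_rfl).unit⁻¹ *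
        (h a : Γ((U : Scheme.{u}), W a))) fun a b =>
      phi_mul_cancel hbij.1 hT0 (by
        nth_rw 1 [← resX_phi (inf_le_left : W a ⊓ W b ≤ W a) T]
        nth_rw 1 [← resX_phi (inf_le_right : W a ⊓ W b ≤ W b) T]
        rw [← map_mul, ← map_mul, hw, hw, resX_phi, resX_phi])
    obtain ⟨w, rfl⟩ := hbij.2 w₀
    refine Ideal.mem_span_singleton'.2 ⟨w, hbij.1 ?_⟩
    refine resX_ext W (fun _ => le_top) hW.ge fun a => ?_
    rw [map_mul, map_mul, hw₀ a, resX_phi, resX_phi, mul_comm, hw]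
  · have hZ : maximalIdeal A ≤ ((I.colon {T}) : Ideal A).radical := by
      rw [Ideal.radical_eq_sInf]
      refine le_sInf fun q ⟨hle, hq⟩ => ?_
      by_contra hne
      have hqm : (⟨q, hq⟩ : PrimeSpectrum A) ∈ U := fun e => hne (congrArg PrimeSpectrum.asIdeal e).ge
      let a : (U : Scheme.{u}) := ⟨⟨q, hq⟩, hqm⟩
      obtain ⟨k, e, he⟩ := exists_num (g := g a) (x := ((h a)⁻¹ : (Γ((U : Scheme.{u}), W a))ˣ).1) (hgm a)
      have hTk : g a ^ k * T = e * f a := by
        have hinjW : Function.Injective (phi U (W a)) := fun u v huv => by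
          have : Nonempty (W a) := ⟨⟨a, (hmemW a a).2 (hg a)⟩⟩
          exact hbij.1 (map_injective_of_isIntegral (U : Scheme.{u}) (homOfLE (le_top : W a ≤ ⊤))
            ((resX_phi le_top u).trans (huv.trans (resX_phi le_top v).symm)))
        refine hinjW ?_
        rw [map_mul, map_mul, ← hT a, ← he]
        linear_combination (-(phi U (W a) (g a ^ k) * phi U (W a) T)) * (h a).inv_mul
      refine hg a (hq.mem_of_pow_mem k (hle (Submodule.mem_colon_singleton.2 ?_)))
      rw [smul_eq_mul, hTk]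
      exact I.mul_mem_left _ (hf a)
    obtain ⟨N, hN⟩ := Ideal.exists_pow_le_of_le_radical_of_fg hZ (IsNoetherian.noetherian _)
    have key : ∀ (N : ℕ) (v : A), (∀ c ∈ maximalIdeal A ^ N, c * v ∈ I) → v ∈ I := by
      intro N
      induction N with
      | zero => intro v hv; simpa using hv 1 (by simp)
      | succ N ih =>
        intro v hv
        refine ih v fun c hc => hI.sat _ fun d hd => ?_
        rw [← mul_assoc]
        exact hv _ (by rw [pow_succ']; exact Ideal.mul_mem_mul hd hc)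
    exact key N T fun c hc => Submodule.mem_colon_singleton.1 (hN hc)

end Groth.ParaFormal
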