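/-
Invertible modules are reflexive of rank one.
-/
import Groth.Agent.RefRank.Divisor
import Groth.Agent.RefRank.CDivNormal
import Groth.Agent.EulerDeg.LineBundle
import Groth.Agent.Variety2.Normal

set_option autoImplicit false
universe u

open CategoryTheory AlgebraicGeometry TopologicalSpace

namespace Groth.ParaFormal

open Groth.RefRank

variable {X : Scheme.{u}} [IsIntegral X] [IsLocallyNoetherian X]

theorem isRef1_of_isInvertible' {L : X.Modules} (hL : PicF.IsInvertible L) : RefHull.IsRef1 L := by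
  have hc : Coh.IsCoh L := Groth.EulerDeg.isCoh_of_isInvertible hL
  obtain ⟨w, hw⟩ := exists_isStalkBasis_of_isInvertible hL (genericPoint ↥X)
  refine isRef1_of hc ((isReflexive_iff_forall hc).2 fun x => ?_) ⟨w, hw⟩
  obtain ⟨t, ht⟩ := exists_isStalkBasis_of_isInvertible hL x
  let e := LinearEquiv.ofBijective (LinearMap.toSpanSingleton (X.presheaf.stalk x) _ t) ht
  have := Module.Free.of_equiv e
  have := Module.Finite.equiv e
  exact inferInstanceAs (Module.IsReflexive (X.presheaf.stalk x) (L.presheaf.stalk x))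

open Groth.RefRank.CDivNormal in
/-- A local ring is factorial when prime cycles through it have local equations. -/
theorem ufd_of_local_equation (hX : Pi1.IsNormalScheme X) (y : X)
    (h : ∀ x₀ : X, x₀ ⤳ y → Order.coheight x₀ = 1 → ∃ f : X.functionField, f ≠ 0 ∧
      ∀ x : X, x ⤳ y → Order.coheight x = 1 →
        Scheme.ord f x = @ite ℤ (x = x₀) (Classical.propDecidable _) 1 0) :
    UniqueFactorizationMonoid (X.presheaf.stalk y) := by
  classical
  refine UniqueFactorizationMonoid.iff_exists_prime_mem_of_isPrime.2 fun P hP hPp => ?_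
  obtain ⟨c, hcP, hc0⟩ := Submodule.exists_mem_ne_zero_of_ne_bot hP
  obtain ⟨Q, hQ, hQP⟩ := Ideal.exists_minimalPrimes_le ((Ideal.span_singleton_le_iff_mem _).2 hcP)
  have := hQ.1.1
  have hQ1 : Q.height = 1 := by
    refine le_antisymm (Ideal.height_le_one_of_isPrincipal_of_mem_minimalPrimes _ Q hQ)
      (Order.one_le_iff_ne_zero.2 fun h0 => hc0 ?_)
    simpa [Ideal.height_eq_zero_iff_eq_bot.1 h0] using hQ.1.2 (Ideal.mem_span_singleton_self c)
  obtain ⟨x₀, h₀, hu, hdim⟩ := exists_generization_of_prime Q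
  rw [hQ1] at hdim
  have hx₀ : Order.coheight x₀ = 1 := (coheight_eq_one_iff x₀).2 hdim
  obtain ⟨f, hf0, hord⟩ := h x₀ h₀ hx₀
  obtain ⟨a, ha⟩ := mem_range_of_ord hX y hf0 fun x hxy hx => by
    rw [hord x hxy hx]; split_ifs <;> decide
  have ha0 : a ≠ 0 := fun e => hf0 (by rw [← ha, e, map_zero])
  have haQ : a ∈ Q := by
    by_contra haQ
    have h1 := hord x₀ h₀ hx₀
    rw [if_pos rfl, ← ha, ← algebraMap_rspec h₀ a, ord_of_isUnit' hx₀ ((hu a).2 haQ)] at h1
    exact zero_ne_one h1
  have hQeq : Q = Ideal.span {a} := by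
    refine le_antisymm (fun b hb => ?_) ((Ideal.span_singleton_le_iff_mem _).2 haQ)
    rw [Ideal.mem_span_singleton]
    rcases eq_or_ne b 0 with rfl | hb0
    · exact dvd_zero a
    have hb' : algebraMap (X.presheaf.stalk y) X.functionField b ≠ 0 := fun e =>
      hb0 (IsFractionRing.injective (X.presheaf.stalk y) X.functionField (e.trans (map_zero _).symm))
    obtain ⟨r, hr⟩ := mem_range_of_ord hX y (div_ne_zero hb' hf0) fun x hxy hx => by
      have hb1 : rspec hxy b ≠ 0 := fun e => hb' (by rw [← algebraMap_rspec hxy b, e, map_zero])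
      rw [div_eq_mul_inv, ord_mul' hx hb' (inv_ne_zero hf0), ord_inv' hx hf0,
        hord x hxy hx, ← algebraMap_rspec hxy b]
      have h2 := ord_algebraMap_nonneg hx hb1
      split_ifs with hxx
      · subst hxx
        have h3 : Scheme.ord (algebraMap (X.presheaf.stalk x) X.functionField (rspec hxy b)) x ≠ 0 :=
          fun e => (hu b).1 (isUnit_of_ord_eq_zero hx hX hb1 e) hb
        omega
      · omega
    refine ⟨r, IsFractionRing.injective (X.presheaf.stalk y) X.functionField ?_⟩
    rw [map_mul, hr, ha, mul_div_cancel₀ _ hf0]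
  exact ⟨a, hQP haQ, (Ideal.span_singleton_prime ha0).1 (hQeq ▸ hQ.1.1)⟩

end Groth.ParaFormal
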