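/-
Principal prime cycles, factoriality and triviality of the Picard group.
-/
import Groth.Agent.RefRank.CDivNormal
import Groth.Agent.ParaFormal.Cob
import Groth.Agent.ParaFormal.DescentDiv
import Groth.Agent.PicAux.UFDExtend
import Groth.Agent.Variety2.Normal
import Groth.Agent.S1692

set_option autoImplicit false
universe u

open CategoryTheory AlgebraicGeometry TopologicalSpace IsLocalRing Opposite
open Groth.PicAux Groth.RefRank.CDivNormal

namespace Groth.ParaFormal.Principal

variable {X : Scheme.{u}} [IsIntegral X]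

theorem gen_mem {V : X.Opens} (hV : (V : Set X).Nonempty) : genericPoint ↥X ∈ V :=
  (genericPoint_spec ↥X).mem_open_set_iff V.2 |>.2 (by simpa using hV)

theorem res_ff {V W : X.Opens} (h : W ≤ V) [Nonempty V] [Nonempty W] (a : Γ(X, V)) :
    X.germToFunctionField W (resX X h a) = X.germToFunctionField V a :=
  germ_resX X h _ _ a
where
  germ_resX (X : Scheme.{u}) {U V : X.Opens} (h : V ≤ U) (x : X) (hx : x ∈ V) (r : Γ(X, U)) :
      X.presheaf.germ V x hx (resX X h r) = X.presheaf.germ U x (h hx) r :=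
    TopCat.Presheaf.germ_res_apply _ _ _ _ _

theorem ff_ext {W : X.Opens} {a b : Γ(X, W)}
    (h : ∀ [Nonempty W], X.germToFunctionField W a = X.germToFunctionField W b) : a = b := by
  by_cases hW : Nonempty W
  · exact X.germToFunctionField_injective W h
  · refine TopCat.Presheaf.section_ext X.sheaf W a b fun x hx => absurd ⟨⟨x, hx⟩⟩ hW

theorem ord_ff_nonneg [IsLocallyNoetherian X] {V : X.Opens} [Nonempty V] (a : Γ(X, V))
    (ha : X.germToFunctionField V a ≠ 0) {x : X} (hx : Order.coheight x = 1) (hxV : x ∈ V) :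
    0 ≤ Scheme.ord (X.germToFunctionField V a) x := by
  rw [← Scheme.algebraMap_germ_eq_germToFunctionField _ hxV] at ha ⊢
  exact ord_algebraMap_nonneg hx fun e => ha (by rw [e, map_zero])

theorem ord_ff_unit [IsLocallyNoetherian X] {V : X.Opens} [Nonempty V] {a : Γ(X, V)} (ha : IsUnit a)
    {x : X} (hx : Order.coheight x = 1) (hxV : x ∈ V) :
    Scheme.ord (X.germToFunctionField V a) x = 0 := by
  rw [← Scheme.algebraMap_germ_eq_germToFunctionField _ hxV]
  exact ord_of_isUnit' hx (ha.map (X.presheaf.germ V x hxV).hom)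

theorem ord_zpow [IsLocallyNoetherian X] {f : X.functionField} (hf : f ≠ 0) {x : X}
    (hx : Order.coheight x = 1) (n : ℤ) : Scheme.ord (f ^ n) x = n * Scheme.ord f x := by
  induction n with
  | zero => simp [ord_one' hx]
  | succ i ih => rw [zpow_add_one₀ hf, ord_mul' hx (zpow_ne_zero _ hf) hf, ih]; ring
  | pred i ih =>
    rw [zpow_sub_one₀ hf, ord_mul' hx (zpow_ne_zero _ hf) (inv_ne_zero hf), ih, ord_inv' hx hf]; ring

theorem ord_prod [IsLocallyNoetherian X] {κ : Type*} (s : Finset κ) (f : κ → X.functionField)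
    (hf : ∀ i, f i ≠ 0) {x : X} (hx : Order.coheight x = 1) :
    Scheme.ord (∏ i ∈ s, f i) x = ∑ i ∈ s, Scheme.ord (f i) x := by
  classical
  induction s using Finset.induction with
  | empty => simp [ord_one' hx]
  | insert a s ha ih =>
    rw [Finset.prod_insert ha, Finset.sum_insert ha,
      ord_mul' hx (hf a) (Finset.prod_ne_zero_iff.2 fun i _ => hf i), ih]

theorem finite_ord [IsLocallyNoetherian X] [CompactSpace X] {f : X.functionField} (hf : f ≠ 0) :
    {x : X | Order.coheight x = 1 ∧ Scheme.ord f x ≠ 0}.Finite := by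
  have := (Groth.Agent.S1692.result X f hf).finite_of_compact (fun ξ => ⟨ξ.1, subset_closure rfl⟩)
  exact Set.finite_coe_iff.1 (Set.finite_univ_iff.1 this)

omit [IsIntegral X] in
theorem coheight_ne_of_specializes [IsLocallyNoetherian X] {x y : X} (h : x ⤳ y)
    (hx : Order.coheight x = 1) (hy : Order.coheight y = 1) : x = y := by
  by_contra hne
  have := ParaFormal.dim_lt_of_specializes h hne
  rw [(Groth.RefRank.coheight_eq_one_iff x).1 hx, (Groth.RefRank.coheight_eq_one_iff y).1 hy] at this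
  exact lt_irrefl _ this

theorem exists_unit_section [IsLocallyNoetherian X] (hX : Pi1.IsNormalScheme X) {V : X.Opens}
    [Nonempty V] {h : X.functionField} (hh : h ≠ 0)
    (hord : ∀ x ∈ V, Order.coheight x = 1 → Scheme.ord h x = 0) :
    ∃ w : Γ(X, V), IsUnit w ∧ X.germToFunctionField V w = h := by
  obtain ⟨a, ha⟩ := Variety2.exists_section_of_forall_stalk V h fun y hy =>
    mem_range_of_ord hX y hh fun x hxy hx => (hord x (hxy.mem_open V.2 hy) hx).ge
  obtain ⟨b, hb⟩ := Variety2.exists_section_of_forall_stalk V h⁻¹ fun y hy =>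
    mem_range_of_ord hX y (inv_ne_zero hh) fun x hxy hx => by
      rw [ord_inv' hx hh, hord x (hxy.mem_open V.2 hy) hx, neg_zero]
  refine ⟨a, IsUnit.of_mul_eq_one (b := b) (X.germToFunctionField_injective V ?_), ha⟩
  rw [map_mul, map_one, ha, hb, mul_inv_cancel₀ hh]

variable (X) in
/-- Every prime cycle of codimension one is cut out by a global function. -/
def Hyp1 : Prop :=
  ∀ ζ : ↥X, Order.coheight ζ = 1 → ∃ g : Γ(X, ⊤),
    (∀ (x : ↥X) (h : ζ ⤳ x),
      (IsLocalRing.maximalIdeal ↑(X.presheaf.stalk ζ)).comap (X.presheaf.stalkSpecializes h).hom =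
        Ideal.span {X.presheaf.germ ⊤ x trivial g}) ∧
    ∀ x : ↥X, ¬ ζ ⤳ x → IsUnit (X.presheaf.germ ⊤ x trivial g)

variable [IsLocallyNoetherian X]

theorem ufd_of_hyp1 (h1 : Hyp1 X) (x : X) : UniqueFactorizationMonoid (X.presheaf.stalk x) := by
  refine UniqueFactorizationMonoid.iff_exists_prime_mem_of_isPrime.2 fun P hP hPp => ?_
  obtain ⟨c, hcP, hc0⟩ := Submodule.exists_mem_ne_zero_of_ne_bot hP
  obtain ⟨Q, hQ, hQP⟩ := Ideal.exists_minimalPrimes_le ((Ideal.span_singleton_le_iff_mem _).2 hcP)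
  have := hQ.1.1
  have hQ0 : Q ≠ ⊥ := fun e => hc0 (by simpa [e] using hQ.1.2 (Ideal.mem_span_singleton_self c))
  have hQ1 : Q.height = 1 := by
    refine le_antisymm (Ideal.height_le_one_of_isPrincipal_of_mem_minimalPrimes _ Q hQ)
      (Order.one_le_iff_ne_zero.2 fun h0 => hQ0 (Ideal.height_eq_zero_iff_eq_bot.1 h0))
  obtain ⟨ζ, hζ, hζQ⟩ := ParaFormal.exists_spec_comap_eq x Q
  have hζ1 : Order.coheight ζ = 1 := by
    have h := height_primeAt (X := X) hζ
    rw [show primeAt hζ = Q from hζQ, hQ1] at h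
    exact (Groth.RefRank.coheight_eq_one_iff ζ).2 h.symm
  obtain ⟨g, hg, -⟩ := h1 ζ hζ1
  have e := (hg x hζ).symm.trans hζQ
  have hg0 : X.presheaf.germ ⊤ x trivial g ≠ 0 := fun h0 => hQ0 (by rw [← e, h0, Ideal.span_singleton_zero])
  exact ⟨_, hQP (e ▸ Ideal.mem_span_singleton_self _),
    (Ideal.span_singleton_prime hg0).1 (by rw [e]; infer_instance)⟩

omit [IsLocallyNoetherian X] in
theorem normal_of_ufd (h : ∀ x : X, UniqueFactorizationMonoid (X.presheaf.stalk x)) :
    Pi1.IsNormalScheme X := fun x => have := h x; ⟨inferInstance, inferInstance⟩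

theorem ord_of_hyp1 (h1 : Hyp1 X) {ζ : X} (hζ : Order.coheight ζ = 1) :
    ∃ f : X.functionField, f ≠ 0 ∧ Scheme.ord f ζ = 1 ∧
      ∀ x : X, x ≠ ζ → Order.coheight x = 1 → Scheme.ord f x = 0 := by
  obtain ⟨g, hg, hg'⟩ := h1 ζ hζ
  have hmax : maximalIdeal (X.presheaf.stalk ζ) = Ideal.span {X.presheaf.germ ⊤ ζ trivial g} := by
    rw [← hg ζ specializes_rfl, TopCat.Presheaf.stalkSpecializes_refl]
    rfl
  have hne : X.presheaf.germ ⊤ ζ trivial g ≠ 0 := fun h0 => by
    have h : IsField (X.presheaf.stalk ζ) := IsLocalRing.isField_iff_maximalIdeal_eq.2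
      (by rw [hmax, h0, Ideal.span_singleton_zero])
    have := (Groth.RefRank.coheight_eq_one_iff ζ).1 hζ
    rw [ringKrullDim_eq_zero_of_isField h] at this
    exact zero_ne_one this
  have : Nonempty (⊤ : X.Opens) := ⟨⟨ζ, trivial⟩⟩
  refine ⟨X.germToFunctionField ⊤ g, ?_, ?_, fun x hne' hx => ?_⟩
  · rw [← Scheme.algebraMap_germ_eq_germToFunctionField _ (show ζ ∈ (⊤ : X.Opens) from trivial)]
    exact fun e => hne (IsFractionRing.injective _ X.functionField (e.trans (map_zero _).symm))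
  · rw [← Scheme.algebraMap_germ_eq_germToFunctionField _ (show ζ ∈ (⊤ : X.Opens) from trivial)]
    exact ord_uniformizer hζ hne hmax
  · rw [← Scheme.algebraMap_germ_eq_germToFunctionField _ (show x ∈ (⊤ : X.Opens) from trivial)]
    exact ord_of_isUnit' hx (hg' x fun h => hne' (coheight_ne_of_specializes h hζ hx).symm)

/-- Principal prime cycles kill the Picard group. -/
theorem trivial_of_ord [CompactSpace X] (hX : Pi1.IsNormalScheme X)
    (h2 : ∀ x₀ : ↥X, Order.coheight x₀ = 1 → ∃ f : ↑X.functionField, f ≠ 0 ∧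
      Scheme.ord f x₀ = 1 ∧ ∀ x : ↥X, x ≠ x₀ → Order.coheight x = 1 → Scheme.ord f x = 0)
    (L : X.Modules) (hL : PicF.IsInvertible L) : Nonempty (L ≅ Coh.structureModule X) := by
  classical
  obtain ⟨V, e, hV, hmem, he⟩ := exists_gen_cover hL
  have hne : ∀ a, Nonempty (V a) := fun a => ⟨⟨a, hmem a⟩⟩
  have hne2 : ∀ a b, Nonempty (V a ⊓ V b : X.Opens) := fun a b =>
    ⟨⟨genericPoint ↥X, gen_mem ⟨a, hmem a⟩, gen_mem ⟨b, hmem b⟩⟩⟩
  choose c hc using fun a b =>
    (he b).exists_coeff (inf_le_right : V a ⊓ V b ≤ V b) (res L inf_le_left (e a))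
  have hcu : ∀ a b, IsUnit (c a b) := fun a b =>
    ((he b).res inf_le_right).isUnit_of_smul (hc a b ▸ (he a).res inf_le_left)
  let γ : X → X → X.functionField := fun a b => X.germToFunctionField (V a ⊓ V b) (c a b)
  have hγ0 : ∀ a b, γ a b ≠ 0 := fun a b => ((hcu a b).map _).ne_zero
  have hγord : ∀ a b x, x ∈ V a → x ∈ V b → Order.coheight x = 1 → Scheme.ord (γ a b) x = 0 :=
    fun a b x ha hb hx => ord_ff_unit (hcu a b) hx ⟨ha, hb⟩
  have hγmul : ∀ a b d, γ a d = γ a b * γ b d := by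
    intro a b d
    let W := V a ⊓ V b ⊓ V d
    have : Nonempty W :=
      ⟨⟨genericPoint ↥X, ⟨gen_mem ⟨a, hmem a⟩, gen_mem ⟨b, hmem b⟩⟩, gen_mem ⟨d, hmem d⟩⟩⟩
    have hcc : resX X (inf_le_inf_right _ inf_le_left : W ≤ V a ⊓ V d) (c a d) =
        resX X (inf_le_left : W ≤ V a ⊓ V b) (c a b) *
          resX X (inf_le_inf_right _ inf_le_right : W ≤ V b ⊓ V d) (c b d) := by
      refine (he d).smul_inj inf_le_right ?_
      have h1 := congrArg (res L (inf_le_inf_right _ inf_le_left : W ≤ V a ⊓ V d)) (hc a d)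
      have h2 := congrArg (res L (inf_le_left : W ≤ V a ⊓ V b)) (hc a b)
      have h3 := congrArg (res L (inf_le_inf_right _ inf_le_right : W ≤ V b ⊓ V d)) (hc b d)
      simp only [res_smul, res_res] at h1 h2 h3 ⊢
      rw [mul_smul, ← h3, ← h2, ← h1]
    have := congrArg (X.germToFunctionField W) hcc
    rwa [map_mul, res_ff, res_ff, res_ff] at this
  let a₀ : X := genericPoint ↥X
  let D : X → ℤ := fun x => if Order.coheight x = 1 then Scheme.ord (γ x a₀) x else 0
  have hD : ∀ a x, x ∈ V a → Order.coheight x = 1 → Scheme.ord (γ a a₀) x = D x := fun a x ha hx => by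
    rw [hγmul a x a₀, ord_mul' hx (hγ0 _ _) (hγ0 _ _), hγord a x x ha (hmem x) hx, zero_add,
      show D x = _ from if_pos hx]
  obtain ⟨t, ht⟩ := CompactSpace.elim_nhds_subcover (fun a : X => (V a : Set X))
    fun a => (V a).2.mem_nhds (hmem a)
  have hfin : {x : X | D x ≠ 0}.Finite := by
    refine (t.finite_toSet.biUnion fun a _ => finite_ord (hγ0 a a₀)).subset fun x hx => ?_
    have hx1 : Order.coheight x = 1 := by_contra fun h => hx (if_neg h)
    obtain ⟨a, hat, hxa⟩ := Set.mem_iUnion₂.1 (ht.ge (Set.mem_univ x))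
    exact Set.mem_iUnion₂.2 ⟨a, hat, hx1, fun h => hx ((hD a x hxa hx1).symm.trans h)⟩
  choose! F hF0 hF1 hF2 using h2
  let G : X → X.functionField := fun ζ => if Order.coheight ζ = 1 then F ζ ^ D ζ else 1
  have hG0 : ∀ ζ, G ζ ≠ 0 := fun ζ => by
    simp only [G]; split_ifs with h
    exacts [zpow_ne_zero _ (hF0 ζ h), one_ne_zero]
  set f := ∏ ζ ∈ hfin.toFinset, G ζ with hf
  have hf0 : f ≠ 0 := Finset.prod_ne_zero_iff.2 fun ζ _ => hG0 ζ
  have hford : ∀ x, Order.coheight x = 1 → Scheme.ord f x = D x := by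
    intro x hx
    rw [hf, ord_prod _ _ hG0 hx]
    have : ∀ ζ ∈ hfin.toFinset, Scheme.ord (G ζ) x = if ζ = x then D ζ else 0 := by
      intro ζ hζ
      have hζ1 : Order.coheight ζ = 1 := by_contra fun h => hfin.mem_toFinset.1 hζ (if_neg h)
      rw [show G ζ = F ζ ^ D ζ from if_pos hζ1, ord_zpow (hF0 ζ hζ1) hx]
      split_ifs with h
      · subst h; rw [hF1 ζ hx, mul_one]
      · rw [hF2 ζ hζ1 x (Ne.symm h) hx, mul_zero]
    rw [Finset.sum_congr rfl this, Finset.sum_ite_eq']
    split_ifs with h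
    · rfl
    · exact (not_not.1 fun h' => h (hfin.mem_toFinset.2 h')).symm
  choose w hwu hw using fun a => exists_unit_section hX (V := V a)
    (h := γ a a₀ / f) (div_ne_zero (hγ0 _ _) hf0) fun x hxa hx => by
      rw [div_eq_mul_inv, ord_mul' hx (hγ0 _ _) (inv_ne_zero hf0), ord_inv' hx hf0, hford x hx,
        hD a x hxa hx, add_neg_cancel]
  obtain ⟨s, hs, -⟩ := res_glue (M := L) V (fun _ => (le_top : _ ≤ (⊤ : X.Opens))) hV.ge
    (fun a => (↑(hwu a).unit⁻¹ : Γ(X, V a)) • e a) fun a b => by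
      simp only [res_smul]
      rw [hc a b, ← mul_smul]
      congr 1
      refine ((hwu a).map (resX X inf_le_left)).mul_left_cancel
        (((hwu b).map (resX X (inf_le_right : V a ⊓ V b ≤ V b))).mul_left_cancel ?_)
      have hrel : resX X (inf_le_left : V a ⊓ V b ≤ V a) (w a) = c a b * resX X inf_le_right (w b) := by
        refine ff_ext ?_
        intro _
        rw [map_mul, res_ff, res_ff, hw, hw, hγmul a b a₀]
        simp only [γ]; ring
      have e1 : resX X (inf_le_left : V a ⊓ V b ≤ V a) (w a) *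
          resX X inf_le_left (↑(hwu a).unit⁻¹ : Γ(X, V a)) = 1 := by
        rw [← map_mul, IsUnit.mul_val_inv, map_one]
      have e2 : resX X (inf_le_right : V a ⊓ V b ≤ V b) (w b) *
          resX X inf_le_right (↑(hwu b).unit⁻¹ : Γ(X, V b)) = 1 := by
        rw [← map_mul, IsUnit.mul_val_inv, map_one]
      linear_combination (resX X (inf_le_right : V a ⊓ V b ≤ V b) (w b) * c a b) * e1 -
        resX X (inf_le_left : V a ⊓ V b ≤ V a) (w a) * e2 - hrel
  refine nonempty_iso_structure_iff.2 ⟨s, Gen.of_cover V (fun _ => le_top) hV.ge fun a => ?_⟩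
  rw [hs a]
  exact (he a).smul_unit (Units.isUnit _)

omit [IsIntegral X] in
theorem trivial_restrict (hufd : ∀ x : X, UniqueFactorizationMonoid (X.presheaf.stalk x))
    (hpic : ∀ L : X.Modules, PicF.IsInvertible L → Nonempty (L ≅ Coh.structureModule X))
    (U : X.Opens) (L : (U : Scheme.{u}).Modules) (hL : PicF.IsInvertible L) :
    Nonempty (L ≅ Coh.structureModule (U : Scheme.{u})) := by
  obtain ⟨L', hL', ⟨i⟩⟩ := exists_extension_module U L hL fun x _ => hufd x
  obtain ⟨t, ht⟩ := nonempty_iso_structure_iff.1 (hpic L' hL')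
  refine nonempty_iso_structure_iff.2 ⟨i.hom.app ⊤ (res L' le_top t : Γ(L', U.ι ''ᵁ ⊤)), ?_⟩
  exact (Gen.to_restrict (ht.res (le_top : U.ι ''ᵁ ⊤ ≤ ⊤))).map i.hom

/-- Triviality of all Picard groups of opens makes prime cycles principal. -/
theorem ord_of_trivial [CompactSpace X] (hX : Pi1.IsNormalScheme X)
    (h4 : ∀ (U : X.Opens) (L : (U : Scheme.{u}).Modules),
      PicF.IsInvertible L → Nonempty (L ≅ Coh.structureModule (U : Scheme.{u})))
    {ζ : X} (hζ : Order.coheight ζ = 1) :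
    ∃ f : X.functionField, f ≠ 0 ∧ Scheme.ord f ζ = 1 ∧
      ∀ x : X, x ≠ ζ → Order.coheight x = 1 → Scheme.ord f x = 0 := by
  classical
  let δ : X → ℤ := fun x => if x = ζ then 1 else 0
  let T : Set X := {y | ∃ h : X.functionField, h ≠ 0 ∧
    ∀ x, x ⤳ y → Order.coheight x = 1 → Scheme.ord h x = δ x}
  have hnhd : ∀ y ∈ T, ∃ (V : X.Opens) (h : X.functionField), y ∈ V ∧ h ≠ 0 ∧ (V : Set X) ⊆ T ∧
      ∀ x ∈ V, Order.coheight x = 1 → Scheme.ord h x = δ x := by
    rintro y ⟨h, hh0, hh⟩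
    let B : Set X := {x | Order.coheight x = 1 ∧ Scheme.ord h x ≠ δ x}
    have hB : B.Finite := ((finite_ord hh0).union (Set.finite_singleton ζ)).subset fun x hx => by
      by_cases hxz : x = ζ
      · exact Or.inr hxz
      · exact Or.inl ⟨hx.1, fun h0 => hx.2 (h0.trans (if_neg hxz).symm)⟩
    have hcl : IsClosed (⋃ x ∈ B, closure ({x} : Set X)) :=
      hB.isClosed_biUnion fun _ _ => isClosed_closure
    let V : X.Opens := ⟨_, hcl.isOpen_compl⟩
    have hgood : ∀ x ∈ V, Order.coheight x = 1 → Scheme.ord h x = δ x := fun x hxV hx =>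
      by_contra fun hne => hxV (Set.mem_iUnion₂.2 ⟨x, ⟨hx, hne⟩, subset_closure rfl⟩)
    refine ⟨V, h, ?_, hh0, fun z hz => ⟨h, hh0, fun x hxz hx => hgood x (hxz.mem_open V.2 hz) hx⟩,
      hgood⟩
    intro hmem
    obtain ⟨x, hxB, hxy⟩ := Set.mem_iUnion₂.1 hmem
    exact hxB.2 (hh x (specializes_iff_mem_closure.2 hxy) hxB.1)
  have hTo : IsOpen T := isOpen_iff_mem_nhds.2 fun y hy => by
    obtain ⟨V, h, hyV, -, hVT, -⟩ := hnhd y hy
    exact Filter.mem_of_superset (V.2.mem_nhds hyV) hVT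
  have hcod : ∀ y : X, Order.coheight y = 1 → y ∈ T := by
    intro y hy
    have hy' := (Groth.RefRank.coheight_eq_one_iff y).1 hy
    by_cases hyz : y = ζ
    · subst hyz
      have := Groth.RefRank.isDiscreteValuationRing_stalk hX hy'
      obtain ⟨π, hπ⟩ := IsDiscreteValuationRing.exists_irreducible (X.presheaf.stalk y)
      refine ⟨algebraMap (X.presheaf.stalk y) X.functionField π,
        fun e => hπ.ne_zero (IsFractionRing.injective _ X.functionField (e.trans (map_zero _).symm)),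
        fun x hxy hx => ?_⟩
      obtain rfl := coheight_ne_of_specializes hxy hx hy
      rw [show δ x = 1 from if_pos rfl]
      exact ord_uniformizer hx hπ.ne_zero hπ.maximalIdeal_eq
    · refine ⟨1, one_ne_zero, fun x hxy hx => ?_⟩
      obtain rfl := coheight_ne_of_specializes hxy hx hy
      rw [ord_one' hx, show δ x = 0 from if_neg hyz]
  let P : X.Opens := ⟨T, hTo⟩
  choose V h hmem hh0 hVT hord using fun y : P => hnhd y.1 y.2
  have hne2 : ∀ a b, Nonempty (V a ⊓ V b : X.Opens) := fun a b =>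
    ⟨⟨genericPoint ↥X, gen_mem ⟨a.1, hmem a⟩, gen_mem ⟨b.1, hmem b⟩⟩⟩
  choose η hηu hη using fun a b => exists_unit_section hX (V := V a ⊓ V b) (h := h a / h b)
    (div_ne_zero (hh0 a) (hh0 b)) fun x hx hx1 => by
      rw [div_eq_mul_inv, ord_mul' hx1 (hh0 a) (inv_ne_zero (hh0 b)), ord_inv' hx1 (hh0 b),
        hord a x hx.1 hx1, hord b x hx.2 hx1, add_neg_cancel]
  have hco : IsCocycle V η := by
    refine ⟨hηu, fun a b c W ha hb hc => ff_ext ?_⟩
    intro _
    rw [map_mul, res_ff, res_ff, res_ff, hη, hη, hη, div_mul_div_cancel₀ (hh0 b)]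
  have hcov : P ≤ iSup V := fun y hy => Opens.mem_iSup.2 ⟨⟨y, hy⟩, hmem _⟩
  obtain ⟨L, e, hF, hL⟩ := exists_frames P hcov hco
  obtain ⟨s, hs⟩ := nonempty_iso_structure_iff.1 (h4 P L hL)
  obtain ⟨k, hku, hk⟩ := hF.cob_of_gen (fun a => hVT a) (O := ⊤) (s := res L le_top s) (hs.res le_top)
  let z : P := ⟨ζ, hcod ζ hζ⟩
  have hneT : ∀ a, Nonempty (V a ⊓ ⊤ : X.Opens) := fun a => ⟨⟨a.1, hmem a, trivial⟩⟩
  let φ : P → X.functionField := fun a => X.germToFunctionField (V a ⊓ ⊤) (k a) * h a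
  have hφ : ∀ a b, φ a = φ b := by
    intro a b
    have := congrArg (X.germToFunctionField (V a ⊓ V b)) (hk a b (V a ⊓ V b) inf_le_left inf_le_right le_top)
    rw [map_mul, res_ff, res_ff, res_ff, hη] at this
    simp only [φ]
    rw [this]
    field_simp [hh0 b]
  have hφ0 : φ z ≠ 0 := mul_ne_zero ((hku z).map _).ne_zero (hh0 z)
  have hφord : ∀ x, Order.coheight x = 1 → Scheme.ord (φ z) x = δ x := by
    intro x hx
    rw [hφ z ⟨x, hcod x hx⟩, ord_mul' hx ((hku _).map _).ne_zero (hh0 _),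
      ord_ff_unit (hku _) hx ⟨hmem _, trivial⟩, hord ⟨x, hcod x hx⟩ x (hmem ⟨x, hcod x hx⟩) hx, zero_add]
  exact ⟨φ z, hφ0, (hφord ζ hζ).trans (if_pos rfl), fun x hne hx => (hφord x hx).trans (if_neg hne)⟩

theorem hyp1_of_ord (hX : Pi1.IsNormalScheme X)
    (h2 : ∀ x₀ : ↥X, Order.coheight x₀ = 1 → ∃ f : ↑X.functionField, f ≠ 0 ∧
      Scheme.ord f x₀ = 1 ∧ ∀ x : ↥X, x ≠ x₀ → Order.coheight x = 1 → Scheme.ord f x = 0) :
    Hyp1 X := by
  intro ζ hζ
  obtain ⟨f, hf0, hf1, hf2⟩ := h2 ζ hζ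
  have hnn : ∀ x, Order.coheight x = 1 → 0 ≤ Scheme.ord f x := fun x hx => by
    by_cases h : x = ζ
    · subst h; rw [hf1]; exact zero_le_one
    · rw [hf2 x h hx]
  have : Nonempty (⊤ : X.Opens) := ⟨⟨ζ, trivial⟩⟩
  obtain ⟨g, hg⟩ := Variety2.exists_section_of_forall_stalk ⊤ f fun y _ =>
    mem_range_of_ord hX y hf0 fun x _ hx => hnn x hx
  have hgx : ∀ x : X, algebraMap (X.presheaf.stalk x) X.functionField (X.presheaf.germ ⊤ x trivial g) = f :=
    fun x => (Scheme.algebraMap_germ_eq_germToFunctionField _ (show x ∈ (⊤ : X.Opens) from trivial) g).trans hg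
  refine ⟨g, fun x h => ?_, fun x h => ?_⟩
  · change primeAt h = _
    refine le_antisymm (fun a ha => ?_) ((Ideal.span_singleton_le_iff_mem _).2 fun hu => ?_)
    · by_cases ha0 : a = 0
      · rw [ha0]; exact Submodule.zero_mem _
      have hA : algebraMap (X.presheaf.stalk x) X.functionField a ≠ 0 :=
        fun e => ha0 (IsFractionRing.injective _ X.functionField (e.trans (map_zero _).symm))
      obtain ⟨b, hb⟩ := mem_range_of_ord hX x (f := algebraMap _ _ a / f) (div_ne_zero hA hf0)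
        fun x' hx' hx'1 => by
          rw [div_eq_mul_inv, ord_mul' hx'1 hA (inv_ne_zero hf0), ord_inv' hx'1 hf0, ← algebraMap_rspec hx' a]
          have hr0 : Groth.RefRank.rspec hx' a ≠ 0 := fun e => hA (by rw [← algebraMap_rspec hx' a, e, map_zero])
          have h0 := ord_algebraMap_nonneg hx'1 hr0
          by_cases he : x' = ζ
          · subst he
            rw [hf1]
            rcases h0.eq_or_lt with h00 | h00
            · exact absurd (isUnit_of_ord_eq_zero hx'1 hX hr0 h00.symm) ha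
            · omega
          · rw [hf2 x' he hx'1]; omega
      refine Ideal.mem_span_singleton'.2 ⟨b, IsFractionRing.injective _ X.functionField ?_⟩
      rw [map_mul, hb, hgx, div_mul_cancel₀ _ hf0]
    · have h1 := ord_of_isUnit' hζ hu
      rw [algebraMap_rspec h, hgx, hf1] at h1
      exact one_ne_zero h1
  · obtain ⟨b, hb⟩ := mem_range_of_ord hX x (inv_ne_zero hf0) fun x' hx' hx'1 => by
      rw [ord_inv' hx'1 hf0, hf2 x' (fun e : x' = ζ => h (e ▸ hx')) hx'1, neg_zero]
    refine IsUnit.of_mul_eq_one (b := b) (IsFractionRing.injective (X.presheaf.stalk x) X.functionField ?_)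
    rw [map_mul, map_one, hb, hgx, mul_inv_cancel₀ hf0]

end Groth.ParaFormal.Principal
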