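/-
A cycle principal on the punctured spectrum of a parafactorial local ring is principal there.
-/
import Groth.Agent.ParaFormal.GoodConverse
import Groth.Agent.RefRank.CDivNormal
import Groth.Agent.RefRank.HomSec

set_option autoImplicit false
universe u

open CategoryTheory AlgebraicGeometry TopologicalSpace IsLocalRing
open Groth.QCohMod Groth.RefRank Groth.RefRank.CDivNormal

namespace Groth.ParaFormal.StalkDivisor

variable {X : Scheme.{u}}

theorem exists_frac {y x : X} (h : y ⤳ x) (a : X.presheaf.stalk y) :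
    ∃ r s : X.presheaf.stalk x, IsUnit (rspec h s) ∧ rspec h r = rspec h s * a := by
  obtain ⟨V, hV, hx⟩ := exists_affine_mem x
  have hy := h.mem_open V.2 hx
  obtain ⟨r₁, c, hc, hcr⟩ := exists_mul_germ_eq hV hy a
  refine ⟨X.presheaf.germ V x hx r₁, X.presheaf.germ V x hx c, ?_, ?_⟩
  · rw [rspec_germ]; exact (Scheme.mem_basicOpen X c y hy).1 hc
  · rw [rspec_germ, rspec_germ]; exact hcr.symm

theorem rspec_trans {x' y x : X} (h : x' ⤳ y) (h' : y ⤳ x) (a : X.presheaf.stalk x) :
    rspec (h.trans h') a = rspec h (rspec h' a) :=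
  (rspec_rspec h' h a).symm

theorem exists_primeAt_not {x' y x : X} (h : x' ⤳ x) (h' : y ⤳ x) (hne : ¬ x' ⤳ y) :
    ∃ e ∈ primeAt h, IsUnit (rspec h' e) := by
  obtain ⟨V, hV, hx⟩ := exists_affine_mem x
  have hx' := h.mem_open V.2 hx
  have hy := h'.mem_open V.2 hx
  obtain ⟨a, ha, ha'⟩ : ∃ a ∈ (hV.primeIdealOf ⟨x', hx'⟩).asIdeal,
      a ∉ (hV.primeIdealOf ⟨y, hy⟩).asIdeal := by
    by_contra! hle
    refine hne ?_
    have h2 := ((PrimeSpectrum.le_iff_specializes _ _).mp
      (fun a ha => hle a ha : (hV.primeIdealOf ⟨x', hx'⟩).asIdeal ≤ (hV.primeIdealOf ⟨y, hy⟩).asIdeal)).map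
      hV.fromSpec.continuous
    rwa [hV.fromSpec_primeIdealOf, hV.fromSpec_primeIdealOf] at h2
  refine ⟨X.presheaf.germ V x hx a, ?_, ?_⟩
  · rw [mem_primeAt, rspec_germ h hx, ← Scheme.mem_basicOpen X a x' hx',
      mem_basicOpen_iff_notMem_primeIdealOf hV a x' hx', not_not]
    exact ha
  · rw [rspec_germ h' hx, ← Scheme.mem_basicOpen X a y hy,
      mem_basicOpen_iff_notMem_primeIdealOf hV a y hy]
    exact ha'

variable [IsIntegral X] [IsLocallyNoetherian X] (hX : Pi1.IsNormalScheme X)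

local notation "kf" => algebraMap _ X.functionField

omit [IsLocallyNoetherian X] in
theorem ne_zero_of {y : X} {a : X.presheaf.stalk y} (ha : a ≠ 0) :
    algebraMap (X.presheaf.stalk y) X.functionField a ≠ 0 :=
  fun e => ha (IsFractionRing.injective (X.presheaf.stalk y) X.functionField (e.trans (map_zero _).symm))

omit [IsLocallyNoetherian X] in
theorem rspec_ne_zero {y x : X} (h : y ⤳ x) {a : X.presheaf.stalk x} (ha : a ≠ 0) : rspec h a ≠ 0 :=
  fun e => ne_zero_of ha (by rw [← algebraMap_rspec h a, e, map_zero])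

theorem ord_eq_zero {x' x : X} (h : x' ⤳ x) (hx' : Order.coheight x' = 1) {a : X.presheaf.stalk x}
    (hu : IsUnit (rspec h a)) : Scheme.ord (algebraMap (X.presheaf.stalk x) X.functionField a) x' = 0 := by
  rw [← algebraMap_rspec h a]; exact ord_of_isUnit' hx' hu

theorem ord_nonneg {x' x : X} (h : x' ⤳ x) (hx' : Order.coheight x' = 1) {a : X.presheaf.stalk x}
    (ha : a ≠ 0) : 0 ≤ Scheme.ord (algebraMap (X.presheaf.stalk x) X.functionField a) x' := by
  rw [← algebraMap_rspec h a]; exact ord_algebraMap_nonneg hx' (rspec_ne_zero h ha)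

include hX in
theorem one_le_ord {x' x : X} (h : x' ⤳ x) (hx' : Order.coheight x' = 1) {a : X.presheaf.stalk x}
    (ha : a ≠ 0) (hmem : a ∈ primeAt h) :
    1 ≤ Scheme.ord (algebraMap (X.presheaf.stalk x) X.functionField a) x' := by
  have h0 := ord_nonneg h hx' ha
  have h1 : Scheme.ord (algebraMap (X.presheaf.stalk x) X.functionField a) x' ≠ 0 := fun e => hmem
    (isUnit_of_ord_eq_zero hx' hX (rspec_ne_zero h ha) (by rw [algebraMap_rspec h a]; exact e))
  omega

theorem ord_pow {x' : X} (hx' : Order.coheight x' = 1) {f : X.functionField} (hf : f ≠ 0) (n : ℕ) :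
    Scheme.ord (f ^ n) x' = n * Scheme.ord f x' := by
  induction n with
  | zero => simp [ord_one' hx']
  | succ n ih => rw [pow_succ, ord_mul' hx' (pow_ne_zero _ hf) hf, ih]; push_cast; ring

include hX in
theorem mem_pow_iff {x' : X} (hx' : Order.coheight x' = 1) {c : X.presheaf.stalk x'} (hc : c ≠ 0) (n : ℕ) :
    c ∈ maximalIdeal (X.presheaf.stalk x') ^ n ↔
      (n : ℤ) ≤ Scheme.ord (algebraMap (X.presheaf.stalk x') X.functionField c) x' := by
  have := isDiscreteValuationRing_stalk hX ((coheight_eq_one_iff x').1 hx')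
  obtain ⟨π, hπ⟩ := IsDiscreteValuationRing.exists_irreducible (X.presheaf.stalk x')
  obtain ⟨k, v, rfl⟩ := IsDiscreteValuationRing.eq_unit_mul_pow_irreducible hc hπ
  have hv : algebraMap (X.presheaf.stalk x') X.functionField v ≠ 0 := ne_zero_of v.ne_zero
  have hord : Scheme.ord (algebraMap (X.presheaf.stalk x') X.functionField (↑v * π ^ k)) x' = k := by
    rw [map_mul, map_pow, ord_mul' hx' hv (pow_ne_zero _ (ne_zero_of hπ.ne_zero)),
      ord_of_isUnit' hx' v.isUnit, ord_pow hx' (ne_zero_of hπ.ne_zero),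
      ord_uniformizer hx' hπ.ne_zero hπ.maximalIdeal_eq, zero_add, mul_one]
  rw [hord, hπ.maximalIdeal_eq, Ideal.span_singleton_pow, Ideal.mem_span_singleton, Int.ofNat_le,
    Units.dvd_mul_left, pow_dvd_pow_iff hπ.ne_zero hπ.not_isUnit]

theorem finite_primeAt {x : X} {a : X.presheaf.stalk x} (ha : a ≠ 0) :
    {x' : X | ∃ h : x' ⤳ x, Order.coheight x' = 1 ∧ a ∈ primeAt h}.Finite := by
  classical
  let g : X → Ideal (X.presheaf.stalk x) := fun x' => if h : x' ⤳ x then primeAt h else ⊥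
  refine Set.Finite.of_finite_image
    ((Ideal.finite_minimalPrimes_of_isNoetherianRing _ (Ideal.span {a})).subset ?_) (f := g) ?_
  · rintro _ ⟨x', ⟨h, hx', hmem⟩, rfl⟩
    simp only [g, dif_pos h]
    refine ⟨⟨inferInstance, (Ideal.span_singleton_le_iff_mem _).2 hmem⟩, fun Q hQ hQle => ?_⟩
    by_contra hne
    have := hQ.1
    have hlt := Ideal.height_strict_mono_of_isPrime (lt_of_le_not_ge hQle hne)
    have h1 := height_primeAt h
    rw [(coheight_eq_one_iff x').1 hx'] at h1
    rw [show (primeAt h).height = 1 by exact_mod_cast h1, Order.lt_one_iff] at hlt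
    exact ha ((Submodule.eq_bot_iff _).1 (Ideal.height_eq_zero_iff_eq_bot.1 hlt) a
      (hQ.2 (Ideal.mem_span_singleton_self a)))
  · intro x₁ h₁ x₂ h₂ e
    simp only [g, dif_pos h₁.1, dif_pos h₂.1] at e
    exact primeAt_inj h₁.1 h₂.1 e

theorem exists_mem_primeAt {x' x : X} (h : x' ⤳ x) (hx' : Order.coheight x' = 1) :
    ∃ e ∈ primeAt h, e ≠ 0 := by
  refine Submodule.exists_mem_ne_zero_of_ne_bot fun hb => ?_
  have h1 := height_primeAt h
  rw [(coheight_eq_one_iff x').1 hx', hb] at h1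
  simp at h1

theorem uniform {R : Type u} [CommRing R] [IsNoetherianRing R] (z : Ideal R) [z.IsPrime] (I : Ideal R)
    (β : R) (h : ∀ b ∈ I, ∃ s ∉ z, ∃ c, s * b = c * β) : ∃ s ∉ z, ∀ b ∈ I, ∃ c, s * b = c * β := by
  classical
  obtain ⟨T, hT⟩ := IsNoetherian.noetherian I
  choose! s hs c hc using h
  have hmem : ∀ b ∈ T, b ∈ I := fun b hb => hT ▸ Submodule.subset_span hb
  refine ⟨∏ b ∈ T, s b, fun hy => ?_, fun b hb => ?_⟩
  · obtain ⟨b, hb, hb'⟩ := Ideal.IsPrime.prod_mem_iff.1 hy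
    exact hs b (hmem b hb) hb'
  have : I ≤ (Ideal.span {β}).colon {∏ b ∈ T, s b} := by
    rw [← hT, Submodule.span_le]
    intro b hb
    rw [SetLike.mem_coe, Submodule.mem_colon_singleton, smul_eq_mul, Ideal.mem_span_singleton]
    exact dvd_trans ⟨c b, by rw [mul_comm b, hc b (hmem b hb), mul_comm]⟩
      (mul_dvd_mul_left b (Finset.dvd_prod_of_mem _ hb))
  have h2 := this hb
  rw [Submodule.mem_colon_singleton, smul_eq_mul, Ideal.mem_span_singleton] at h2
  obtain ⟨d, hd⟩ := h2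
  exact ⟨d, by rw [mul_comm, hd, mul_comm]⟩

include hX in
/-- The inductive step. -/
theorem principal_step (Z : X → ℤ) (hZfin : ∀ x : X, ∃ W : X.Opens, x ∈ W ∧ {z : X | z ∈ W ∧ Z z ≠ 0}.Finite)
    (x : X) (hdim : (2 : WithBot ℕ∞) ≤ ringKrullDim (X.presheaf.stalk x))
    (hpar : ParaF.IsParafactorialLocalRing (X.presheaf.stalk x))
    (hgen : ∀ y : X, y ⤳ x → y ≠ x → ∃ f : X.functionField, f ≠ 0 ∧
      ∀ x' : X, Order.coheight x' = 1 → x' ⤳ y → Z x' = Scheme.ord f x') :
    ∃ f : X.functionField, f ≠ 0 ∧ ∀ x' : X, Order.coheight x' = 1 → x' ⤳ x → Z x' = Scheme.ord f x' := by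
  classical
  have := (hX x).2
  -- make the coefficients nonnegative
  obtain ⟨W, hxW, hWfin⟩ := hZfin x
  have hS₀ : {x' : X | x' ⤳ x ∧ Order.coheight x' = 1 ∧ Z x' ≠ 0}.Finite :=
    hWfin.subset fun x' h => ⟨h.1.mem_open W.2 hxW, h.2.2⟩
  choose! e₀ he₀ he₀0 using fun (x' : X) (h : x' ⤳ x ∧ Order.coheight x' = 1) => exists_mem_primeAt h.1 h.2
  set d : (X.presheaf.stalk x) := ∏ x' ∈ hS₀.toFinset, e₀ x' ^ (Z x').natAbs with hd
  have hd0 : d ≠ 0 := Finset.prod_ne_zero_iff.2 fun x' hx' =>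
    pow_ne_zero _ (he₀0 x' ⟨(hS₀.mem_toFinset.1 hx').1, (hS₀.mem_toFinset.1 hx').2.1⟩)
  have hprod : ∀ (x' : X) (h : x' ⤳ x) (hx' : Order.coheight x' = 1) (T : Finset X) (e : X → (X.presheaf.stalk x)) (n : X → ℕ),
      (∀ i ∈ T, e i ≠ 0) → x' ∈ T → e x' ∈ primeAt h →
      (n x' : ℤ) ≤ Scheme.ord (algebraMap (X.presheaf.stalk x) X.functionField (∏ i ∈ T, e i ^ n i)) x' := by
    intro x' h hx' T e n hne hT hmem
    have hne' : ∀ i ∈ T.erase x', e i ^ n i ≠ 0 := fun i hi => pow_ne_zero _ (hne i (Finset.mem_of_mem_erase hi))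
    rw [← Finset.mul_prod_erase _ _ hT, map_mul, ord_mul' hx' (ne_zero_of (pow_ne_zero _ (hne x' hT)))
      (ne_zero_of (Finset.prod_ne_zero_iff.2 hne')), map_pow, ord_pow hx' (ne_zero_of (hne x' hT))]
    have h1 := one_le_ord hX h hx' (hne x' hT) hmem
    have h2 := ord_nonneg h hx' (Finset.prod_ne_zero_iff.2 hne')
    nlinarith [Int.natCast_nonneg (n x')]
  set od : X → ℤ := fun x' => Scheme.ord (algebraMap (X.presheaf.stalk x) X.functionField d) x' with hod
  set Z' : X → ℤ := fun x' => Z x' + od x' with hZ'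
  have hZ'0 : ∀ x', x' ⤳ x → Order.coheight x' = 1 → 0 ≤ Z' x' := by
    intro x' h hx'
    have h2 : 0 ≤ od x' := ord_nonneg h hx' hd0
    by_cases h0 : Z x' = 0
    · simp only [hZ', h0, zero_add, h2]
    · have := hprod x' h hx' hS₀.toFinset e₀ (fun i => (Z i).natAbs)
        (fun i hi => he₀0 i ⟨(hS₀.mem_toFinset.1 hi).1, (hS₀.mem_toFinset.1 hi).2.1⟩)
        (hS₀.mem_toFinset.2 ⟨h, hx', h0⟩) (he₀ x' ⟨h, hx'⟩)
      change ((Z x').natAbs : ℤ) ≤ od x' at this
      simp only [hZ']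
      omega
  have hS₁ := hS₀.union (finite_primeAt hd0)
  have hsupp : ∀ x', x' ⤳ x → Order.coheight x' = 1 → x' ∉ hS₁.toFinset → Z' x' = 0 := by
    intro x' h hx' hnot
    rw [Set.Finite.mem_toFinset] at hnot
    have h1 : Z x' = 0 := by_contra fun h0 => hnot (Or.inl ⟨h, hx', h0⟩)
    have h2 : od x' = 0 := ord_eq_zero h hx' (by_contra fun hu => hnot (Or.inr ⟨h, hx', hu⟩))
    simp only [hZ', h1, h2, add_zero]
  -- the ideal of the divisor
  let I : Ideal (X.presheaf.stalk x) := ⨅ (x' : X) (h : x' ⤳ x) (_ : Order.coheight x' = 1),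
    (maximalIdeal (X.presheaf.stalk x') ^ (Z' x').toNat).comap (rspec h)
  have hImem : ∀ b : (X.presheaf.stalk x), b ≠ 0 → (b ∈ I ↔ ∀ x', x' ⤳ x → Order.coheight x' = 1 →
      Z' x' ≤ Scheme.ord (algebraMap (X.presheaf.stalk x) X.functionField b) x') := by
    intro b hb
    simp only [I, Submodule.mem_iInf, Ideal.mem_comap]
    refine forall_congr' fun x' => forall_congr' fun h => forall_congr' fun hx' => ?_
    rw [mem_pow_iff hX hx' (rspec_ne_zero h hb), algebraMap_rspec h b, Int.toNat_of_nonneg (hZ'0 x' h hx')]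
  -- local equations
  have hloc : ∀ y (hy : y ⤳ x), y ≠ x → ∃ β : (X.presheaf.stalk x), β ≠ 0 ∧ β ∈ I ∧
      (∀ x', Order.coheight x' = 1 → x' ⤳ y → Scheme.ord (algebraMap (X.presheaf.stalk x) X.functionField β) x' = Z' x') ∧
      ∀ b ∈ I, ∃ s, IsUnit (rspec hy s) ∧ ∃ c, s * b = c * β := by
    intro y hy hne
    obtain ⟨fy, hfy0, hfy⟩ := hgen y hy hne
    set g := fy * algebraMap (X.presheaf.stalk x) X.functionField d with hg
    have hg0 : g ≠ 0 := mul_ne_zero hfy0 (ne_zero_of hd0)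
    have hgord : ∀ x', Order.coheight x' = 1 → x' ⤳ y → Scheme.ord g x' = Z' x' := fun x' hx' h => by
      rw [hg, ord_mul' hx' hfy0 (ne_zero_of hd0), ← hfy x' hx' h]
    obtain ⟨a, ha⟩ := mem_range_of_ord hX y hg0 fun x' h hx' => by
      rw [hgord x' hx' h]; exact hZ'0 x' (h.trans hy) hx'
    obtain ⟨r, s, hs, hrs⟩ := exists_frac hy a
    have hr : algebraMap (X.presheaf.stalk x) X.functionField r = algebraMap (X.presheaf.stalk x) X.functionField s * g := by
      rw [← algebraMap_rspec hy r, hrs, map_mul, algebraMap_rspec hy s, ha]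
    have hs0 : s ≠ 0 := fun e => hs.ne_zero (by rw [e, map_zero])
    set B := hS₁.toFinset.filter fun x' => x' ⤳ x ∧ Order.coheight x' = 1 ∧ ¬ x' ⤳ y with hB
    choose! e he heu using fun (x' : X) (h : x' ⤳ x ∧ ¬ x' ⤳ y) => exists_primeAt_not h.1 hy h.2
    have hBe : ∀ i ∈ B, e i ≠ 0 := fun i hi => by
      obtain ⟨-, h1, -, h3⟩ := Finset.mem_filter.1 hi
      exact fun e0 => (heu i ⟨h1, h3⟩).ne_zero (by rw [e0, map_zero])
    set E : (X.presheaf.stalk x) := ∏ i ∈ B, e i ^ (Z' i).toNat with hE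
    have hEu : IsUnit (rspec hy E) := by
      rw [hE, map_prod, IsUnit.prod_iff]
      intro i hi
      obtain ⟨-, h1, -, h3⟩ := Finset.mem_filter.1 hi
      rw [map_pow]
      exact (heu i ⟨h1, h3⟩).pow _
    have hE0 : E ≠ 0 := fun e => hEu.ne_zero (by rw [e, map_zero])
    have hr0 : r ≠ 0 := fun e => mul_ne_zero (ne_zero_of hs0) hg0 (by rw [← hr, e, map_zero])
    have hunit : ∀ (c : (X.presheaf.stalk x)), IsUnit (rspec hy c) → ∀ x', Order.coheight x' = 1 → x' ⤳ y →
        Scheme.ord (algebraMap (X.presheaf.stalk x) X.functionField c) x' = 0 := fun c hc x' hx' h =>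
      ord_eq_zero (h.trans hy) hx' (by rw [rspec_trans h hy]; exact hc.map _)
    have heq : ∀ x', Order.coheight x' = 1 → x' ⤳ y →
        Scheme.ord (algebraMap (X.presheaf.stalk x) X.functionField (r * E)) x' = Z' x' := fun x' hx' h => by
      rw [map_mul, ord_mul' hx' (ne_zero_of hr0) (ne_zero_of hE0), hr, ord_mul' hx' (ne_zero_of hs0) hg0,
        hunit s hs x' hx' h, hunit E hEu x' hx' h, hgord x' hx' h, zero_add, add_zero]
    refine ⟨r * E, mul_ne_zero hr0 hE0, (hImem _ (mul_ne_zero hr0 hE0)).2 fun x' h hx' => ?_, heq, fun b hb => ?_⟩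
    · by_cases hxy : x' ⤳ y
      · exact (heq x' hx' hxy).ge
      rw [map_mul, ord_mul' hx' (ne_zero_of hr0) (ne_zero_of hE0)]
      have h1 := ord_nonneg h hx' hr0
      have h2 := ord_nonneg h hx' hE0
      by_cases hmem : x' ∈ hS₁.toFinset
      · have h3 := hprod x' h hx' B e (fun i => (Z' i).toNat) hBe
          (Finset.mem_filter.2 ⟨hmem, h, hx', hxy⟩) (he x' ⟨h, hxy⟩)
        rw [← hE] at h3
        omega
      · rw [hsupp x' h hx' hmem]; omega
    · rcases eq_or_ne b 0 with rfl | hb0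
      · exact ⟨1, by rw [map_one]; exact isUnit_one, 0, by ring⟩
      obtain ⟨q, hq⟩ := mem_range_of_ord hX y (div_ne_zero (ne_zero_of hb0) hg0) fun x' h hx' => by
        have := (hImem b hb0).1 hb x' (h.trans hy) hx'
        rw [div_eq_mul_inv, ord_mul' hx' (ne_zero_of hb0) (inv_ne_zero hg0), ord_inv' hx' hg0, hgord x' hx' h]
        omega
      obtain ⟨r', s', hs', hrs'⟩ := exists_frac hy q
      refine ⟨s' * s * E, by rw [map_mul, map_mul]; exact (hs'.mul hs).mul hEu, r', ?_⟩
      refine IsFractionRing.injective (X.presheaf.stalk x) X.functionField ?_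
      have hb' : algebraMap (X.presheaf.stalk x) X.functionField r' * g =
          algebraMap (X.presheaf.stalk x) X.functionField s' * algebraMap (X.presheaf.stalk x) X.functionField b := by
        rw [← algebraMap_rspec hy r', hrs', map_mul, algebraMap_rspec hy s', hq, mul_assoc,
          div_mul_cancel₀ _ hg0]
      simp only [map_mul, hr]
      linear_combination (-(algebraMap (X.presheaf.stalk x) X.functionField s * algebraMap (X.presheaf.stalk x) X.functionField E)) * hb'
  have hpow : ∀ x', x' ⤳ x → Order.coheight x' = 1 → x' ≠ x := fun x' _ hx' e => by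
    subst e
    rw [(coheight_eq_one_iff x').1 hx'] at hdim
    norm_num at hdim
  -- it is good
  have hgood : Good I := by
    refine ⟨fun hbot => ?_, fun z hz hzm => ?_, fun b hb => ?_⟩
    · have hgp : genericPoint ↥X ≠ x := fun e => by
        subst e
        rw [ringKrullDim_eq_zero_of_isField (Field.toIsField X.functionField)] at hdim
        norm_num at hdim
      obtain ⟨β, hβ0, hβ, -⟩ := hloc _ (genSpec x) hgp
      rw [hbot, Submodule.mem_bot] at hβ
      exact hβ0 hβ
    · obtain ⟨y, hy, hu, hd'⟩ := exists_generization_of_prime z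
      have hne : y ≠ x := fun e => by
        subst e
        refine hzm ((le_maximalIdeal hz.ne_top).antisymm fun c hc => ?_)
        by_contra hcz
        have := (hu c).2 hcz
        rw [show rspec hy c = c by simp [rspec, TopCat.Presheaf.stalkSpecializes_refl]] at this
        exact hc this
      obtain ⟨β, -, hβ, -, hgenβ⟩ := hloc y hy hne
      refine ⟨β, hβ, uniform z I β fun b hb => ?_⟩
      obtain ⟨s, hs, c, hc⟩ := hgenβ b hb
      exact ⟨s, (hu s).1 hs, c, hc⟩
    · by_cases hb0 : b = 0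
      · rw [hb0]; exact Submodule.zero_mem _
      refine (hImem b hb0).2 fun x' h hx' => ?_
      obtain ⟨c, hcm, hc⟩ := SetLike.not_le_iff_exists.1 fun hle : maximalIdeal (X.presheaf.stalk x) ≤ primeAt h => by
        have h1 := height_primeAt h
        rw [← ((maximalIdeal.isMaximal (X.presheaf.stalk x)).eq_of_le (Ideal.IsPrime.ne_top inferInstance) hle),
          IsLocalRing.maximalIdeal_height_eq_ringKrullDim, (coheight_eq_one_iff x').1 hx'] at h1
        rw [h1] at hdim
        norm_num at hdim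
      have hc0 : c ≠ 0 := fun e => hc (e ▸ Submodule.zero_mem _)
      have := (hImem (c * b) (mul_ne_zero hc0 hb0)).1 (hb c hcm) x' h hx'
      rwa [map_mul, ord_mul' hx' (ne_zero_of hc0) (ne_zero_of hb0),
        ord_eq_zero h hx' (not_not.1 hc), zero_add] at this
  obtain ⟨t, ht⟩ := (isPrincipal_of_good hdim hpar I hgood).principal
  have ht0 : t ≠ 0 := fun e => hgood.ne_bot (by rw [ht, e]; simp)
  have htI : t ∈ I := ht ▸ Submodule.mem_span_singleton_self t
  refine ⟨algebraMap (X.presheaf.stalk x) X.functionField t / algebraMap (X.presheaf.stalk x) X.functionField d,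
    div_ne_zero (ne_zero_of ht0) (ne_zero_of hd0), fun x' hx' h => ?_⟩
  obtain ⟨β, hβ0, hβ, hβord, -⟩ := hloc x' h (hpow x' h hx')
  obtain ⟨c, hc⟩ := Submodule.mem_span_singleton.1 (ht ▸ hβ : β ∈ _)
  rw [smul_eq_mul] at hc
  have hc0 : c ≠ 0 := fun e => hβ0 (by rw [← hc, e, zero_mul])
  have h1 := hβord x' hx' specializes_rfl
  rw [← hc, map_mul, ord_mul' hx' (ne_zero_of hc0) (ne_zero_of ht0)] at h1
  have h2 := (hImem t ht0).1 htI x' h hx'
  have h3 := ord_nonneg h hx' hc0
  rw [div_eq_mul_inv, ord_mul' hx' (ne_zero_of ht0) (inv_ne_zero (ne_zero_of hd0)),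
    ord_inv' hx' (ne_zero_of hd0)]
  simp only [hZ', hod] at h1 h2
  omega

end Groth.ParaFormal.StalkDivisor
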