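import Groth.Agent.ParaFormal.Cob
import Mathlib.AlgebraicGeometry.Stalk

/-!
# Spreading functions and coboundaries out from the spectrum of a local ring
-/

set_option autoImplicit false
universe u

open CategoryTheory AlgebraicGeometry Opposite TopologicalSpace

namespace Groth.ParaFormal

open Groth.PicAux

variable {X : Scheme.{u}} {D : X.Opens} (hD : IsAffineOpen D) {x : X} (hx : x ∈ D)

include hx in
theorem fromSpecStalk_preimage_eq_top : X.fromSpecStalk x ⁻¹ᵁ D = ⊤ := by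
  refine eq_top_iff.2 fun y _ => ?_
  have h : X.fromSpecStalk x y ⤳ x := by
    have := Set.mem_range_self (f := X.fromSpecStalk x) y
    rwa [Scheme.range_fromSpecStalk] at this
  exact h.mem_open D.2 hx

include hD hx in
/-- The map from the sections on an affine open to the functions on the spectrum of the local ring is
a localisation. -/
theorem app_kernel_and_surj :
    (∀ v : Γ(X, D), (X.fromSpecStalk x).app D v = 0 → ∃ s, x ∈ X.basicOpen s ∧ s * v = 0) ∧
    ∀ w : Γ(Spec (X.presheaf.stalk x), X.fromSpecStalk x ⁻¹ᵁ D), ∃ v s, x ∈ X.basicOpen s ∧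
      w * (X.fromSpecStalk x).app D s = (X.fromSpecStalk x).app D v := by
  have htop := fromSpecStalk_preimage_eq_top hx
  let e := (Scheme.ΓSpecIso (X.presheaf.stalk x)).inv ≫
    (Spec (X.presheaf.stalk x)).presheaf.map (homOfLE (le_top : X.fromSpecStalk x ⁻¹ᵁ D ≤ ⊤)).op
  have : IsIso ((Spec (X.presheaf.stalk x)).presheaf.map
      (homOfLE (le_top : X.fromSpecStalk x ⁻¹ᵁ D ≤ ⊤)).op) := by
    rw [show homOfLE (le_top : X.fromSpecStalk x ⁻¹ᵁ D ≤ ⊤) = (eqToIso htop).hom from Subsingleton.elim _ _]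
    infer_instance
  have he : Function.Bijective e := ConcreteCategory.bijective_of_isIso e
  have happ : ∀ v : Γ(X, D), (X.fromSpecStalk x).app D v = e (X.presheaf.germ D x hx v) := fun v =>
    congr($(Scheme.fromSpecStalk_app hx) v)
  let _ : Algebra Γ(X, D) (X.presheaf.stalk x) :=
    TopCat.Presheaf.algebra_section_stalk X.presheaf (⟨x, hx⟩ : D)
  have hloc : IsLocalization.AtPrime (X.presheaf.stalk x) (hD.primeIdealOf ⟨x, hx⟩).asIdeal :=
    hD.isLocalization_stalk ⟨x, hx⟩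
  have hmem : ∀ s : Γ(X, D), s ∈ (hD.primeIdealOf ⟨x, hx⟩).asIdeal.primeCompl → x ∈ X.basicOpen s :=
    fun s hs => (X.mem_basicOpen s x hx).2
      (IsLocalization.map_units (X.presheaf.stalk x) (⟨s, hs⟩ : (hD.primeIdealOf ⟨x, hx⟩).asIdeal.primeCompl))
  refine ⟨fun v hv => ?_, fun w => ?_⟩
  · have h0 : X.presheaf.germ D x hx v = 0 := he.1 (((happ v).symm.trans hv).trans (map_zero e.hom).symm)
    obtain ⟨⟨s, hs⟩, hsv⟩ := (IsLocalization.map_eq_zero_iff (hD.primeIdealOf ⟨x, hx⟩).asIdeal.primeCompl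
      (X.presheaf.stalk x) v).1 h0
    exact ⟨s, hmem s hs, hsv⟩
  · obtain ⟨w, rfl⟩ := he.2 w
    obtain ⟨⟨v, s, hs⟩, hw⟩ := IsLocalization.surj (hD.primeIdealOf ⟨x, hx⟩).asIdeal.primeCompl w
    refine ⟨v, s, hmem s hs, ?_⟩
    rw [happ, happ, ← map_mul]
    exact congrArg e hw

theorem isUnit_resX_of_le {Y : Scheme.{u}} {V W : Y.Opens} (h : W ≤ V) {s : Γ(Y, V)}
    (hs : W ≤ Y.basicOpen s) : IsUnit (resX Y h s) := by
  have := (RingedSpace.isUnit_res_basicOpen (X := Y.toRingedSpace) s).map (resX Y hs)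
  exact (resX_resX (Y.basicOpen_le s) hs s) ▸ this

include hD hx in
/-- Functions on a basic open vanishing on the spectrum of the local ring vanish near the point. -/
theorem exists_res_eq_zero {W : X.Opens} (g : Γ(X, D)) (hW : W = X.basicOpen g) (a : Γ(X, W))
    (ha : (X.fromSpecStalk x).app W a = 0) :
    ∃ (O : X.Opens), x ∈ O ∧ ∀ (W' : X.Opens) (h : W' ≤ W), W' ≤ O → resX X h a = 0 := by
  subst hW
  have hTaff : IsAffineOpen (X.fromSpecStalk x ⁻¹ᵁ D) := by
    rw [fromSpecStalk_preimage_eq_top hx]; exact isAffineOpen_top _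
  have := hD.isLocalization_basicOpen g
  obtain ⟨⟨r, m⟩, hr⟩ := IsLocalization.surj (Submonoid.powers g) a
  have h0 : resX _ ((X.fromSpecStalk x).preimage_mono (X.basicOpen_le g))
      ((X.fromSpecStalk x).app D r) = 0 := by
    rw [← app_resX]
    refine (congrArg ((X.fromSpecStalk x).app _) hr.symm).trans ?_
    rw [map_mul, ha, zero_mul]
  have hpre : X.fromSpecStalk x ⁻¹ᵁ X.basicOpen g =
      (Spec (X.presheaf.stalk x)).basicOpen ((X.fromSpecStalk x).app D g) := Scheme.preimage_basicOpen _ g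
  have h1 := congrArg (resX _ hpre.ge) h0
  rw [resX_resX, map_zero] at h1
  have := hTaff.isLocalization_basicOpen ((X.fromSpecStalk x).app D g)
  obtain ⟨⟨_, n, rfl⟩, hn⟩ := (IsLocalization.map_eq_zero_iff
    (Submonoid.powers ((X.fromSpecStalk x).app D g))
    Γ(Spec (X.presheaf.stalk x), (Spec (X.presheaf.stalk x)).basicOpen ((X.fromSpecStalk x).app D g))
    ((X.fromSpecStalk x).app D r)).1 h1
  obtain ⟨s, hs, hsv⟩ := (app_kernel_and_surj hD hx).1 (g ^ n * r) (by rw [map_mul, map_pow]; exact hn)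
  refine ⟨X.basicOpen s, hs, fun W' h hW' => ?_⟩
  have hWD : W' ≤ D := h.trans (X.basicOpen_le g)
  have hu : IsUnit (resX X hWD g) := isUnit_resX_of_le _ h
  have hv : resX X hWD r = 0 := by
    have := congrArg (resX X hWD) hsv
    rw [map_mul, map_mul, map_pow, map_zero] at this
    exact (hu.pow n).mul_right_eq_zero.1 ((isUnit_resX_of_le hWD hW').mul_right_eq_zero.1 this)
  have h2 := congrArg (resX X h) hr
  rw [map_mul] at h2
  obtain ⟨k, hk⟩ := m.2
  have hm : IsUnit (resX X h (algebraMap Γ(X, D) Γ(X, X.basicOpen g) m)) :=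
    (IsLocalization.map_units Γ(X, X.basicOpen g) m).map _
  refine hm.mul_left_eq_zero.1 (h2.trans ?_)
  exact (resX_resX (X.basicOpen_le g) h r).trans hv

include hD hx in
/-- Functions on the trace of a basic open in the spectrum of the local ring come from a
neighbourhood. -/
theorem exists_lift {W : X.Opens} (g : Γ(X, D)) (hW : W = X.basicOpen g)
    (b : Γ(Spec (X.presheaf.stalk x), X.fromSpecStalk x ⁻¹ᵁ W)) :
    ∃ (O : X.Opens), x ∈ O ∧ ∃ a : Γ(X, W ⊓ O),
      (X.fromSpecStalk x).app (W ⊓ O) a =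
        resX _ ((X.fromSpecStalk x).preimage_mono inf_le_left) b := by
  subst hW
  have hTaff : IsAffineOpen (X.fromSpecStalk x ⁻¹ᵁ D) := by
    rw [fromSpecStalk_preimage_eq_top hx]; exact isAffineOpen_top _
  have hpre : X.fromSpecStalk x ⁻¹ᵁ X.basicOpen g =
      (Spec (X.presheaf.stalk x)).basicOpen ((X.fromSpecStalk x).app D g) := Scheme.preimage_basicOpen _ g
  have := hTaff.isLocalization_basicOpen ((X.fromSpecStalk x).app D g)
  obtain ⟨⟨w, _, n, rfl⟩, hw⟩ := IsLocalization.surj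
    (Submonoid.powers ((X.fromSpecStalk x).app D g)) (resX _ hpre.ge b)
  obtain ⟨v, s, hs, hvs⟩ := (app_kernel_and_surj hD hx).2 w
  refine ⟨X.basicOpen s, hs, ?_⟩
  let W' := X.basicOpen g ⊓ X.basicOpen s
  have hWD : W' ≤ D := inf_le_left.trans (X.basicOpen_le g)
  have hu : IsUnit (resX X hWD (s * g ^ n)) := by
    rw [map_mul, map_pow]
    exact (isUnit_resX_of_le _ inf_le_right).mul ((isUnit_resX_of_le _ inf_le_left).pow n)
  refine ⟨resX X hWD v * ↑hu.unit⁻¹, ?_⟩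
  refine (hu.map ((X.fromSpecStalk x).app W').hom).mul_left_cancel ?_
  have hle : X.fromSpecStalk x ⁻¹ᵁ W' ≤
      (Spec (X.presheaf.stalk x)).basicOpen ((X.fromSpecStalk x).app D g) :=
    ((X.fromSpecStalk x).preimage_mono inf_le_left).trans hpre.le
  have h1 := congrArg (resX _ hle) hw
  rw [map_mul, resX_resX, map_pow] at h1
  rw [← map_mul ((X.fromSpecStalk x).app W').hom, mul_left_comm, IsUnit.mul_val_inv, mul_one,
    app_resX, app_resX, map_mul, map_pow, ← hvs, map_mul, map_mul, map_pow]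
  have hWT : X.fromSpecStalk x ⁻¹ᵁ W' ≤ X.fromSpecStalk x ⁻¹ᵁ D := (X.fromSpecStalk x).preimage_mono hWD
  have e : ∀ z, resX _ hle (algebraMap Γ(Spec (X.presheaf.stalk x), X.fromSpecStalk x ⁻¹ᵁ D)
      Γ(Spec (X.presheaf.stalk x), (Spec (X.presheaf.stalk x)).basicOpen ((X.fromSpecStalk x).app D g)) z) =
      resX _ hWT z := fun z =>
    resX_resX ((Spec (X.presheaf.stalk x)).basicOpen_le _) hle z
  rw [map_pow, e, e] at h1
  rw [← h1]
  ring

/-- Finitely many neighbourhoods have a common refinement. -/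
theorem exists_le_forall {κ : Type*} [Finite κ] (O : κ → X.Opens) (hO : ∀ k, x ∈ O k) :
    ∃ O' : X.Opens, x ∈ O' ∧ ∀ k, O' ≤ O k :=
  ⟨⟨⋂ k, (O k : Set X), isOpen_iInter_of_finite fun k => (O k).2⟩, Set.mem_iInter.2 hO,
    fun k => Set.iInter_subset _ k⟩

variable {ι : Type u} [Finite ι] (g : ι → Γ(X, D))

include hD hx in
/-- A cocycle which becomes a coboundary on the spectrum of the local ring is one near the point. -/
theorem exists_cob {η : ∀ a b, Γ(X, X.basicOpen (g a) ⊓ X.basicOpen (g b))}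
    (h : Cob (fun a => X.fromSpecStalk x ⁻¹ᵁ X.basicOpen (g a))
      (fun a b => (X.fromSpecStalk x).app _ (η a b)) ⊤) :
    ∃ O : X.Opens, x ∈ O ∧ Cob (fun a => X.basicOpen (g a)) η O := by
  obtain ⟨k, hk, hrel⟩ := h
  let f := X.fromSpecStalk x
  let k₁ : ∀ a, Γ(Spec (X.presheaf.stalk x), f ⁻¹ᵁ X.basicOpen (g a)) := fun a =>
    resX _ (le_inf le_rfl le_top) (k a)
  choose O₁ hO₁ c hc using fun a => exists_lift hD hx (g a) rfl (k₁ a)
  choose O₂ hO₂ d hd using fun a => exists_lift hD hx (g a) rfl ↑((hk a).map (resX _ (le_inf le_rfl le_top))).unit⁻¹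
  obtain ⟨O₀, hxO₀, hO₀⟩ := exists_le_forall (x := x) (fun p : ι ⊕ ι => p.elim O₁ O₂)
    (fun p => p.casesOn hO₁ hO₂)
  obtain ⟨s, hsO, hxs⟩ := hD.exists_basicOpen_le (⟨x, hxO₀⟩ : O₀) hx
  have hO₁' : ∀ a, X.basicOpen s ≤ O₁ a := fun a => hsO.trans (hO₀ (Sum.inl a))
  have hO₂' : ∀ a, X.basicOpen s ≤ O₂ a := fun a => hsO.trans (hO₀ (Sum.inr a))
  let W₁ : ι → X.Opens := fun a => X.basicOpen (g a) ⊓ X.basicOpen s
  let c' : ∀ a, Γ(X, W₁ a) := fun a => resX X (inf_le_inf_left _ (hO₁' a)) (c a)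
  let d' : ∀ a, Γ(X, W₁ a) := fun a => resX X (inf_le_inf_left _ (hO₂' a)) (d a)
  have h1 : ∀ a, ∃ O : X.Opens, x ∈ O ∧ ∀ (W : X.Opens) (h : W ≤ W₁ a), W ≤ O →
      resX X h (c' a * d' a - 1) = 0 := fun a => by
    refine exists_res_eq_zero hD hx (g a * s) (Scheme.basicOpen_mul _ _ _).symm _ ?_
    simp only [map_sub, map_mul, map_one, c', d', app_resX, hc, hd, resX_resX, sub_eq_zero]
    rw [← map_mul]
    exact (congrArg _ (IsUnit.mul_val_inv _)).trans (map_one _)
  have h2 : ∀ p : ι × ι, ∃ O : X.Opens, x ∈ O ∧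
      ∀ (W : X.Opens) (h : W ≤ X.basicOpen (g p.1) ⊓ X.basicOpen (g p.2) ⊓ X.basicOpen s), W ≤ O →
        resX X h (resX X (le_inf (inf_le_left.trans inf_le_right) inf_le_right) (c' p.2) -
          resX X (le_inf (inf_le_left.trans inf_le_left) inf_le_right) (c' p.1) *
            resX X inf_le_left (η p.1 p.2)) = 0 := fun p => by
    refine exists_res_eq_zero hD hx (g p.1 * g p.2 * s) (by rw [Scheme.basicOpen_mul, Scheme.basicOpen_mul]) _ ?_
    simp only [map_sub, map_mul, c', app_resX, hc, k₁, resX_resX, sub_eq_zero]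
    exact hrel p.1 p.2 _ ((X.fromSpecStalk x).preimage_mono (inf_le_left.trans inf_le_left))
      ((X.fromSpecStalk x).preimage_mono (inf_le_left.trans inf_le_right)) le_top
  choose O₃ hO₃ h3 using h1
  choose O₄ hO₄ h4 using h2
  obtain ⟨O, hxO, hO⟩ := exists_le_forall (x := x)
    (fun p : (ι ⊕ ι × ι) ⊕ PUnit.{1} => p.elim (fun q => q.elim O₃ O₄) fun _ => X.basicOpen s)
    (fun p => p.casesOn (fun q => q.casesOn hO₃ hO₄) fun _ => hxs)
  have hs : O ≤ X.basicOpen s := hO (Sum.inr PUnit.unit)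
  refine ⟨O, hxO, fun a => resX X (inf_le_inf_left _ hs) (c' a), fun a => ?_, fun a b W ha hb hW => ?_⟩
  · have := h3 a _ (inf_le_inf_left _ hs) (inf_le_right.trans (hO (Sum.inl (Sum.inl a))))
    rw [map_sub, map_mul, map_one, sub_eq_zero] at this
    exact IsUnit.of_mul_eq_one _ this
  · have := h4 (a, b) W (le_inf (le_inf ha hb) (hW.trans hs)) (hW.trans (hO (Sum.inl (Sum.inr (a, b)))))
    simp only [map_sub, map_mul, resX_resX, sub_eq_zero] at this ⊢
    exact this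

include hD hx in
/-- A cocycle on the spectrum of the local ring comes from a neighbourhood. -/
theorem exists_cocycle_lift
    {η' : ∀ a b, Γ(Spec (X.presheaf.stalk x),
      X.fromSpecStalk x ⁻¹ᵁ X.basicOpen (g a) ⊓ X.fromSpecStalk x ⁻¹ᵁ X.basicOpen (g b))}
    (h : IsCocycle (fun a => X.fromSpecStalk x ⁻¹ᵁ X.basicOpen (g a)) η') :
    ∃ O : X.Opens, x ∈ O ∧ ∀ O' : X.Opens, O' ≤ O →
      ∃ η : ∀ a b, Γ(X, (X.basicOpen (g a) ⊓ O') ⊓ (X.basicOpen (g b) ⊓ O')),
        IsCocycle (fun a => X.basicOpen (g a) ⊓ O') η ∧ ∀ a b,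
          (X.fromSpecStalk x).app ((X.basicOpen (g a) ⊓ O') ⊓ (X.basicOpen (g b) ⊓ O')) (η a b) =
            resX (Spec (X.presheaf.stalk x)) (inf_le_inf ((X.fromSpecStalk x).preimage_mono inf_le_left)
              ((X.fromSpecStalk x).preimage_mono inf_le_left)) (η' a b) := by
  let f := X.fromSpecStalk x
  let G : ι × ι → X.Opens := fun p => X.basicOpen (g p.1) ⊓ X.basicOpen (g p.2)
  have hG : ∀ p, G p = X.basicOpen (g p.1 * g p.2) := fun p => (Scheme.basicOpen_mul _ _ _).symm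
  let e : ∀ p : ι × ι, Γ(Spec (X.presheaf.stalk x), f ⁻¹ᵁ G p) := fun p => η' p.1 p.2
  choose O₁ hO₁ c hc using fun p => exists_lift hD hx _ (hG p) (e p)
  let e' : ∀ p : ι × ι, Γ(Spec (X.presheaf.stalk x), f ⁻¹ᵁ G p) := fun p =>
    ((↑((h.unit p.1 p.2).unit⁻¹) : Γ(Spec (X.presheaf.stalk x),
      X.fromSpecStalk x ⁻¹ᵁ X.basicOpen (g p.1) ⊓ X.fromSpecStalk x ⁻¹ᵁ X.basicOpen (g p.2))) :)
  choose O₂ hO₂ d hd using fun p : ι × ι => exists_lift hD hx _ (hG p) (e' p)
  obtain ⟨O₀, hxO₀, hO₀⟩ := exists_le_forall (x := x) (fun p : ι × ι ⊕ ι × ι => p.elim O₁ O₂)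
    (fun p => p.casesOn hO₁ hO₂)
  obtain ⟨s, hsO, hxs⟩ := hD.exists_basicOpen_le (⟨x, hxO₀⟩ : O₀) hx
  let S := X.basicOpen s
  have hS₁ : ∀ p, S ≤ O₁ p := fun p => hsO.trans (hO₀ (Sum.inl p))
  have hS₂ : ∀ p, S ≤ O₂ p := fun p => hsO.trans (hO₀ (Sum.inr p))
  let c' : ∀ p, Γ(X, G p ⊓ S) := fun p => resX X (inf_le_inf_left _ (hS₁ p)) (c p)
  let d' : ∀ p, Γ(X, G p ⊓ S) := fun p => resX X (inf_le_inf_left _ (hS₂ p)) (d p)
  have h1 : ∀ p, ∃ O : X.Opens, x ∈ O ∧ ∀ (W : X.Opens) (h : W ≤ G p ⊓ S), W ≤ O →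
      resX X h (c' p * d' p - 1) = 0 := fun p => by
    refine exists_res_eq_zero hD hx (g p.1 * g p.2 * s)
      (by rw [Scheme.basicOpen_mul, Scheme.basicOpen_mul]) _ ?_
    simp only [map_sub, map_mul, map_one, c', d', app_resX, hc, hd, resX_resX, sub_eq_zero]
    rw [← map_mul]
    refine (congrArg _ ?_).trans (map_one _)
    exact (h.unit p.1 p.2).mul_val_inv
  have h2 : ∀ p : ι × ι × ι, ∃ O : X.Opens, x ∈ O ∧
      ∀ (W : X.Opens) (hW : W ≤ X.basicOpen (g p.1) ⊓ X.basicOpen (g p.2.1) ⊓ X.basicOpen (g p.2.2) ⊓ S), W ≤ O →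
        resX X hW (resX X (inf_le_inf_right _ (inf_le_inf_right _ inf_le_left)) (c' (p.1, p.2.2)) -
          resX X (inf_le_inf_right _ inf_le_left) (c' (p.1, p.2.1)) *
            resX X (inf_le_inf_right _ (inf_le_inf_right _ inf_le_right)) (c' (p.2.1, p.2.2))) = 0 := fun p => by
    refine exists_res_eq_zero hD hx (g p.1 * g p.2.1 * g p.2.2 * s)
      (by rw [Scheme.basicOpen_mul, Scheme.basicOpen_mul, Scheme.basicOpen_mul]) _ ?_
    simp only [map_sub, map_mul, c', app_resX, hc, e, resX_resX, sub_eq_zero]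
    exact h.rel p.1 p.2.1 p.2.2 _
      ((X.fromSpecStalk x).preimage_mono (inf_le_left.trans (inf_le_left.trans inf_le_left)))
      ((X.fromSpecStalk x).preimage_mono (inf_le_left.trans (inf_le_left.trans inf_le_right)))
      ((X.fromSpecStalk x).preimage_mono (inf_le_left.trans inf_le_right))
  choose O₃ hO₃ h3 using h1
  choose O₄ hO₄ h4 using h2
  obtain ⟨O, hxO, hO⟩ := exists_le_forall (x := x)
    (fun p : (ι × ι ⊕ ι × ι × ι) ⊕ PUnit.{1} => p.elim (fun q => q.elim O₃ O₄) fun _ => S)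
    (fun p => p.casesOn (fun q => q.casesOn hO₃ hO₄) fun _ => hxs)
  refine ⟨O, hxO, fun O' hO' => ?_⟩
  have hs : O' ≤ S := hO'.trans (hO (Sum.inr PUnit.unit))
  refine ⟨fun a b => resX X (le_inf (inf_le_inf inf_le_left inf_le_left)
    (inf_le_left.trans (inf_le_right.trans hs))) (c' (a, b)), ⟨fun a b => ?_, fun a b d W ha hb hd => ?_⟩,
    fun a b => ?_⟩
  · have := h3 (a, b) ((X.basicOpen (g a) ⊓ O') ⊓ (X.basicOpen (g b) ⊓ O'))
      (le_inf (inf_le_inf inf_le_left inf_le_left) (inf_le_left.trans (inf_le_right.trans hs)))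
      (inf_le_left.trans (inf_le_right.trans (hO'.trans (hO (Sum.inl (Sum.inl (a, b)))))))
    rw [map_sub, map_mul, map_one, sub_eq_zero] at this
    exact IsUnit.of_mul_eq_one _ this
  · have := h4 (a, b, d) W
      (le_inf (le_inf (le_inf (ha.trans inf_le_left) (hb.trans inf_le_left)) (hd.trans inf_le_left))
        (ha.trans (inf_le_right.trans hs)))
      (ha.trans (inf_le_right.trans (hO'.trans (hO (Sum.inl (Sum.inr (a, b, d)))))))
    simp only [map_sub, map_mul, resX_resX, sub_eq_zero] at this ⊢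
    exact this
  · simp only [c', app_resX, hc, e, resX_resX]
    rfl

end Groth.ParaFormal
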